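import Mathlib
import Cfsg.Prelude.Def_Sporadic_a
import Cfsg.Agent.S0390
import Cfsg.Agent.Helper27.GolayWeights
import Cfsg.Agent.Helper27.Octads

set_option autoImplicit false

namespace Cfsg.Agent.Helper92

open Cfsg

/-- the additive subgroup whose carrier is `leechSet` -/
def leechSub : AddSubgroup (GolayPt → ℤ) where
  carrier := leechSet
  add_mem' := fun hx hy => Cfsg.Agent.S0390.add_mem hx hy
  zero_mem' := Cfsg.Agent.S0390.zero_mem
  neg_mem' := fun hx => Cfsg.Agent.S0390.neg_mem hx

theorem leechLattice_eq_leechSub : leechLattice = leechSub := by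
  apply le_antisymm
  · unfold leechLattice
    rw [AddSubgroup.closure_le]
    exact fun x hx => hx
  · intro x hx
    exact AddSubgroup.subset_closure hx

theorem mem_leechLattice_iff (x : GolayPt → ℤ) : x ∈ leechLattice ↔ x ∈ leechSet := by
  rw [leechLattice_eq_leechSub]
  rfl

/-- cardinalities of the supports of code words -/
theorem card_of_mem_supports {s : Finset GolayPt}
    (hs : s ∈ supports (golayCode : Set (GolayPt → ZMod 2))) :
    s.card = 0 ∨ s.card = 8 ∨ s.card = 12 ∨ s.card = 16 ∨ s.card = 24 := by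
  obtain ⟨w, hw, rfl⟩ := hs
  exact Cfsg.Agent.Helper27.weight_mem w hw

theorem four_dvd_card_of_mem_supports {s : Finset GolayPt}
    (hs : s ∈ supports (golayCode : Set (GolayPt → ZMod 2))) : 4 ∣ s.card := by
  rcases card_of_mem_supports hs with h | h | h | h | h <;> rw [h] <;> decide

theorem card_golayPt : Fintype.card GolayPt = 24 := by decide

theorem mem_cls4 (x : GolayPt → ℤ) (k : ℤ) (i : GolayPt) :
    i ∈ (Finset.univ.filter fun i => x i ≡ k [ZMOD 4]) ↔ x i % 4 = k % 4 := by
  rw [Finset.mem_filter]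
  simp [Int.ModEq]

/-- the class of coordinates congruent to `k` mod 4 -/
def cls (x : GolayPt → ℤ) (k : ℤ) : Finset GolayPt := Finset.univ.filter fun i => x i ≡ k [ZMOD 4]

theorem mem_cls (x : GolayPt → ℤ) (k : ℤ) (i : GolayPt) : i ∈ cls x k ↔ x i % 4 = k % 4 :=
  mem_cls4 x k i

theorem sum_indicator_cls (x : GolayPt → ℤ) (k : ℤ) :
    ∑ i, (if x i % 4 = k % 4 then (1 : ℤ) else 0) = (cls x k).card := by
  rw [Finset.sum_boole]
  have : (Finset.univ.filter fun i => x i % 4 = k % 4) = cls x k := by
    ext i
    rw [Finset.mem_filter, mem_cls]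
    simp
  rw [this]

/-! ### divisibility of the norm by 16 -/

theorem sq_even_aux (a : ℤ) (h : a % 2 = 0) :
    (16 : ℤ) ∣ a ^ 2 - 4 * (if a % 4 = 2 % 4 then (1 : ℤ) else 0) := by
  have h4 : a % 4 = 0 ∨ a % 4 = 2 := by omega
  rcases h4 with h4 | h4
  · obtain ⟨k, rfl⟩ : ∃ k, a = 4 * k := ⟨a / 4, by omega⟩
    rw [if_neg (by omega)]
    exact ⟨k ^ 2, by ring⟩
  · obtain ⟨k, rfl⟩ : ∃ k, a = 4 * k + 2 := ⟨a / 4, by omega⟩
    rw [if_pos (by omega)]
    exact ⟨k ^ 2 + k, by ring⟩

theorem sq_odd_aux (a : ℤ) (h : a % 2 = 1) :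
    (16 : ℤ) ∣ a ^ 2 - (3 + 2 * a - 4 * (if a % 4 = 1 % 4 then (1 : ℤ) else 0)) := by
  have h4 : a % 4 = 1 ∨ a % 4 = 3 := by omega
  rcases h4 with h4 | h4
  · obtain ⟨k, rfl⟩ : ∃ k, a = 4 * k + 1 := ⟨a / 4, by omega⟩
    rw [if_pos (by omega)]
    exact ⟨k ^ 2, by ring⟩
  · obtain ⟨k, rfl⟩ : ∃ k, a = 4 * k + 3 := ⟨a / 4, by omega⟩
    rw [if_neg (by omega)]
    exact ⟨k ^ 2 + k, by ring⟩

theorem sixteen_dvd_sqNorm_of_mem_leechSet {x : GolayPt → ℤ} (hx : x ∈ leechSet) :
    (16 : ℤ) ∣ sqNorm x := by
  obtain ⟨m, h1, h2, h3⟩ := hx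
  have hm : m % 2 = 0 ∨ m % 2 = 1 := by omega
  rcases hm with hm | hm
  · -- even type
    have hC := four_dvd_card_of_mem_supports (h3 2)
    change 4 ∣ (cls x 2).card at hC
    have hsum : (16 : ℤ) ∣ ∑ i, (x i ^ 2 - 4 * (if x i % 4 = 2 % 4 then (1 : ℤ) else 0)) := by
      apply Finset.dvd_sum
      intro i _
      apply sq_even_aux
      have := h1 i
      simp only [Int.ModEq] at this
      omega
    rw [Finset.sum_sub_distrib, ← Finset.mul_sum, sum_indicator_cls] at hsum
    obtain ⟨c, hc⟩ := hC
    unfold sqNorm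
    rw [hc] at hsum
    obtain ⟨d, hd⟩ := hsum
    refine ⟨d + c, ?_⟩
    push_cast at hd
    linarith
  · -- odd type
    have hC := four_dvd_card_of_mem_supports (h3 1)
    change 4 ∣ (cls x 1).card at hC
    have hsum : (16 : ℤ) ∣ ∑ i, (x i ^ 2 -
        (3 + 2 * x i - 4 * (if x i % 4 = 1 % 4 then (1 : ℤ) else 0))) := by
      apply Finset.dvd_sum
      intro i _
      apply sq_odd_aux
      have := h1 i
      simp only [Int.ModEq] at this
      omega
    rw [Finset.sum_sub_distrib, Finset.sum_sub_distrib, Finset.sum_add_distrib, ← Finset.mul_sum,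
      ← Finset.mul_sum, sum_indicator_cls] at hsum
    simp only [Finset.sum_const, Finset.card_univ, card_golayPt, nsmul_eq_mul] at hsum
    obtain ⟨c, hc⟩ := hC
    unfold sqNorm
    rw [hc] at hsum
    obtain ⟨d, hd⟩ := hsum
    simp only [Int.ModEq] at h2
    obtain ⟨t, ht⟩ : ∃ t, ∑ i, x i = 8 * t + 4 := ⟨(∑ i, x i) / 8, by omega⟩
    rw [ht] at hd
    refine ⟨d + 5 + t - c, ?_⟩
    push_cast at hd
    linarith

theorem sixteen_dvd_sqNorm {x : GolayPt → ℤ} (hx : x ∈ leechLattice) : (16 : ℤ) ∣ sqNorm x :=
  sixteen_dvd_sqNorm_of_mem_leechSet ((mem_leechLattice_iff x).1 hx)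

/-! ### the minimal norm -/

theorem thirtytwo_le_sqNorm_of_mem_leechSet {x : GolayPt → ℤ} (hx : x ∈ leechSet) (h0 : x ≠ 0) :
    32 ≤ sqNorm x := by
  obtain ⟨m, h1, h2, h3⟩ := hx
  have hm : m % 2 = 0 ∨ m % 2 = 1 := by omega
  rcases hm with hm | hm
  · -- even type
    have hpar : ∀ i, x i % 2 = 0 := fun i => by
      have := h1 i
      simp only [Int.ModEq] at this
      omega
    have h32 := h3 2
    change cls x 2 ∈ _ at h32
    rcases card_of_mem_supports h32 with hc | hc
    · -- class 2 empty : all coordinates divisible by 4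
      have hall : ∀ i, x i % 4 = 0 := by
        intro i
        have hi : i ∉ cls x 2 := by
          rw [Finset.card_eq_zero.1 hc]
          simp
        rw [mem_cls] at hi
        have := hpar i
        omega
      obtain ⟨i, hi⟩ : ∃ i, x i ≠ 0 := by
        by_contra hcon
        push Not at hcon
        exact h0 (funext hcon)
      have hi16 : 16 ≤ x i ^ 2 := by
        have := hall i
        have : 4 ≤ x i ∨ x i ≤ -4 := by omega
        rcases this with h | h <;> nlinarith
      by_cases hj : ∃ j, j ≠ i ∧ x j ≠ 0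
      · obtain ⟨j, hji, hj⟩ := hj
        have hj16 : 16 ≤ x j ^ 2 := by
          have := hall j
          have : 4 ≤ x j ∨ x j ≤ -4 := by omega
          rcases this with h | h <;> nlinarith
        unfold sqNorm
        have : x i ^ 2 + x j ^ 2 ≤ ∑ k, x k ^ 2 := by
          have := Finset.sum_le_sum_of_subset_of_nonneg (s := {i, j}) (t := Finset.univ)
            (f := fun k => x k ^ 2) (Finset.subset_univ _) (fun _ _ _ => sq_nonneg _)
          rwa [Finset.sum_pair hji.symm] at this
        linarith
      · push Not at hj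
        have hsum : ∑ k, x k = x i :=
          Finset.sum_eq_single i (fun j _ hji => hj j hji) (by simp)
        simp only [Int.ModEq] at h2
        rw [hsum] at h2
        have := hall i
        have : 8 ≤ x i ∨ x i ≤ -8 := by omega
        have : 64 ≤ x i ^ 2 := by
          rcases this with h | h <;> nlinarith
        unfold sqNorm
        have := Finset.single_le_sum (f := fun k => x k ^ 2) (fun _ _ => sq_nonneg _)
          (Finset.mem_univ i)
        linarith
    · -- class 2 has at least 8 elements
      have h8 : 8 ≤ (cls x 2).card := by rcases hc with h | h | h | h <;> omega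
      unfold sqNorm
      have hsub : ∑ i ∈ cls x 2, x i ^ 2 ≤ ∑ i, x i ^ 2 :=
        Finset.sum_le_sum_of_subset_of_nonneg (Finset.subset_univ _) (fun _ _ _ => sq_nonneg _)
      have hge : (cls x 2).card • (4 : ℤ) ≤ ∑ i ∈ cls x 2, x i ^ 2 := by
        apply Finset.card_nsmul_le_sum
        intro i hi
        rw [mem_cls] at hi
        have : 2 ≤ x i ∨ x i ≤ -2 := by omega
        rcases this with h | h <;> nlinarith
      rw [nsmul_eq_mul] at hge
      have : (8 : ℤ) ≤ (cls x 2).card := by exact_mod_cast h8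
      linarith
  · -- odd type
    have hpar : ∀ i, x i % 2 = 1 := fun i => by
      have := h1 i
      simp only [Int.ModEq] at this
      omega
    by_contra hlt
    push Not at hlt
    have hone : ∀ i, x i ^ 2 = 1 := by
      intro i
      by_contra hne
      have h9 : 9 ≤ x i ^ 2 := by
        have := hpar i
        have h1' : x i ≠ 1 := by
          intro h
          apply hne
          rw [h]
          norm_num
        have h2' : x i ≠ -1 := by
          intro h
          apply hne
          rw [h]
          norm_num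
        have : 3 ≤ x i ∨ x i ≤ -3 := by omega
        rcases this with h | h <;> nlinarith
      have hrest : (23 : ℤ) ≤ ∑ k ∈ Finset.univ.erase i, x k ^ 2 := by
        have := Finset.card_nsmul_le_sum (Finset.univ.erase i) (fun k => x k ^ 2) 1 (fun k _ => by
            have := hpar k
            have : 1 ≤ x k ∨ x k ≤ -1 := by omega
            rcases this with h | h <;> nlinarith)
        rw [Finset.card_erase_of_mem (Finset.mem_univ i), Finset.card_univ, card_golayPt] at this
        simpa using this
      have := Finset.add_sum_erase Finset.univ (fun k => x k ^ 2) (Finset.mem_univ i)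
      unfold sqNorm at hlt
      linarith
    have hval : ∀ i, x i = 2 * (if x i % 4 = 1 % 4 then (1 : ℤ) else 0) - 1 := by
      intro i
      have h := hone i
      have : x i = 1 ∨ x i = -1 := by
        have : (x i - 1) * (x i + 1) = 0 := by
          ring_nf
          linarith
        rcases mul_eq_zero.1 this with h | h
        · left
          linarith
        · right
          linarith
      rcases this with h | h <;> rw [h] <;> norm_num
    have hsum : ∑ i, x i = 2 * ((cls x 1).card : ℤ) - 24 := by
      calc ∑ i, x i = ∑ i, (2 * (if x i % 4 = 1 % 4 then (1 : ℤ) else 0) - 1) :=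
            Finset.sum_congr rfl (fun i _ => hval i)
      _ = _ := by
        rw [Finset.sum_sub_distrib, ← Finset.mul_sum, sum_indicator_cls]
        simp
    have h31 := h3 1
    change cls x 1 ∈ _ at h31
    obtain ⟨c, hc⟩ := four_dvd_card_of_mem_supports h31
    simp only [Int.ModEq] at h2
    rw [hsum, hc] at h2
    push_cast at h2
    omega

theorem thirtytwo_le_sqNorm {x : GolayPt → ℤ} (hx : x ∈ leechLattice) (h0 : x ≠ 0) :
    32 ≤ sqNorm x :=
  thirtytwo_le_sqNorm_of_mem_leechSet ((mem_leechLattice_iff x).1 hx) h0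

end Cfsg.Agent.Helper92
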