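import Mathlib
import Cfsg.Agent.Helper92.LeechBasic

set_option autoImplicit false

namespace Cfsg.Agent.Helper92

open Cfsg

/-- integer vectors on the 24 points -/
abbrev ZV := GolayPt → ℤ
/-- binary vectors on the 24 points -/
abbrev FV := GolayPt → ZMod 2

/-- reduction mod 2 -/
def red : ZV →+ FV where
  toFun := fun x i => (x i : ZMod 2)
  map_zero' := by
    ext i
    simp
  map_add' := by
    intro x y
    ext i
    simp

theorem red_apply (x : ZV) (i : GolayPt) : red x i = (x i : ZMod 2) := rfl

theorem intCast_zmod2_eq_zero_iff (a : ℤ) : (a : ZMod 2) = 0 ↔ a % 2 = 0 := by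
  rw [ZMod.intCast_zmod_eq_zero_iff_dvd]
  omega

theorem intCast_zmod4_eq_zero_iff (a : ℤ) : (a : ZMod 4) = 0 ↔ a % 4 = 0 := by
  rw [ZMod.intCast_zmod_eq_zero_iff_dvd]
  omega

theorem red_apply_eq_zero_iff (x : ZV) (i : GolayPt) : red x i = 0 ↔ x i % 2 = 0 := by
  rw [red_apply, intCast_zmod2_eq_zero_iff]

theorem mem_support₂_red (x : ZV) (i : GolayPt) : i ∈ support₂ (red x) ↔ x i % 2 = 1 := by
  rw [Cfsg.Agent.Helper7.mem_support₂, Ne, red_apply_eq_zero_iff]
  omega

theorem red_surjective : Function.Surjective red := by
  intro w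
  refine ⟨fun i => ((w i).val : ℤ), ?_⟩
  ext i
  rw [red_apply]
  simp

theorem card_FV : Nat.card FV = 2 ^ 24 := by
  rw [Nat.card_eq_fintype_card, Fintype.card_fun, ZMod.card, card_golayPt]

/-- vectors whose reduction mod 2 is a code word -/
def latD : AddSubgroup ZV := golayCode.toAddSubgroup.comap red

theorem mem_latD (y : ZV) : y ∈ latD ↔ red y ∈ golayCode := Iff.rfl

theorem index_latD : latD.index = 2 ^ 12 := by
  unfold latD
  rw [AddSubgroup.index_comap_of_surjective _ red_surjective]
  have h := AddSubgroup.card_mul_index golayCode.toAddSubgroup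
  have hc : Nat.card golayCode.toAddSubgroup = 4096 := Cfsg.Agent.Helper27.card_golayCode
  rw [hc, card_FV] at h
  have : (4096 : ℕ) = 2 ^ 12 := by norm_num
  rw [this] at h
  have h2 : (2 : ℕ) ^ 24 = 2 ^ 12 * 2 ^ 12 := by norm_num
  rw [h2] at h
  exact Nat.eq_of_mul_eq_mul_left (by norm_num) h

/-- the coordinate sum mod 4 -/
def sig : ZV →+ ZMod 4 where
  toFun := fun x => ((∑ i, x i : ℤ) : ZMod 4)
  map_zero' := by simp
  map_add' := by
    intro x y
    simp only [Pi.add_apply, Finset.sum_add_distrib]
    push_cast
    rfl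

theorem sig_apply (x : ZV) : sig x = ((∑ i, x i : ℤ) : ZMod 4) := rfl

theorem sig_eq_zero_iff (x : ZV) : sig x = 0 ↔ (∑ i, x i) % 4 = 0 := by
  rw [sig_apply, intCast_zmod4_eq_zero_iff]

/-- the sum of the coordinates of a vector of `latD` is even -/
theorem even_sum_of_mem_latD {y : ZV} (hy : y ∈ latD) : (∑ i, y i) % 2 = 0 := by
  have hs : support₂ (red y) ∈ supports (golayCode : Set FV) := ⟨red y, hy, rfl⟩
  obtain ⟨c, hc⟩ := four_dvd_card_of_mem_supports hs
  have hsum : (2 : ℤ) ∣ ∑ i, (y i - (if y i % 2 = 1 then (1 : ℤ) else 0)) := by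
    apply Finset.dvd_sum
    intro i _
    split_ifs with h <;> omega
  rw [Finset.sum_sub_distrib, Finset.sum_boole] at hsum
  have hf : (Finset.univ.filter fun i => y i % 2 = 1) = support₂ (red y) := by
    ext i
    rw [Finset.mem_filter, mem_support₂_red]
    simp
  rw [hf, hc] at hsum
  push_cast at hsum
  omega

/-- `latD` with coordinate sum divisible by 4 -/
def latE : AddSubgroup ZV := sig.ker ⊓ latD

theorem mem_latE (y : ZV) : y ∈ latE ↔ (∑ i, y i) % 4 = 0 ∧ red y ∈ golayCode := by
  unfold latE
  rw [AddSubgroup.mem_inf, AddMonoidHom.mem_ker, sig_eq_zero_iff, mem_latD]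

theorem addOrderOf_two_zmod4 : addOrderOf (2 : ZMod 4) = 2 := by
  apply addOrderOf_eq_prime
  · decide
  · decide

theorem map_sig_latD : latD.map sig = AddSubgroup.zmultiples (2 : ZMod 4) := by
  apply le_antisymm
  · rintro _ ⟨y, hy, rfl⟩
    have h := even_sum_of_mem_latD hy
    rw [AddSubgroup.mem_zmultiples_iff]
    refine ⟨(∑ i, y i) / 2, ?_⟩
    rw [sig_apply]
    have : (∑ i, y i) = (∑ i, y i) / 2 * 2 := by omega
    conv_rhs => rw [this]
    push_cast
    simp
  · rw [AddSubgroup.zmultiples_le]
    refine ⟨fun i => if i = none then 2 else 0, ?_, ?_⟩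
    · change red _ ∈ golayCode
      have : red (fun i => if i = none then (2 : ℤ) else 0) = 0 := by
        ext i
        rw [Pi.zero_apply, red_apply_eq_zero_iff]
        split_ifs <;> decide
      rw [this]
      exact golayCode.zero_mem
    · rw [sig_apply]
      decide

theorem relIndex_latE : latE.relIndex latD = 2 := by
  unfold latE
  rw [AddSubgroup.inf_relIndex_right, AddSubgroup.relIndex_ker, map_sig_latD,
    Nat.card_zmultiples, addOrderOf_two_zmod4]

theorem index_latE : latE.index = 2 ^ 13 := by
  have h := AddSubgroup.relIndex_mul_index (show latE ≤ latD from inf_le_right)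
  rw [relIndex_latE, index_latD] at h
  rw [← h]
  norm_num

/-- doubling -/
def dbl : ZV →+ ZV where
  toFun := fun x i => 2 * x i
  map_zero' := by
    ext i
    simp
  map_add' := by
    intro x y
    ext i
    simp [mul_add]

theorem dbl_apply (x : ZV) (i : GolayPt) : dbl x i = 2 * x i := rfl

theorem dbl_injective : Function.Injective dbl := by
  intro x y h
  ext i
  have := congrFun h i
  rw [dbl_apply, dbl_apply] at this
  omega

theorem range_dbl : dbl.range = red.ker := by
  ext x
  rw [AddMonoidHom.mem_range, AddMonoidHom.mem_ker]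
  constructor
  · rintro ⟨y, rfl⟩
    ext i
    rw [Pi.zero_apply, red_apply_eq_zero_iff, dbl_apply]
    omega
  · intro h
    refine ⟨fun i => x i / 2, ?_⟩
    ext i
    rw [dbl_apply]
    have := congrFun h i
    rw [Pi.zero_apply, red_apply_eq_zero_iff] at this
    omega

theorem index_range_dbl : dbl.range.index = 2 ^ 24 := by
  rw [range_dbl, AddSubgroup.index_ker, AddMonoidHom.range_eq_top.2 red_surjective,
    AddSubgroup.card_top, card_FV]

/-- the even part of the lattice -/
def lam0 : AddSubgroup ZV := latE.map dbl

theorem index_lam0 : lam0.index = 2 ^ 37 := by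
  unfold lam0
  rw [AddSubgroup.index_map_of_injective _ dbl_injective, index_latE, index_range_dbl]
  norm_num

theorem zmod2_one_add_ne_zero : ∀ a : ZMod 2, (1 + a ≠ 0) ↔ a = 0 := by decide

theorem mem_lam0_iff (x : ZV) : x ∈ lam0 ↔ x ∈ leechSet ∧ x none % 2 = 0 := by
  constructor
  · rintro ⟨y, hy, rfl⟩
    rw [SetLike.mem_coe, mem_latE] at hy
    obtain ⟨hs, hc⟩ := hy
    refine ⟨⟨0, ?_, ?_, ?_⟩, ?_⟩
    · intro i
      change dbl y i % 2 = 0 % 2
      rw [dbl_apply]
      omega
    · change (∑ i, dbl y i) % 8 = (4 * 0) % 8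
      simp only [dbl_apply]
      rw [← Finset.mul_sum]
      omega
    · intro k
      change cls (dbl y) k ∈ _
      have hk : k % 4 = 0 ∨ k % 4 = 2 ∨ k % 4 = 1 ∨ k % 4 = 3 := by omega
      rcases hk with hk | hk | hk | hk
      · refine ⟨1 + red y, golayCode.add_mem Cfsg.Agent.Helper7.one_mem_golayCode hc, ?_⟩
        ext i
        rw [Cfsg.Agent.Helper7.mem_support₂, mem_cls, Pi.add_apply, Pi.one_apply,
          zmod2_one_add_ne_zero, red_apply_eq_zero_iff, dbl_apply]
        omega
      · refine ⟨red y, hc, ?_⟩
        ext i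
        rw [mem_support₂_red, mem_cls, dbl_apply]
        omega
      · have : cls (dbl y) k = ∅ := by
          ext i
          rw [mem_cls, dbl_apply]
          simp only [Finset.notMem_empty, iff_false]
          omega
        rw [this]
        exact Cfsg.Agent.S0390.empty_mem_supports
      · have : cls (dbl y) k = ∅ := by
          ext i
          rw [mem_cls, dbl_apply]
          simp only [Finset.notMem_empty, iff_false]
          omega
        rw [this]
        exact Cfsg.Agent.S0390.empty_mem_supports
    · rw [dbl_apply]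
      omega
  · rintro ⟨⟨m, h1, h2, h3⟩, hev⟩
    have hm : m % 2 = 0 := by
      have := h1 none
      simp only [Int.ModEq] at this
      omega
    have hpar : ∀ i, x i % 2 = 0 := fun i => by
      have := h1 i
      simp only [Int.ModEq] at this
      omega
    refine ⟨fun i => x i / 2, ?_, ?_⟩
    · rw [SetLike.mem_coe, mem_latE]
      constructor
      · have e : 2 * ∑ i, x i / 2 = ∑ i, x i := by
          rw [Finset.mul_sum]
          apply Finset.sum_congr rfl
          intro i _
          have := hpar i
          omega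
        simp only [Int.ModEq] at h2
        omega
      · obtain ⟨w, hw, hsw⟩ := h3 2
        have : red (fun i => x i / 2) = w := by
          apply Cfsg.Agent.Helper7.support₂_injective
          rw [hsw]
          ext i
          rw [mem_support₂_red, mem_cls4]
          have := hpar i
          omega
        rw [this]
        exact hw
    · ext i
      rw [dbl_apply]
      have := hpar i
      omega

/-- the parity of the coordinate at the extra point -/
def par : ZV →+ ZMod 2 where
  toFun := fun x => (x none : ZMod 2)
  map_zero' := by simp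
  map_add' := by
    intro x y
    simp

theorem par_apply (x : ZV) : par x = (x none : ZMod 2) := rfl

theorem lam0_eq : lam0 = par.ker ⊓ leechLattice := by
  ext x
  rw [mem_lam0_iff, AddSubgroup.mem_inf, AddMonoidHom.mem_ker, par_apply,
    intCast_zmod2_eq_zero_iff, mem_leechLattice_iff]
  exact and_comm

/-- the vector `(-3, 1, 1, ..., 1)` -/
def oddVec : ZV := fun i => if i = none then -3 else 1

theorem oddVec_mem : oddVec ∈ leechSet := by
  refine ⟨1, ?_, ?_, ?_⟩
  · intro i
    unfold oddVec
    split_ifs <;> decide
  · decide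
  · intro k
    change cls oddVec k ∈ _
    by_cases hk : k % 4 = 1
    · have : cls oddVec k = Finset.univ := by
        ext i
        rw [mem_cls]
        unfold oddVec
        simp only [Finset.mem_univ, iff_true]
        split_ifs <;> omega
      rw [this]
      exact Cfsg.Agent.S0390.univ_mem_supports
    · have : cls oddVec k = ∅ := by
        ext i
        rw [mem_cls]
        unfold oddVec
        simp only [Finset.notMem_empty, iff_false]
        split_ifs <;> omega
      rw [this]
      exact Cfsg.Agent.S0390.empty_mem_supports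

theorem map_par_leech : leechLattice.map par = ⊤ := by
  rw [AddSubgroup.eq_top_iff']
  intro z
  have hz : z = 0 ∨ z = 1 := by
    revert z
    decide
  rcases hz with rfl | rfl
  · exact AddSubgroup.zero_mem _
  · refine ⟨oddVec, (mem_leechLattice_iff _).2 oddVec_mem, ?_⟩
    rw [par_apply]
    decide

theorem relIndex_lam0 : lam0.relIndex leechLattice = 2 := by
  rw [lam0_eq, AddSubgroup.inf_relIndex_right, AddSubgroup.relIndex_ker, map_par_leech,
    AddSubgroup.card_top, Nat.card_zmod]

theorem lam0_le : lam0 ≤ leechLattice := by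
  rw [lam0_eq]
  exact inf_le_right

theorem index_leechLattice : leechLattice.index = 2 ^ 36 := by
  have h := AddSubgroup.relIndex_mul_index lam0_le
  rw [relIndex_lam0, index_lam0] at h
  have : (2 : ℕ) ^ 37 = 2 * 2 ^ 36 := by norm_num
  rw [this] at h
  exact Nat.eq_of_mul_eq_mul_left (by norm_num) h

end Cfsg.Agent.Helper92
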