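import Mathlib
import Cfsg.Prelude.Def_Sporadic_a

set_option autoImplicit false

namespace Cfsg.Agent.Helper92

open Cfsg

theorem sqNorm_add_add_sqNorm_sub (v w : GolayPt → ℤ) :
    sqNorm (v + w) + sqNorm (v - w) = 2 * sqNorm v + 2 * sqNorm w := by
  unfold sqNorm
  rw [← Finset.sum_add_distrib, Finset.mul_sum, Finset.mul_sum, ← Finset.sum_add_distrib]
  apply Finset.sum_congr rfl
  intro i _
  simp only [Pi.add_apply, Pi.sub_apply]
  ring

theorem sqNorm_two_smul (z : GolayPt → ℤ) : sqNorm (2 • z) = 4 * sqNorm z := by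
  unfold sqNorm
  rw [Finset.mul_sum]
  apply Finset.sum_congr rfl
  intro i _
  simp only [Pi.smul_apply, smul_eq_mul]
  ring

theorem sqNorm_neg (z : GolayPt → ℤ) : sqNorm (-z) = sqNorm z := by
  unfold sqNorm
  apply Finset.sum_congr rfl
  intro i _
  simp only [Pi.neg_apply]
  ring

/-- Short Leech vectors congruent mod `2Λ`, assuming the minimal-norm bound. -/
theorem short_congruent_of_min_norm
    (hmin : ∀ x : GolayPt → ℤ, x ∈ leechLattice → x ≠ 0 → 32 ≤ sqNorm x)
    (v w : GolayPt → ℤ) (hv : v ∈ leechLattice) (hw : w ∈ leechLattice)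
    (hvn : sqNorm v ≤ 64) (hwn : sqNorm w ≤ 64)
    (hc : ∃ z ∈ leechLattice, v - w = 2 • z) :
    w = v ∨ w = -v ∨ (sqNorm v = 64 ∧ sqNorm w = 64 ∧ sqNorm (v - w) = 128 ∧ sqNorm (v + w) = 128) := by
  obtain ⟨z, hz, hvw⟩ := hc
  by_cases h1 : v - w = 0
  · left; exact (sub_eq_zero.1 h1).symm
  by_cases h2 : v + w = 0
  · right; left; exact (neg_eq_of_add_eq_zero_right h2).symm
  right; right
  -- v + w = 2 • (z + w)
  have hvw' : v + w = 2 • (z + w) := by
    have : v + w = (v - w) + 2 • w := by rw [two_smul]; abel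
    rw [this, hvw, smul_add]
  have hz0 : z ≠ 0 := by
    intro h; apply h1; rw [hvw, h, smul_zero]
  have hzw0 : z + w ≠ 0 := by
    intro h; apply h2; rw [hvw', h, smul_zero]
  have n1 := hmin z hz hz0
  have n2 := hmin (z + w) (leechLattice.add_mem hz hw) hzw0
  have e1 : sqNorm (v - w) = 4 * sqNorm z := by rw [hvw, sqNorm_two_smul]
  have e2 : sqNorm (v + w) = 4 * sqNorm (z + w) := by rw [hvw', sqNorm_two_smul]
  have e3 := sqNorm_add_add_sqNorm_sub v w
  refine ⟨by omega, by omega, by omega, by omega⟩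

end Cfsg.Agent.Helper92
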