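import Cfsg.Agent.Helper27.GolayWeights
import Cfsg.Agent.Helper7.Basic

/-!
Permutations of the 24 points given by explicit tables of indices, with a kernel-friendly
membership test for `Cfsg.M24` (built on the bit-mask model of `Helper27`).
-/

set_option autoImplicit false

namespace Cfsg.Agent.Helper92

open Cfsg Cfsg.Agent.Helper27 Cfsg.Agent.Helper7

/-- the function on points given by a table of indices -/
def tabFun (t : List ℕ) (p : GolayPt) : GolayPt := gPt (t.getD (gIdx p) 0)

/-- `t` and `s` are mutually inverse tables on `[0, 24)` -/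
def isInvPair (t s : List ℕ) : Bool :=
  (List.range 24).all fun i =>
    decide (t.getD i 0 < 24) && decide (s.getD i 0 < 24) &&
      (s.getD (t.getD i 0) 0 == i) && (t.getD (s.getD i 0) 0 == i)

theorem isInvPair_spec {t s : List ℕ} (h : isInvPair t s = true) (i : ℕ) (hi : i < 24) :
    t.getD i 0 < 24 ∧ s.getD i 0 < 24 ∧ s.getD (t.getD i 0) 0 = i ∧ t.getD (s.getD i 0) 0 = i := by
  unfold isInvPair at h
  rw [List.all_eq_true] at h
  have := h i (List.mem_range.2 hi)
  simp only [Bool.and_eq_true, decide_eq_true_eq, beq_iff_eq] at this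
  tauto

theorem tabFun_leftInverse {t s : List ℕ} (h : isInvPair t s = true) :
    Function.LeftInverse (tabFun s) (tabFun t) := by
  intro p
  obtain ⟨h1, -, h3, -⟩ := isInvPair_spec h (gIdx p) (gIdx_lt p)
  unfold tabFun
  rw [gIdx_gPt _ h1, h3, gPt_gIdx]

theorem tabFun_rightInverse {t s : List ℕ} (h : isInvPair t s = true) :
    Function.RightInverse (tabFun s) (tabFun t) := by
  intro p
  obtain ⟨-, h2, -, h4⟩ := isInvPair_spec h (gIdx p) (gIdx_lt p)
  unfold tabFun
  rw [gIdx_gPt _ h2, h4, gPt_gIdx]

/-- the permutation with table `t` and inverse table `s` (the identity if the tables are not valid) -/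
def permOfTabs (t s : List ℕ) : Equiv.Perm GolayPt :=
  if h : isInvPair t s = true then
    ⟨tabFun t, tabFun s, tabFun_leftInverse h, tabFun_rightInverse h⟩
  else 1

theorem permOfTabs_apply {t s : List ℕ} (h : isInvPair t s = true) (p : GolayPt) :
    permOfTabs t s p = tabFun t p := by
  unfold permOfTabs
  rw [dif_pos h]
  rfl

theorem permOfTabs_symm_apply {t s : List ℕ} (h : isInvPair t s = true) (p : GolayPt) :
    (permOfTabs t s).symm p = tabFun s p := by
  unfold permOfTabs
  rw [dif_pos h]
  rfl

theorem permOfTabs_gPt {t s : List ℕ} (h : isInvPair t s = true) (i : ℕ) (hi : i < 24) :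
    permOfTabs t s (gPt i) = gPt (t.getD i 0) := by
  rw [permOfTabs_apply h, tabFun, gIdx_gPt i hi]

/-- image of a mask under the permutation whose inverse table is `s` -/
def pmask (s : List ℕ) (m : ℕ) : ℕ := Nat.ofBits fun i : Fin 24 => m.testBit (s.getD i 0)

theorem pmask_lt (s : List ℕ) (m : ℕ) : pmask s m < 2 ^ 24 := Nat.ofBits_lt_two_pow _

theorem testBit_pmask (s : List ℕ) (m : ℕ) (i : ℕ) (hi : i < 24) :
    (pmask s m).testBit i = m.testBit (s.getD i 0) := by
  unfold pmask
  rw [Nat.testBit_ofBits_lt _ _ hi]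

theorem permL_wordOf {t s : List ℕ} (h : isInvPair t s = true) (m : ℕ) :
    permL (permOfTabs t s) (wordOf m) = wordOf (pmask s m) := by
  funext p
  rw [permL_apply, permOfTabs_symm_apply h, wordOf_apply, wordOf_apply,
    testBit_pmask _ _ _ (gIdx_lt p), tabFun,
    gIdx_gPt _ (isInvPair_spec h (gIdx p) (gIdx_lt p)).2.1]

/-- image of a set given by a mask -/
theorem image_setOf {t s : List ℕ} (h : isInvPair t s = true) (m : ℕ) (p : GolayPt) :
    p ∈ setOf (pmask s m) ↔ (permOfTabs t s).symm p ∈ setOf m := by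
  rw [mem_setOf, mem_setOf, testBit_pmask _ _ _ (gIdx_lt p), permOfTabs_symm_apply h, tabFun,
    gIdx_gPt _ (isInvPair_spec h (gIdx p) (gIdx_lt p)).2.1]

/-- kernel-friendly test that the permutation with inverse table `s` preserves the code -/
def checkM24 (s : List ℕ) : Bool := gBasis.all fun b => isCode (pmask s b)

theorem mem_M24_of_forall_gBasis (g : Equiv.Perm GolayPt)
    (h : ∀ b ∈ gBasis, permL g (wordOf b) ∈ golayCode) : g ∈ M24 := by
  rw [mem_M24_iff_le]
  rintro _ ⟨w, hw, rfl⟩
  obtain ⟨c, -, rfl⟩ := exists_encode_of_mem hw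
  have := wordOf_encodeWith_mem (golayCode.comap (permL g : V →ₗ[ZMod 2] V)) gBasis
    (fun r hr => by rw [Submodule.mem_comap]; exact h r hr) c
  rw [Submodule.mem_comap] at this
  exact this

theorem permOfTabs_mem_M24 {t s : List ℕ} (h : isInvPair t s = true) (hc : checkM24 s = true) :
    permOfTabs t s ∈ M24 := by
  apply mem_M24_of_forall_gBasis
  intro b hb
  rw [permL_wordOf h, wordOf_mem_golayCode_iff (pmask_lt s b)]
  unfold checkM24 at hc
  rw [List.all_eq_true] at hc
  exact hc b hb

/-- a table-permutation is not the identity when its table moves some index -/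
theorem permOfTabs_ne_one {t s : List ℕ} (h : isInvPair t s = true) (i : ℕ) (hi : i < 24)
    (hne : t.getD i 0 ≠ i) : permOfTabs t s ≠ 1 := by
  intro h1
  have := permOfTabs_gPt h i hi
  rw [h1, Equiv.Perm.one_apply] at this
  apply hne
  have h2 := congrArg gIdx this
  rw [gIdx_gPt i hi, gIdx_gPt _ (isInvPair_spec h i hi).1] at h2
  exact h2.symm

end Cfsg.Agent.Helper92
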