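import Cfsg.Agent.Helper92.ConjNorm

/-!
# Conjugacy classes of elements of order 2 and 3 in `M24`

Every involution of `M24` is conjugate to `T2A` (8 fixed points) or `T2B` (no fixed point);
every element of order 3 is conjugate to `T3A` (6 fixed points) or `T3B` (no fixed point).
(Generated file: search certificates checked by `Helper92.check_sound`.)
-/

set_option autoImplicit false

namespace Cfsg.Agent.Helper92

open Cfsg Cfsg.Agent.Helper27 Cfsg.Agent.Helper7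

/-! ### transitivity on short lists -/

theorem chainOK_m24_2 : chainOK [] [23, 0] [lev0, lev1] = true := by decide +kernel
theorem chainOK_m24_3 : chainOK [] [23, 0, 1] [lev0, lev1, lev2] = true := by decide +kernel
theorem chainOK_m24_4 : chainOK [] [23, 0, 1, 2] [lev0, lev1, lev2, lev3] = true := by decide +kernel

theorem exists_sends_m24_2 (c₁ c₂ : GolayPt) (hnd : [c₁, c₂].Nodup) :
    ∃ h ∈ M24, h c₁ = gPt 23 ∧ h c₂ = gPt 0 := by
  obtain ⟨h, hM, hs⟩ := exists_sends_of_chainOK chainOK_m24_2 [c₁, c₂] rfl hnd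
  refine ⟨h, hM, hs (c₁, 23) ?_, hs (c₂, 0) ?_⟩ <;> simp

theorem exists_sends_m24_3 (c₁ c₂ c₃ : GolayPt) (hnd : [c₁, c₂, c₃].Nodup) :
    ∃ h ∈ M24, h c₁ = gPt 23 ∧ h c₂ = gPt 0 ∧ h c₃ = gPt 1 := by
  obtain ⟨h, hM, hs⟩ := exists_sends_of_chainOK chainOK_m24_3 [c₁, c₂, c₃] rfl hnd
  refine ⟨h, hM, hs (c₁, 23) ?_, hs (c₂, 0) ?_, hs (c₃, 1) ?_⟩ <;> simp

theorem exists_sends_m24_4 (c₁ c₂ c₃ c₄ : GolayPt) (hnd : [c₁, c₂, c₃, c₄].Nodup) :
    ∃ h ∈ M24, h c₁ = gPt 23 ∧ h c₂ = gPt 0 ∧ h c₃ = gPt 1 ∧ h c₄ = gPt 2 := by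
  obtain ⟨h, hM, hs⟩ := exists_sends_of_chainOK chainOK_m24_4 [c₁, c₂, c₃, c₄] rfl hnd
  refine ⟨h, hM, hs (c₁, 23) ?_, hs (c₂, 0) ?_, hs (c₃, 1) ?_, hs (c₄, 2) ?_⟩ <;> simp

/-! ### conjugator certificates -/

/-- entries: solution table, conjugator with its inverse table, index of the target -/
def conjOK (tA tB : List ℕ × List ℕ) (L : List (List ℕ × (List ℕ × List ℕ) × ℕ)) : Bool :=
  isInvPair tA.1 tA.2 && isInvPair tB.1 tB.2 &&
    L.all fun e => isInvPair e.2.1.1 e.2.1.2 && checkM24 e.2.1.2 &&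
      (compTab e.2.1.1 (compTab e.1 e.2.1.2) == if e.2.2 = 0 then tA.1 else tB.1)

/-- the table is one of the listed solutions -/
def QL (L : List (List ℕ × (List ℕ × List ℕ) × ℕ)) (tab : List ℕ) : Bool :=
  validTab tab && L.any fun e => e.1 == tab

theorem conj_conj (k h g : Equiv.Perm GolayPt) :
    k * (h * g * h⁻¹) * k⁻¹ = (k * h) * g * (k * h)⁻¹ := by
  group

theorem exists_conj_of_check {K : ℕ} {g : Equiv.Perm GolayPt} (hg : g ∈ M24) (hK : g ^ K = 1)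
    {cert : Cert} {dom : List ℕ} {tA tB : List ℕ × List ℕ}
    {L : List (List ℕ × (List ℕ × List ℕ) × ℕ)} (hL : conjOK tA tB L = true)
    (hc : check K (QL L) cert dom = true) (hcomp : Compat g dom) :
    (∃ k ∈ M24, k * g * k⁻¹ = permOfTabs tA.1 tA.2) ∨
      (∃ k ∈ M24, k * g * k⁻¹ = permOfTabs tB.1 tB.2) := by
  obtain ⟨tab, hQ, htab⟩ := check_sound (QL L) hg hK cert dom hc hcomp
  unfold QL at hQ
  rw [Bool.and_eq_true, List.any_eq_true] at hQ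
  obtain ⟨hv, e, he, hsol⟩ := hQ
  rw [beq_iff_eq] at hsol
  unfold conjOK at hL
  simp only [Bool.and_eq_true, List.all_eq_true, beq_iff_eq] at hL
  obtain ⟨⟨hTA, hTB⟩, hall⟩ := hL
  obtain ⟨⟨hk, hkM⟩, hconj⟩ := hall e he
  rw [hsol] at hconj
  have hkmem := permOfTabs_mem_M24 hk hkM
  by_cases hcls : e.2.2 = 0
  · left
    rw [if_pos hcls] at hconj
    exact ⟨_, hkmem, conj_eq_of_tables hk htab hv hTA hconj⟩
  · right
    rw [if_neg hcls] at hconj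
    exact ⟨_, hkmem, conj_eq_of_tables hk htab hv hTB hconj⟩

/-! ### involutions -/

def t2A : List ℕ := [23,2,1,3,4,5,7,6,11,20,15,8,18,13,14,10,16,17,12,21,9,19,22,0]
def t2B : List ℕ := [23,2,1,4,3,13,10,15,11,19,6,8,18,5,16,7,14,22,12,9,21,20,17,0]

/-- the standard involution with 8 fixed points -/
def T2A : Equiv.Perm GolayPt := permOfTabs t2A t2A
/-- the standard fixed-point-free involution -/
def T2B : Equiv.Perm GolayPt := permOfTabs t2B t2B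

theorem t2A_inv : isInvPair t2A t2A = true := by decide +kernel
theorem t2B_inv : isInvPair t2B t2B = true := by decide +kernel

theorem T2A_mem : T2A ∈ M24 := permOfTabs_mem_M24 t2A_inv (by decide +kernel)
theorem T2B_mem : T2B ∈ M24 := permOfTabs_mem_M24 t2B_inv (by decide +kernel)

theorem isTab_T2A : IsTab T2A t2A := isTab_permOfTabs t2A_inv
theorem isTab_T2B : IsTab T2B t2B := isTab_permOfTabs t2B_inv

theorem card_fixed_T2A : (Finset.univ.filter fun p => T2A p = p).card = 8 := by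
  rw [isTab_T2A.card_fixed (by decide +kernel)]
  decide +kernel

theorem card_fixed_T2B : (Finset.univ.filter fun p => T2B p = p).card = 0 := by
  rw [isTab_T2B.card_fixed (by decide +kernel)]
  decide +kernel

def pres_i_transp : List (ℕ × ℕ) := [(23, 0), (0, 23)]
def pres_i_fix : List (ℕ × ℕ) := [(23, 0), (0, 23), (1, 2), (2, 1), (3, 3)]
def pres_i_free : List (ℕ × ℕ) := [(23, 0), (0, 23), (1, 2), (2, 1)]

def cert_i_transp : Cert :=
(.octad 1302533 1302533 (.contra 0))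

def cert_i_fix : Cert :=
(.inj 0 (.inj 1 (.inj 2 (.inj 3 (.inj 23 (.octad 8536111 8536111 (.split 5 5
 (.inj 5 (.split 14 14
 (.inj 14 (.split 4 4
 (.inj 4 (.octad 4343317 13811730 (.octad 12656663 12656663 (.octad 11100169 11100169 (.octad 6837377 15515712 (.cyc 9 (.inj 20 (.cyc 10 (.inj 15 (.octad 10630149 9347075 (.cyc 7 (.inj 6 (.cyc 12 (.inj 18 (.octad 2702848 4038912 .done)))))))))))))))
 (.split 4 6
 (.inj 4 (.cyc 4 (.inj 6 (.octad 153797 13811730 (.octad 11010247 12656663 (.cyc 7 (.inj 22 (.octad 11100169 11100169 (.octad 8773776 15515712 (.contra 0))))))))))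
 (.split 4 7
 (.inj 4 (.cyc 4 (.inj 7 (.octad 153797 13811730 (.octad 11010247 12656663 (.cyc 6 (.inj 22 (.octad 11100169 11100169 (.octad 6447171 15515712 (.contra 1))))))))))
 (.split 4 8
 (.inj 4 (.cyc 4 (.inj 8 (.octad 3031301 13811730 (.octad 8657159 12656663 (.cyc 18 (.inj 22 (.octad 12747077 9347075 (.contra 8)))))))))
 (.split 4 9
 (.inj 4 (.cyc 4 (.inj 9 (.octad 4343317 13811730 (.contra 4)))))
 (.split 4 10
 (.inj 4 (.cyc 4 (.inj 10 (.octad 4343317 13811730 (.contra 4)))))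
 (.split 4 11
 (.inj 4 (.cyc 4 (.inj 11 (.octad 153797 13811730 (.octad 8657159 12656663 (.cyc 12 (.inj 22 (.octad 9748745 11100169 (.octad 5296705 15515712 (.contra 22))))))))))
 (.split 4 12
 (.inj 4 (.cyc 4 (.inj 12 (.octad 153797 13811730 (.octad 8657159 12656663 (.cyc 11 (.inj 22 (.octad 9748745 11100169 (.octad 1100945 15515712 (.contra 4))))))))))
 (.split 4 13
 (.inj 4 (.cyc 4 (.inj 13 (.octad 9830549 9347075 (.octad 13811730 1302533 (.cyc 20 (.inj 15 (.cyc 22 (.inj 16 (.octad 12599513 11100169 (.cyc 6 (.inj 21 (.cyc 7 (.inj 19 (.octad 5538256 4038912 (.octad 4441280 8077824 (.cyc 10 (.inj 9 (.octad 5441617 14919680 .done)))))))))))))))))))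
 (.split 4 15
 (.inj 4 (.cyc 4 (.inj 15 (.octad 9830549 9347075 (.octad 13811730 1302533 (.contra 15))))))
 (.split 4 16
 (.inj 4 (.cyc 4 (.inj 16 (.octad 13811730 1302533 (.octad 1065303 10305542 (.octad 12599513 11100169 (.cyc 6 (.inj 19 (.cyc 7 (.inj 21 (.cyc 8 (.inj 18 (.cyc 22 (.inj 13 (.octad 1204944 8077824 (.octad 9610624 7767041 (.octad 4370577 14919680 .done)))))))))))))))))
 (.split 4 18
 (.inj 4 (.cyc 4 (.inj 18 (.octad 9830549 9347075 (.contra 18)))))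
 (.split 4 19
 (.inj 4 (.cyc 4 (.inj 19 (.octad 9830549 9347075 (.octad 1065303 10305542 (.cyc 20 (.contra 18)))))))
 (.octad 10765331 15747077 (.split 4 20
 (.inj 4 (.cyc 4 (.inj 20 (.octad 13811730 1302533 (.contra 20)))))
 (.octad 6832158 6832158 (.octad 10698836 6447171 (.octad 10625178 6488205 (.octad 2263063 15073798 (.octad 3297305 14828808 (.split 4 21
 (.inj 4 (.cyc 4 (.contra 21)))
 (.inj 4 (.cyc 4 (.inj 22 (.octad 9112069 9347075 (.cyc 8 (.inj 12 (.cyc 11 (.inj 18 (.cyc 16 (.inj 13 .done))))))))))))))))))))))))))))))))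
 (.inj 14 (.split 4 4
 (.inj 4 (.octad 4343317 13811730 (.octad 12656663 12656663 (.octad 11100169 11100169 (.contra 14)))))
 (.split 4 6
 (.inj 4 (.cyc 4 (.inj 6 (.octad 153797 13811730 (.octad 11010247 12656663 (.cyc 7 (.inj 22 (.octad 11100169 11100169 (.contra 14)))))))))
 (.split 4 7
 (.inj 4 (.cyc 4 (.inj 7 (.octad 153797 13811730 (.octad 11010247 12656663 (.cyc 6 (.inj 22 (.octad 11100169 11100169 (.contra 14)))))))))
 (.split 4 8
 (.inj 4 (.cyc 4 (.inj 8 (.octad 3031301 13811730 (.octad 8657159 12656663 (.cyc 18 (.inj 22 (.octad 15747077 9347075 (.cyc 11 (.inj 13 (.cyc 12 (.inj 16 (.cyc 21 (.inj 15 (.octad 12222476 11100169 (.contra 0))))))))))))))))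
 (.split 4 9
 (.inj 4 (.cyc 4 (.inj 9 (.octad 4343317 13811730 (.contra 4)))))
 (.split 4 10
 (.inj 4 (.cyc 4 (.inj 10 (.octad 4343317 13811730 (.contra 4)))))
 (.split 4 11
 (.inj 4 (.cyc 4 (.inj 11 (.octad 153797 13811730 (.octad 8657159 12656663 (.cyc 12 (.inj 22 (.octad 9748745 11100169 (.contra 14)))))))))
 (.split 4 12
 (.inj 4 (.cyc 4 (.inj 12 (.octad 153797 13811730 (.octad 8657159 12656663 (.cyc 11 (.inj 22 (.octad 9748745 11100169 (.contra 14)))))))))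
 (.split 4 13
 (.inj 4 (.cyc 4 (.inj 13 (.octad 8966165 9347075 (.octad 13811730 1302533 (.octad 8619033 11100169 (.contra 15)))))))
 (.split 4 15
 (.inj 4 (.cyc 4 (.inj 15 (.octad 8966165 9347075 (.contra 15)))))
 (.split 4 16
 (.inj 4 (.cyc 4 (.inj 16 (.octad 13811730 1302533 (.octad 2263063 10305542 (.cyc 15 (.inj 20 (.cyc 22 (.inj 13 (.octad 15335473 11100169 (.contra 3)))))))))))
 (.split 4 18
 (.inj 4 (.cyc 4 (.inj 18 (.octad 8966165 9347075 (.octad 2263063 10305542 (.cyc 15 (.inj 19 (.cyc 12 (.inj 13 (.octad 8619033 11100169 (.contra 4)))))))))))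
 (.split 4 19
 (.inj 4 (.cyc 4 (.inj 19 (.octad 8966165 9347075 (.contra 19)))))
 (.octad 8524371 15747077 (.split 4 20
 (.inj 4 (.cyc 4 (.inj 20 (.octad 13811730 1302533 (.contra 20)))))
 (.octad 1245726 6832158 (.octad 10698836 6447171 (.contra 6)))))))))))))))))))))
 (.split 5 14
 (.inj 5 (.cyc 5 (.inj 14 (.split 4 4
 (.inj 4 (.octad 201013 13811730 (.octad 12656663 12656663 (.cyc 16 (.inj 22 (.octad 10630149 9347075 (.cyc 8 (.inj 20 (.cyc 12 (.inj 15 (.octad 14688364 11100169 (.contra 0))))))))))))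
 (.split 4 6
 (.inj 4 (.cyc 4 (.inj 6 (.octad 3277413 13811730 (.octad 11010247 12656663 (.cyc 21 (.inj 22 (.octad 15335473 11100169 (.contra 3)))))))))
 (.split 4 7
 (.inj 4 (.cyc 4 (.inj 7 (.octad 689317 13811730 (.octad 11010247 12656663 (.cyc 19 (.inj 22 (.octad 12747077 9347075 (.cyc 6 (.inj 13 (.cyc 8 (.inj 18 (.cyc 10 (.inj 20 (.cyc 21 (.inj 16 (.octad 11100169 11100169 (.contra 5))))))))))))))))))
 (.split 4 8
 (.inj 4 (.cyc 4 (.inj 8 (.octad 201013 13811730 (.contra 4)))))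
 (.split 4 9
 (.inj 4 (.cyc 4 (.inj 9 (.octad 3277413 13811730 (.octad 9471495 12656663 (.cyc 20 (.contra 22)))))))
 (.split 4 10
 (.inj 4 (.cyc 4 (.inj 10 (.octad 689317 13811730 (.octad 9471495 12656663 (.cyc 15 (.contra 22)))))))
 (.split 4 11
 (.inj 4 (.cyc 4 (.inj 11 (.octad 4597797 13811730 (.octad 8657159 12656663 (.cyc 18 (.contra 22)))))))
 (.split 4 12
 (.inj 4 (.cyc 4 (.inj 12 (.octad 201013 13811730 (.contra 4)))))
 (.split 4 13
 (.inj 4 (.cyc 4 (.inj 13 (.octad 9830549 9347075 (.octad 8849458 1302533 (.cyc 18 (.contra 15)))))))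
 (.split 4 15
 (.inj 4 (.cyc 4 (.inj 15 (.octad 9830549 9347075 (.octad 8849458 1302533 (.cyc 18 (.contra 13)))))))
 (.split 4 16
 (.inj 4 (.cyc 4 (.inj 16 (.octad 8849458 1302533 (.contra 16)))))
 (.split 4 18
 (.inj 4 (.cyc 4 (.inj 18 (.octad 9830549 9347075 (.contra 18)))))
 (.split 4 19
 (.inj 4 (.cyc 4 (.inj 19 (.octad 9830549 9347075 (.octad 786999 10305542 (.contra 19))))))
 (.octad 8421811 15747077 (.split 4 20
 (.inj 4 (.cyc 4 (.inj 20 (.octad 8849458 1302533 (.octad 786999 10305542 (.cyc 18 (.contra 16)))))))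
 (.octad 10558 6832158 (.octad 12861748 6447171 (.contra 14)))))))))))))))))))))
 (.inj 5 (.cyc 5 (.inj 17 (.split 4 4
 (.inj 4 (.octad 2121909 13811730 (.octad 12656663 12656663 (.cyc 13 (.inj 22 (.octad 12587685 9347075 (.cyc 7 (.inj 15 (.cyc 21 (.inj 20 (.octad 11100169 11100169 (.contra 13))))))))))))
 (.split 4 6
 (.inj 4 (.cyc 4 (.inj 6 (.octad 4800613 13811730 (.octad 11010247 12656663 (.cyc 19 (.contra 22)))))))
 (.split 4 7
 (.inj 4 (.cyc 4 (.inj 7 (.octad 2121909 13811730 (.contra 4)))))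
 (.split 4 8
 (.inj 4 (.cyc 4 (.inj 8 (.octad 52005 13811730 (.octad 8657159 12656663 (.cyc 11 (.inj 22 (.octad 9748745 11100169 (.contra 8)))))))))
 (.split 4 9
 (.inj 4 (.cyc 4 (.inj 9 (.octad 52005 13811730 (.octad 9471495 12656663 (.cyc 15 (.contra 22)))))))
 (.split 4 10
 (.inj 4 (.cyc 4 (.inj 10 (.octad 1332261 13811730 (.octad 9471495 12656663 (.cyc 20 (.contra 22)))))))
 (.split 4 11
 (.inj 4 (.cyc 4 (.inj 11 (.octad 52005 13811730 (.octad 8657159 12656663 (.cyc 8 (.inj 22 (.octad 9748745 11100169 (.contra 8)))))))))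
 (.split 4 12
 (.inj 4 (.cyc 4 (.inj 12 (.octad 1332261 13811730 (.octad 8657159 12656663 (.cyc 18 (.inj 22 (.octad 12587685 9347075 (.contra 12)))))))))
 (.split 4 13
 (.inj 4 (.cyc 4 (.inj 13 (.octad 8391797 9347075 (.octad 8937586 1302533 (.contra 13))))))
 (.split 4 15
 (.inj 4 (.cyc 4 (.inj 15 (.octad 8391797 9347075 (.octad 8937586 1302533 (.cyc 6 (.contra 13)))))))
 (.split 4 16
 (.inj 4 (.cyc 4 (.inj 16 (.octad 8937586 1302533 (.octad 1065303 10305542 (.cyc 6 (.contra 20)))))))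
 (.split 4 18
 (.inj 4 (.cyc 4 (.inj 18 (.octad 8391797 9347075 (.octad 1065303 10305542 (.cyc 6 (.inj 19 (.octad 12599513 11100169 (.contra 4)))))))))
 (.split 4 19
 (.inj 4 (.cyc 4 (.inj 19 (.octad 8391797 9347075 (.octad 1065303 10305542 (.cyc 6 (.inj 18 (.octad 12599513 11100169 (.contra 6)))))))))
 (.octad 10765331 15747077 (.split 4 20
 (.inj 4 (.cyc 4 (.inj 20 (.octad 8937586 1302533 (.octad 1065303 10305542 (.contra 20))))))
 (.octad 6832158 6832158 (.octad 10698836 6447171 (.contra 5)))))))))))))))))))))))))))))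

def cert_i_free : Cert :=
(.inj 0 (.inj 1 (.inj 2 (.inj 23 (.split 3 4
 (.inj 3 (.cyc 3 (.inj 4 (.octad 8536111 12656663 (.octad 12656663 8536111 (.octad 8541360 4563017 (.octad 1722420 6365962 (.octad 2245426 5842956 (.split 5 13
 (.inj 5 (.cyc 5 (.inj 13 (.octad 14762146 1302533 (.cyc 7 (.inj 15 (.cyc 14 (.inj 16 (.cyc 21 (.inj 20 (.octad 12587685 9347075 (.cyc 8 (.inj 11 (.cyc 10 (.inj 6 .done)))))))))))))))
 (.split 5 16
 (.inj 5 (.cyc 5 (.inj 16 (.octad 12726562 1302533 (.cyc 8 (.inj 20 (.cyc 12 (.inj 15 (.cyc 14 (.inj 22 (.octad 10630149 9347075 (.cyc 7 (.inj 6 (.cyc 9 (.inj 11 .done)))))))))))))))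
 (.inj 5 (.cyc 5 (.inj 22 (.octad 8611330 1302533 (.cyc 9 (.inj 20 (.cyc 10 (.inj 15 (.octad 8546577 11100169 (.cyc 13 (.inj 14 (.octad 8471941 9347075 (.cyc 7 (.inj 18 .done))))))))))))))))))))))))
 (.split 3 5
 (.inj 3 (.cyc 3 (.inj 5 (.octad 8536111 8536111 (.split 4 6
 (.inj 4 (.cyc 4 (.inj 6 (.octad 153797 13811730 (.octad 11010247 12656663 (.cyc 7 (.inj 22 (.octad 15335473 11100169 (.contra 4)))))))))
 (.split 4 7
 (.inj 4 (.cyc 4 (.inj 7 (.octad 153797 13811730 (.octad 11010247 12656663 (.cyc 6 (.inj 22 (.octad 15335473 11100169 (.contra 4)))))))))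
 (.split 4 8
 (.inj 4 (.cyc 4 (.inj 8 (.octad 3031301 13811730 (.octad 8657159 12656663 (.cyc 18 (.inj 22 (.octad 15747077 9347075 (.cyc 11 (.inj 13 (.cyc 12 (.inj 16 (.cyc 21 (.inj 15 (.octad 7767041 15515712 (.cyc 10 (.inj 6 .done)))))))))))))))))
 (.split 4 9
 (.inj 4 (.cyc 4 (.inj 9 (.octad 4343317 13811730 (.contra 4)))))
 (.split 4 10
 (.inj 4 (.cyc 4 (.inj 10 (.octad 4343317 13811730 (.contra 4)))))
 (.split 4 11
 (.inj 4 (.cyc 4 (.inj 11 (.octad 153797 13811730 (.octad 8657159 12656663 (.cyc 12 (.inj 22 (.octad 8783649 11100169 (.octad 1250945 15515712 (.cyc 6 (.inj 20 (.cyc 7 (.inj 15 (.cyc 16 (.inj 18 (.cyc 8 (.inj 13 (.octad 8471941 9347075 (.cyc 9 (.inj 21 .done))))))))))))))))))))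
 (.split 4 12
 (.inj 4 (.cyc 4 (.inj 12 (.octad 153797 13811730 (.octad 8657159 12656663 (.cyc 11 (.inj 22 (.octad 8783649 11100169 (.octad 175681 15515712 (.cyc 6 (.inj 15 (.cyc 7 (.inj 20 (.cyc 13 (.inj 18 (.cyc 8 (.inj 16 (.octad 8675909 9347075 (.cyc 9 (.inj 19 .done))))))))))))))))))))
 (.split 4 13
 (.inj 4 (.cyc 4 (.inj 13 (.octad 8966165 9347075 (.octad 13811730 1302533 (.contra 15))))))
 (.split 4 15
 (.inj 4 (.cyc 4 (.inj 15 (.octad 8966165 9347075 (.contra 15)))))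
 (.split 4 16
 (.inj 4 (.cyc 4 (.inj 16 (.octad 13811730 1302533 (.octad 15747077 9347075 (.cyc 15 (.inj 20 (.cyc 22 (.inj 13 (.octad 15335473 11100169 (.cyc 11 (.inj 18 (.octad 3811457 15515712 (.cyc 7 (.inj 6 (.octad 7903248 4038912 (.cyc 12 (.inj 8 .done))))))))))))))))))
 (.split 4 18
 (.inj 4 (.cyc 4 (.inj 18 (.octad 8966165 9347075 (.octad 11163650 1302533 (.cyc 15 (.inj 19 (.cyc 12 (.inj 13 (.octad 9607201 11100169 (.cyc 11 (.inj 16 (.octad 10916112 6053905 (.cyc 8 (.inj 22 (.octad 1737489 15515712 (.cyc 9 (.inj 6 .done))))))))))))))))))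
 (.split 4 19
 (.inj 4 (.cyc 4 (.inj 19 (.octad 8966165 9347075 (.contra 19)))))
 (.octad 8524371 15747077 (.split 4 20
 (.inj 4 (.cyc 4 (.inj 20 (.octad 13811730 1302533 (.contra 20)))))
 (.octad 4325622 6832158 (.octad 10698836 6447171 (.octad 8937586 6488205 (.octad 1065303 15073798 (.octad 442481 14828808 (.split 4 21
 (.inj 4 (.cyc 4 (.contra 21)))
 (.inj 4 (.cyc 4 (.inj 22 (.cyc 6 (.inj 21 (.cyc 7 (.inj 19 (.octad 8471941 9347075 (.cyc 8 (.inj 18 (.cyc 11 (.inj 12 .done))))))))))))))))))))))))))))))))))))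
 (.split 3 6
 (.inj 3 (.cyc 3 (.inj 6 (.octad 11010247 8536111 (.octad 4196943 8683614 (.octad 12733024 2916505 (.octad 13703682 304405 (.octad 12880401 12880401 (.split 4 9
 (.inj 4 (.cyc 4 (.inj 9 (.octad 15747077 9347075 (.cyc 14 (.inj 19 (.cyc 7 (.inj 5 (.cyc 20 (.inj 13 (.octad 16262146 1302533 (.cyc 8 (.inj 12 (.cyc 11 (.inj 18 .done)))))))))))))))
 (.split 4 11
 (.inj 4 (.cyc 4 (.inj 11 (.octad 12587685 9347075 (.cyc 5 (.inj 19 (.cyc 7 (.inj 17 (.cyc 12 (.inj 13 (.octad 10491778 1302533 (.cyc 9 (.inj 15 (.octad 10506593 11100169 (.cyc 8 (.inj 16 .done))))))))))))))))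
 (.inj 4 (.cyc 4 (.inj 22 (.octad 9112069 9347075 (.cyc 16 (.inj 13 (.octad 8989058 1302533 (.cyc 7 (.inj 14 (.cyc 8 (.inj 20 (.cyc 9 (.inj 18 .done)))))))))))))))))))))))
 (.split 3 7
 (.inj 3 (.cyc 3 (.inj 7 (.octad 11010247 8536111 (.octad 8536111 11010247 (.octad 8541360 7864649 (.octad 190626 2949708 (.octad 475812 2664522 (.split 4 8
 (.inj 4 (.cyc 4 (.inj 8 (.octad 530245 13811730 (.cyc 9 (.inj 15 (.cyc 21 (.inj 5 (.octad 9178690 1302533 (.cyc 10 (.inj 20 (.octad 8675909 9347075 .done))))))))))))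
 (.split 4 20
 (.inj 4 (.cyc 4 (.inj 20 (.octad 8407702 3416079 (.cyc 9 (.inj 13 (.cyc 11 (.inj 18 (.cyc 14 (.inj 21 (.octad 9112069 9347075 (.octad 11669008 6053905 (.cyc 10 (.inj 22 .done))))))))))))))
 (.inj 4 (.cyc 4 (.inj 22 (.octad 12656663 12656663 (.octad 8593633 11100169 (.octad 10825794 1302533 (.cyc 9 (.inj 11 (.cyc 10 (.inj 8 (.cyc 19 (.inj 5 .done))))))))))))))))))))))
 (.split 3 8
 (.inj 3 (.cyc 3 (.inj 8 (.octad 8657159 8536111 (.octad 13631886 622863 (.octad 14254209 14254209 (.octad 5252293 11108882 (.octad 7340691 9020484 (.split 4 6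
 (.inj 4 (.cyc 4 (.inj 6 (.octad 5785794 5210132 (.cyc 11 (.inj 17 (.cyc 5 (.inj 12 (.cyc 19 (.inj 22 (.octad 15747077 9347075 (.cyc 7 (.inj 16 (.cyc 9 (.inj 10 .done)))))))))))))))
 (.split 4 10
 (.inj 4 (.cyc 4 (.inj 10 (.octad 5280930 5210132 (.cyc 5 (.inj 18 (.cyc 11 (.inj 14 (.cyc 15 (.inj 22 (.octad 12587685 9347075 (.cyc 7 (.inj 19 (.cyc 9 (.inj 13 .done)))))))))))))))
 (.inj 4 (.cyc 4 (.inj 13 (.octad 9045270 3416079 (.cyc 6 (.inj 9 (.cyc 17 (.inj 18 (.cyc 19 (.inj 20 (.octad 9830549 9347075 (.cyc 7 (.inj 15 (.octad 13373586 1302533 (.cyc 11 (.inj 5 .done))))))))))))))))))))))))))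
 (.split 3 9
 (.inj 3 (.cyc 3 (.inj 9 (.octad 9471495 8536111 (.octad 10486557 8716939 (.octad 2425238 2425238 (.octad 2245426 1410188 (.octad 2634003 12912836 (.split 4 7
 (.inj 4 (.cyc 4 (.inj 7 (.octad 6292775 10305542 (.cyc 5 (.inj 20 (.cyc 10 (.inj 14 (.cyc 22 (.inj 19 (.octad 12747077 9347075 (.cyc 6 (.inj 13 (.cyc 8 (.inj 18 .done)))))))))))))))
 (.split 4 16
 (.inj 4 (.cyc 4 (.inj 16 (.octad 12656663 12656663 (.octad 12880401 11100169 (.cyc 6 (.inj 12 (.cyc 7 (.inj 8 (.cyc 15 (.inj 14 (.octad 15747077 9347075 (.cyc 10 (.inj 5 .done))))))))))))))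
 (.inj 4 (.cyc 4 (.inj 18 (.octad 8407702 3416079 (.cyc 7 (.inj 21 (.cyc 11 (.inj 13 (.cyc 14 (.inj 20 (.octad 8391797 9347075 (.cyc 6 (.inj 19 .done)))))))))))))))))))))))
 (.split 3 10
 (.inj 3 (.cyc 3 (.inj 10 (.octad 9471495 8536111 (.octad 8398155 13370381 (.octad 4989254 4989254 (.octad 157028 6062602 (.octad 8401364 7145475 (.split 4 11
 (.inj 4 (.cyc 4 (.inj 11 (.octad 8688833 11100169 (.cyc 6 (.inj 19 (.cyc 15 (.inj 14 (.cyc 18 (.inj 13 (.octad 8675909 9347075 (.cyc 9 (.inj 17 (.octad 8704546 1302533 (.cyc 7 (.inj 21 .done))))))))))))))))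
 (.split 4 16
 (.inj 4 (.cyc 4 (.inj 16 (.octad 13721920 6053905 (.cyc 22 (.inj 13 (.octad 12747077 9347075 (.octad 13636881 11100169 (.cyc 6 (.inj 18 (.cyc 7 (.inj 11 .done))))))))))))
 (.inj 4 (.cyc 4 (.inj 21 (.octad 9045270 3416079 (.cyc 8 (.inj 18 (.cyc 17 (.inj 20 (.cyc 19 (.inj 13 (.octad 9969957 9347075 (.cyc 5 (.inj 15 (.octad 10093218 1302533 (.cyc 7 (.inj 16 .done))))))))))))))))))))))))))
 (.split 3 11
 (.inj 3 (.cyc 3 (.inj 11 (.octad 8657159 8536111 (.octad 8431757 9963547 (.octad 1613974 1613974 (.octad 2204803 14156372 (.octad 12624578 3736597 (.split 4 7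
 (.inj 4 (.cyc 4 (.inj 7 (.octad 9969957 9347075 (.cyc 5 (.inj 18 (.cyc 8 (.inj 17 (.cyc 13 (.inj 19 (.octad 9998658 1302533 (.cyc 6 (.inj 16 (.octad 13121601 11100169 (.cyc 9 (.inj 10 .done))))))))))))))))
 (.split 4 13
 (.inj 4 (.cyc 4 (.inj 13 (.octad 4505735 10305542 (.cyc 22 (.inj 16 (.octad 8966165 9347075 (.cyc 8 (.inj 5 (.octad 12880401 11100169 (.cyc 6 (.inj 10 .done))))))))))))
 (.inj 4 (.cyc 4 (.inj 15 (.octad 140167 10305542 (.cyc 8 (.inj 14 (.cyc 5 (.inj 12 (.cyc 9 (.inj 16 (.octad 9830549 9347075 (.octad 9440193 11100169 (.cyc 6 (.inj 21 .done))))))))))))))))))))))))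
 (.split 3 12
 (.inj 3 (.cyc 3 (.inj 12 (.octad 8657159 8536111 (.octad 9506893 14716939 (.octad 7438406 7438406 (.octad 9503954 6857221 (.octad 1647171 14714004 (.split 4 9
 (.inj 4 (.cyc 4 (.inj 9 (.octad 8471941 9347075 (.cyc 8 (.inj 17 (.cyc 5 (.inj 11 (.cyc 16 (.inj 15 (.octad 12944642 1302533 (.cyc 7 (.inj 19 (.cyc 21 (.inj 6 .done)))))))))))))))
 (.split 4 13
 (.inj 4 (.cyc 4 (.inj 13 (.octad 11538486 3416079 (.cyc 5 (.inj 18 (.octad 8391797 9347075 (.cyc 6 (.inj 15 (.cyc 7 (.inj 9 (.cyc 8 (.inj 14 .done)))))))))))))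
 (.inj 4 (.cyc 4 (.inj 19 (.octad 11010247 12656663 (.cyc 6 (.inj 22 (.cyc 7 (.inj 13 (.cyc 15 (.inj 20 (.octad 9830549 9347075 (.octad 11831426 1302533 (.cyc 8 (.inj 5 .done))))))))))))))))))))))))
 (.split 3 13
 (.inj 3 (.cyc 3 (.inj 13 (.octad 8925710 3416079 (.octad 8536111 12656663 (.octad 4788761 11952160 (.octad 563843 11797828 (.octad 530245 11831426 (.split 4 5
 (.inj 4 (.cyc 4 (.inj 5 (.octad 13303882 1302533 (.cyc 6 (.inj 15 (.cyc 14 (.inj 22 (.cyc 19 (.inj 20 (.octad 9506893 9347075 (.cyc 9 (.inj 21 (.octad 10110017 14254209 (.cyc 8 (.inj 11 .done))))))))))))))))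
 (.split 4 14
 (.inj 4 (.cyc 4 (.inj 14 (.octad 8663097 11100169 (.cyc 5 (.inj 16 (.cyc 12 (.inj 21 (.cyc 18 (.inj 19 (.octad 13370381 9347075 (.cyc 10 (.inj 15 (.octad 924689 15515712 (.cyc 7 (.inj 8 .done))))))))))))))))
 (.inj 4 (.cyc 4 (.inj 17 (.octad 10486557 9347075 (.cyc 8 (.inj 15 (.cyc 9 (.inj 18 (.cyc 20 (.inj 12 (.octad 8474906 1302533 (.octad 2687905 15515712 (.cyc 7 (.inj 6 .done))))))))))))))))))))))))
 (.split 3 14
 (.inj 3 (.cyc 3 (.inj 14 (.octad 8536111 8536111 (.split 4 6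
 (.inj 4 (.cyc 4 (.inj 6 (.octad 262637 13811730 (.octad 11010247 12656663 (.cyc 7 (.inj 22 (.octad 11100169 11100169 (.octad 1122713 15515712 (.cyc 8 (.inj 15 (.octad 9969957 9347075 (.octad 2435240 8077824 (.cyc 11 (.inj 9 .done)))))))))))))))
 (.split 4 7
 (.inj 4 (.cyc 4 (.inj 7 (.octad 262637 13811730 (.octad 11010247 12656663 (.cyc 6 (.inj 22 (.octad 11100169 11100169 (.octad 4563017 15515712 (.cyc 8 (.inj 20 (.octad 10846245 9347075 (.octad 602472 8077824 (.cyc 12 (.inj 9 .done)))))))))))))))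
 (.split 4 8
 (.inj 4 (.cyc 4 (.inj 8 (.octad 262637 13811730 (.octad 8657159 12656663 (.cyc 18 (.inj 22 (.octad 12587685 9347075 (.cyc 6 (.inj 20 (.cyc 7 (.inj 15 (.cyc 9 (.inj 19 (.cyc 11 (.inj 16 (.cyc 12 (.inj 13 (.octad 13771273 15515712 (.contra 7))))))))))))))))))))
 (.split 4 9
 (.inj 4 (.cyc 4 (.inj 9 (.octad 75309 13811730 (.octad 9471495 12656663 (.cyc 10 (.inj 22 (.octad 9748745 11100169 (.octad 2430217 15515712 (.cyc 13 (.inj 20 (.octad 10846245 9347075 (.contra 15)))))))))))))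
 (.split 4 10
 (.inj 4 (.cyc 4 (.inj 10 (.octad 75309 13811730 (.octad 9471495 12656663 (.cyc 9 (.inj 22 (.octad 9748745 11100169 (.octad 797449 15515712 (.cyc 13 (.inj 15 (.octad 10846245 9347075 (.contra 13)))))))))))))
 (.split 4 11
 (.inj 4 (.cyc 4 (.inj 11 (.octad 2627629 13811730 (.octad 8657159 12656663 (.cyc 12 (.inj 22 (.octad 9748745 11100169 (.octad 1618953 15515712 (.cyc 19 (.inj 15 (.octad 10846245 9347075 (.contra 16)))))))))))))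
 (.split 4 12
 (.inj 4 (.cyc 4 (.inj 12 (.octad 2627629 13811730 (.octad 8657159 12656663 (.cyc 11 (.inj 22 (.octad 9748745 11100169 (.octad 3246601 15515712 (.cyc 19 (.inj 20 (.octad 10846245 9347075 (.contra 15)))))))))))))
 (.split 4 13
 (.inj 4 (.cyc 4 (.inj 13 (.octad 8391797 9347075 (.octad 12584506 1302533 (.cyc 10 (.inj 15 (.octad 12599513 11100169 (.cyc 6 (.inj 19 (.cyc 7 (.inj 21 (.cyc 9 (.inj 20 (.cyc 11 (.inj 18 (.cyc 22 (.inj 16 .done))))))))))))))))))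
 (.split 4 15
 (.inj 4 (.cyc 4 (.inj 15 (.octad 8391797 9347075 (.octad 12584506 1302533 (.cyc 10 (.inj 13 (.octad 8412681 11100169 (.cyc 6 (.inj 18 (.cyc 9 (.inj 16 (.cyc 11 (.inj 19 (.cyc 12 (.inj 21 (.cyc 22 (.inj 20 (.octad 1312345 15515712 (.contra 9))))))))))))))))))))
 (.split 4 16
 (.inj 4 (.cyc 4 (.inj 16 (.octad 12584506 1302533 (.octad 5279 10305542 (.cyc 10 (.inj 20 (.octad 12599513 11100169 (.cyc 6 (.inj 21 (.cyc 7 (.inj 19 (.cyc 9 (.inj 15 (.cyc 12 (.inj 18 (.cyc 22 (.inj 13 .done))))))))))))))))))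
 (.split 4 18
 (.inj 4 (.cyc 4 (.inj 18 (.octad 8391797 9347075 (.octad 5279 10305542 (.cyc 10 (.inj 19 (.octad 8412681 11100169 (.cyc 6 (.inj 15 (.cyc 7 (.inj 20 (.cyc 9 (.inj 21 (.cyc 11 (.inj 13 (.cyc 12 (.inj 16 (.octad 57883 15515712 (.contra 1))))))))))))))))))))
 (.split 4 19
 (.inj 4 (.cyc 4 (.inj 19 (.octad 8391797 9347075 (.octad 5279 10305542 (.cyc 10 (.inj 18 (.octad 12599513 11100169 (.cyc 6 (.inj 13 (.cyc 7 (.inj 16 (.cyc 11 (.inj 15 (.cyc 12 (.inj 20 (.cyc 22 (.inj 21 .done))))))))))))))))))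
 (.octad 9963547 15747077 (.split 4 20
 (.inj 4 (.cyc 4 (.contra 20)))
 (.octad 6832158 6832158 (.octad 8394986 1302533 (.octad 4196943 10305542 (.cyc 6 (.inj 16 (.cyc 9 (.inj 18 (.cyc 21 (.inj 4 (.octad 12599513 11100169 (.cyc 7 (.inj 13 (.cyc 12 (.inj 15 .done))))))))))))))))))))))))))))))))
 (.split 3 15
 (.inj 3 (.cyc 3 (.inj 15 (.octad 9471495 8536111 (.octad 622863 8683614 (.octad 8683614 622863 (.octad 8536111 9471495 (.octad 14716939 8431757 (.split 4 8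
 (.inj 4 (.cyc 4 (.inj 8 (.octad 459847 10305542 (.cyc 10 (.inj 14 (.cyc 5 (.inj 9 (.cyc 16 (.inj 18 (.octad 9506893 9347075 (.cyc 12 (.inj 13 (.octad 8688833 11100169 (.cyc 7 (.inj 21 .done))))))))))))))))
 (.split 4 16
 (.inj 4 (.cyc 4 (.inj 16 (.octad 12656663 12656663 (.octad 13370381 9347075 (.cyc 10 (.inj 17 (.octad 12584506 1302533 (.octad 12880401 11100169 (.cyc 7 (.inj 12 .done)))))))))))
 (.inj 4 (.cyc 4 (.inj 19 (.octad 10486557 9347075 (.cyc 8 (.inj 18 (.cyc 9 (.inj 17 (.cyc 21 (.inj 13 (.octad 11551306 1302533 (.octad 12075408 6053905 (.cyc 7 (.inj 22 .done))))))))))))))))))))))))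
 (.split 3 16
 (.inj 3 (.cyc 3 (.inj 16 (.octad 8536111 12656663 (.octad 12656663 8536111 (.octad 10554382 622863 (.octad 9506893 8716939 (.octad 622863 10554382 (.split 4 5
 (.inj 4 (.cyc 4 (.inj 5 (.octad 12871690 1302533 (.cyc 11 (.inj 15 (.cyc 14 (.inj 13 (.cyc 18 (.inj 20 (.octad 15747077 9347075 (.cyc 10 (.inj 8 (.octad 3811457 15515712 (.cyc 7 (.inj 6 .done))))))))))))))))
 (.split 4 14
 (.inj 4 (.cyc 4 (.inj 14 (.octad 5279 10305542 (.cyc 7 (.inj 20 (.cyc 6 (.inj 9 (.cyc 10 (.inj 19 (.octad 10630149 9347075 (.cyc 11 (.inj 8 .done)))))))))))))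
 (.inj 4 (.cyc 4 (.inj 17 (.octad 12861748 6447171 (.cyc 8 (.inj 21 (.cyc 13 (.inj 5 (.cyc 18 (.inj 6 (.octad 12584506 1302533 (.cyc 7 (.inj 12 (.cyc 10 (.inj 15 .done)))))))))))))))))))))))))
 (.split 3 17
 (.inj 3 (.cyc 3 (.inj 17 (.octad 8536111 8536111 (.split 4 6
 (.inj 4 (.cyc 4 (.inj 6 (.octad 262637 13811730 (.octad 11010247 12656663 (.cyc 7 (.inj 22 (.octad 15335473 11100169 (.contra 4)))))))))
 (.split 4 7
 (.inj 4 (.cyc 4 (.inj 7 (.octad 262637 13811730 (.octad 11010247 12656663 (.cyc 6 (.inj 22 (.octad 15335473 11100169 (.contra 4)))))))))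
 (.split 4 8
 (.inj 4 (.cyc 4 (.inj 8 (.octad 262637 13811730 (.octad 8657159 12656663 (.cyc 18 (.inj 22 (.octad 13370381 9347075 (.contra 18)))))))))
 (.split 4 9
 (.inj 4 (.cyc 4 (.inj 9 (.octad 75309 13811730 (.octad 9471495 12656663 (.cyc 10 (.inj 22 (.octad 9607201 11100169 (.octad 15777 15515712 (.cyc 13 (.inj 15 (.octad 8431757 9347075 (.cyc 7 (.inj 18 (.cyc 8 (.inj 6 (.cyc 11 (.inj 19 .done))))))))))))))))))
 (.split 4 10
 (.inj 4 (.cyc 4 (.inj 10 (.octad 75309 13811730 (.octad 9471495 12656663 (.cyc 9 (.inj 22 (.octad 9607201 11100169 (.octad 334433 15515712 (.cyc 13 (.inj 20 (.octad 9506893 9347075 (.cyc 11 (.inj 21 (.cyc 12 (.inj 19 .done))))))))))))))))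
 (.split 4 11
 (.inj 4 (.cyc 4 (.inj 11 (.octad 2627629 13811730 (.octad 8657159 12656663 (.cyc 12 (.inj 22 (.octad 8783649 11100169 (.octad 2135601 15515712 (.contra 4))))))))))
 (.split 4 12
 (.inj 4 (.cyc 4 (.inj 12 (.octad 2627629 13811730 (.octad 8657159 12656663 (.cyc 11 (.inj 22 (.octad 8783649 11100169 (.octad 5770785 15515712 (.contra 22))))))))))
 (.split 4 13
 (.inj 4 (.cyc 4 (.inj 13 (.octad 10486557 9347075 (.octad 12584506 1302533 (.cyc 9 (.inj 15 (.octad 15335473 11100169 (.cyc 8 (.inj 18 (.cyc 10 (.inj 20 (.cyc 22 (.inj 16 (.octad 2687905 15515712 (.cyc 7 (.inj 6 .done)))))))))))))))))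
 (.split 4 15
 (.inj 4 (.cyc 4 (.inj 15 (.octad 10486557 9347075 (.octad 12584506 1302533 (.cyc 9 (.inj 13 (.octad 8783649 11100169 (.cyc 8 (.inj 19 (.cyc 10 (.inj 16 (.cyc 22 (.inj 20 (.octad 3410225 15515712 (.cyc 11 (.inj 6 .done)))))))))))))))))
 (.split 4 16
 (.inj 4 (.cyc 4 (.inj 16 (.octad 12584506 1302533 (.octad 786999 10305542 (.cyc 9 (.inj 20 (.octad 15335473 11100169 (.contra 18)))))))))
 (.split 4 18
 (.inj 4 (.cyc 4 (.inj 18 (.octad 10486557 9347075 (.octad 786999 10305542 (.contra 18))))))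
 (.split 4 19
 (.inj 4 (.cyc 4 (.inj 19 (.octad 10486557 9347075 (.octad 786999 10305542 (.contra 19))))))
 (.octad 8421811 15747077 (.split 4 20
 (.inj 4 (.cyc 4 (.inj 20 (.octad 12584506 1302533 (.octad 786999 10305542 (.cyc 9 (.inj 16 (.octad 8783649 11100169 (.cyc 8 (.inj 21 (.cyc 10 (.inj 13 (.cyc 22 (.inj 15 (.cyc 7 (.inj 11 .done))))))))))))))))
 (.octad 4325622 6832158 (.octad 8978620 6447171 (.octad 10625178 6488205 (.octad 5279 15073798 (.octad 133817 14828808 (.split 4 21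
 (.inj 4 (.cyc 4 (.contra 21)))
 (.inj 4 (.cyc 4 (.inj 22 (.cyc 6 (.inj 19 (.cyc 7 (.inj 21 (.octad 9506893 9347075 (.cyc 10 (.inj 9 (.cyc 11 (.inj 8 .done))))))))))))))))))))))))))))))))))))
 (.split 3 18
 (.inj 3 (.cyc 3 (.inj 18 (.octad 8683614 3416079 (.octad 39257 11952160 (.octad 11575377 11575377 (.octad 4752467 11608708 (.octad 99029 16262146 (.split 4 13
 (.inj 4 (.cyc 4 (.inj 13 (.octad 10486557 9347075 (.cyc 8 (.inj 17 (.cyc 9 (.inj 19 (.cyc 20 (.inj 6 (.octad 14682450 1302533 (.cyc 10 (.inj 7 (.cyc 11 (.inj 14 .done)))))))))))))))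
 (.split 4 20
 (.inj 4 (.cyc 4 (.inj 20 (.octad 5279 10305542 (.cyc 7 (.inj 19 (.cyc 10 (.inj 16 (.cyc 12 (.inj 14 (.octad 8431757 9347075 (.cyc 8 (.inj 5 .done)))))))))))))
 (.inj 4 (.cyc 4 (.inj 21 (.octad 10584520 6053905 (.cyc 8 (.inj 14 (.cyc 9 (.inj 10 (.octad 9998658 1302533 (.cyc 11 (.inj 5 (.cyc 13 (.inj 6 (.cyc 19 (.inj 16 .done)))))))))))))))))))))))))
 (.split 3 19
 (.inj 3 (.cyc 3 (.inj 19 (.octad 11010247 8536111 (.octad 8536111 11010247 (.octad 8925710 622863 (.octad 9963547 13370381 (.octad 13370381 9963547 (.split 4 10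
 (.inj 4 (.cyc 4 (.inj 10 (.octad 13667400 6053905 (.cyc 6 (.inj 14 (.cyc 15 (.inj 13 (.cyc 18 (.inj 11 (.octad 8431757 9347075 (.cyc 7 (.inj 17 (.octad 12624578 1302533 (.cyc 9 (.inj 16 .done))))))))))))))))
 (.split 4 18
 (.inj 4 (.cyc 4 (.inj 18 (.octad 10486557 9347075 (.cyc 8 (.inj 13 (.cyc 9 (.inj 15 (.cyc 21 (.inj 17 (.octad 10491778 1302533 (.cyc 6 (.inj 5 (.cyc 10 (.inj 20 .done)))))))))))))))
 (.inj 4 (.cyc 4 (.inj 22 (.octad 12656663 12656663 (.octad 9506893 9347075 (.cyc 6 (.inj 17 (.cyc 9 (.inj 8 (.cyc 11 (.inj 10 (.octad 10825794 1302533 (.cyc 7 (.inj 5 .done))))))))))))))))))))))))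
 (.split 3 20
 (.inj 3 (.cyc 3 (.inj 20 (.octad 13631886 3416079 (.octad 4229001 11952160 (.octad 14950785 14950785 (.octad 8536111 9471495 (.octad 4264387 11282452 (.split 4 6
 (.inj 4 (.cyc 4 (.inj 6 (.octad 11010247 12656663 (.cyc 7 (.inj 13 (.cyc 11 (.inj 12 (.cyc 18 (.inj 8 (.octad 8471941 9347075 (.cyc 10 (.inj 17 (.cyc 5 (.inj 9 .done)))))))))))))))
 (.split 4 12
 (.inj 4 (.cyc 4 (.inj 12 (.octad 8657159 12656663 (.cyc 8 (.inj 13 (.cyc 11 (.inj 16 (.cyc 18 (.inj 22 (.octad 12747077 9347075 (.octad 8555274 1302533 (.cyc 9 (.inj 14 .done))))))))))))))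
 (.inj 4 (.cyc 4 (.inj 16 (.octad 5279 10305542 (.cyc 6 (.inj 11 (.cyc 7 (.inj 18 (.cyc 10 (.inj 14 (.octad 12587685 9347075 (.cyc 8 (.inj 21 .done)))))))))))))))))))))))
 (.split 3 21
 (.inj 3 (.cyc 3 (.inj 21 (.octad 10554382 3416079 (.octad 593097 11952160 (.octad 8536111 11010247 (.octad 4299781 9708306 (.octad 9776129 9776129 (.split 4 12
 (.inj 4 (.cyc 4 (.inj 12 (.octad 8592704 6053905 (.cyc 6 (.inj 14 (.cyc 5 (.inj 7 (.cyc 8 (.inj 22 (.octad 9112069 9347075 (.cyc 10 (.inj 20 (.octad 9178690 1302533 .done))))))))))))))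
 (.split 4 15
 (.inj 4 (.cyc 4 (.inj 15 (.octad 2162811 12222476 (.cyc 5 (.inj 19 (.cyc 6 (.inj 17 (.cyc 16 (.inj 20 (.octad 9503954 1302533 (.cyc 10 (.inj 13 (.octad 8490656 6053905 (.cyc 8 (.inj 12 .done))))))))))))))))
 (.inj 4 (.cyc 4 (.inj 22 (.octad 13192208 6053905 (.octad 551943 10305542 (.octad 8471941 9347075 (.cyc 6 (.inj 5 (.cyc 8 (.inj 15 (.cyc 10 (.inj 18 .done))))))))))))))))))))))
 (.inj 3 (.cyc 3 (.inj 22 (.octad 8536111 12656663 (.octad 12656663 8536111 (.octad 4196943 13631886 (.octad 14716939 13370381 (.octad 13631886 4196943 (.split 4 5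
 (.inj 4 (.cyc 4 (.inj 5 (.octad 8611330 1302533 (.cyc 9 (.inj 20 (.cyc 10 (.inj 15 (.octad 10630149 9347075 (.octad 13062145 11100169 (.octad 2430217 15515712 (.cyc 7 (.inj 11 .done)))))))))))))
 (.split 4 14
 (.inj 4 (.cyc 4 (.inj 14 (.octad 8849458 1302533 (.cyc 11 (.inj 20 (.cyc 13 (.inj 5 (.cyc 18 (.inj 15 (.octad 10846245 9347075 (.cyc 12 (.inj 10 (.octad 2916505 15515712 (.cyc 7 (.inj 6 .done))))))))))))))))
 (.inj 4 (.cyc 4 (.inj 17 (.octad 8937586 1302533 (.cyc 6 (.inj 20 (.cyc 13 (.inj 14 (.cyc 19 (.inj 15 (.octad 8966165 9347075 (.cyc 12 (.inj 18 (.octad 8946281 14254209 (.cyc 9 (.inj 7 .done))))))))))))))))))))))))))))))))))))))))))))))))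

def L2A : List (List ℕ × (List ℕ × List ℕ) × ℕ) := [([23,2,1,3,4,5,7,6,11,20,15,8,18,13,14,10,16,17,12,21,9,19,22,0], ([11,21,19,14,3,5,15,10,6,2,20,7,18,17,13,9,4,22,12,0,1,23,16,8], [19,20,9,4,16,5,8,11,23,15,7,0,18,14,3,6,22,13,12,2,10,1,17,21]), 0),
  ([23,2,1,3,13,5,21,19,8,10,9,11,12,4,14,20,22,17,18,7,15,6,16,0], ([15,0,23,16,19,3,1,20,13,6,7,14,22,21,17,12,8,4,5,9,18,2,11,10], [1,6,21,5,17,18,9,10,16,19,23,22,15,8,11,0,3,14,20,4,7,13,12,2]), 0),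
  ([23,2,1,3,16,5,19,21,18,9,10,12,11,22,14,15,4,17,8,6,20,7,13,0], ([0,2,1,16,10,22,11,18,19,5,17,7,6,9,13,3,15,4,21,8,14,12,20,23], [0,2,1,15,17,9,12,11,19,13,4,6,21,14,20,16,3,10,7,8,22,18,5,23]), 0),
  ([23,2,1,3,22,5,6,7,12,15,20,18,8,16,14,9,13,17,11,19,10,21,4,0], ([11,23,0,13,15,17,16,3,1,20,7,18,2,19,14,9,21,4,12,5,6,22,10,8], [2,8,12,7,17,19,20,10,23,15,22,0,18,3,14,4,6,5,11,13,9,16,21,1]), 0)]

def L2B : List (List ℕ × (List ℕ × List ℕ) × ℕ) := [([23,2,1,4,3,13,10,15,11,19,6,8,18,5,16,7,14,22,12,9,21,20,17,0], ([23,14,16,3,4,13,2,8,17,15,1,22,12,5,21,11,20,19,18,7,6,10,9,0], [23,10,6,3,4,13,20,19,7,22,21,15,12,5,1,9,2,8,18,17,16,14,11,0]), 0),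
  ([23,2,1,4,3,16,7,6,20,11,18,9,15,17,22,12,5,13,10,21,8,19,14,0], ([3,11,8,16,14,19,5,13,12,23,10,0,15,20,17,7,9,21,6,2,18,1,22,4], [11,21,19,0,23,6,18,15,2,16,10,1,8,7,4,12,3,14,20,5,13,17,22,9]), 0),
  ([23,2,1,4,3,22,12,18,19,20,15,21,6,14,13,10,17,16,7,8,9,11,5,0], ([9,14,16,5,13,11,10,15,23,22,21,12,6,2,1,20,4,3,7,0,17,18,8,19], [19,14,13,17,16,3,12,18,22,0,6,5,11,4,1,7,2,20,21,23,15,10,9,8]), 0),
  ([23,2,1,5,8,3,10,9,4,7,6,13,16,11,17,21,12,14,22,20,19,15,18,0], ([2,7,15,6,20,10,0,14,21,16,23,9,5,19,8,17,13,11,3,18,12,22,4,1], [6,23,0,18,22,12,3,1,14,11,5,17,20,16,7,2,9,15,19,13,4,8,21,10]), 0),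
  ([23,2,1,5,11,3,20,15,13,21,19,4,22,8,17,7,18,14,16,10,6,9,12,0], ([5,0,23,12,8,18,15,14,1,17,6,11,21,2,4,16,19,3,9,10,7,22,20,13], [1,8,13,17,14,0,10,20,4,18,19,11,3,23,7,6,15,9,5,16,22,12,21,2]), 0),
  ([23,2,1,5,12,3,15,20,16,19,21,22,4,18,17,6,8,14,13,9,7,10,11,0], ([0,5,13,18,6,12,11,21,14,2,19,22,10,7,3,8,16,4,15,1,20,9,17,23], [0,19,9,14,17,1,4,13,15,21,12,6,5,2,8,18,16,22,3,10,20,7,11,23]), 0),
  ([23,2,1,5,16,3,7,6,12,10,9,18,8,22,17,20,4,14,11,21,15,19,13,0], ([10,7,15,1,5,2,18,12,21,17,22,9,20,3,8,16,13,11,19,0,14,23,4,6], [19,3,5,13,22,4,23,1,14,11,0,17,7,16,20,2,15,9,6,18,12,8,10,21]), 0),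
  ([23,2,1,5,18,3,9,10,22,6,7,16,13,12,17,19,11,14,4,15,21,20,8,0], ([20,10,6,9,2,19,13,16,0,5,14,12,11,8,7,4,18,15,1,3,22,17,23,21], [8,18,4,19,15,9,2,14,13,3,1,12,11,6,10,17,7,21,16,5,0,23,20,22]), 0),
  ([23,2,1,5,22,3,21,19,18,20,15,12,11,16,17,10,13,14,8,7,9,6,4,0], ([20,19,9,4,2,3,12,23,15,14,22,10,6,11,5,17,8,13,7,0,16,18,1,21], [19,22,4,5,3,14,12,18,16,2,11,13,6,17,9,8,20,15,21,1,0,23,10,7]), 0),
  ([23,2,1,6,9,7,3,5,12,4,16,18,8,20,19,22,10,21,11,14,13,17,15,0], ([2,9,19,14,3,15,16,7,21,4,0,8,20,12,6,5,23,17,11,10,18,22,13,1], [10,23,0,4,9,15,14,7,11,1,19,18,13,22,3,5,6,17,20,2,12,8,21,16]), 0),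
  ([23,2,1,6,11,19,3,17,16,15,20,4,13,12,21,9,8,7,22,5,10,14,18,0], ([10,13,5,16,21,22,14,8,12,7,4,20,23,0,1,15,18,11,9,17,3,2,19,6], [13,14,21,20,10,2,23,9,7,18,0,17,8,1,6,15,3,19,16,22,11,4,5,12]), 0),
  ([23,2,1,6,22,21,3,14,20,18,12,15,10,16,7,11,13,19,9,17,8,5,4,0], ([3,19,9,15,5,11,7,6,18,16,0,17,23,21,10,22,20,2,14,1,12,8,13,4], [10,19,17,0,23,4,7,6,21,2,14,5,20,22,18,3,9,11,8,1,16,13,15,12]), 0),
  ([23,2,1,7,8,21,17,3,4,15,20,16,22,18,19,9,11,6,13,14,10,5,12,0], ([16,20,21,23,8,12,7,0,11,9,17,13,1,3,10,19,5,15,4,6,22,18,2,14], [7,12,22,13,18,16,19,6,4,9,14,8,5,11,23,17,0,10,21,15,1,2,20,3]), 0),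
  ([23,2,1,7,20,6,5,3,12,13,22,18,8,9,21,16,15,19,11,17,4,14,10,0], ([18,22,17,7,5,8,11,15,0,21,3,14,23,20,2,19,9,10,16,6,13,1,4,12], [8,21,14,10,22,4,19,3,5,16,17,6,23,20,11,7,18,2,0,15,13,9,1,12]), 0),
  ([23,2,1,7,22,19,14,3,10,11,8,9,20,16,6,18,13,21,15,5,12,17,4,0], ([11,0,23,9,2,7,21,19,22,13,17,5,16,12,20,4,18,6,3,15,14,10,1,8], [1,22,4,18,15,11,17,5,23,3,21,0,13,9,20,19,12,10,16,7,14,6,8,2]), 0),
  ([23,2,1,8,6,12,4,16,3,10,9,17,5,21,18,20,7,11,14,22,15,13,19,0], ([11,0,23,3,10,16,6,9,4,18,12,17,14,15,5,1,19,22,13,20,2,7,21,8], [1,15,20,3,8,14,6,21,23,7,4,0,10,18,12,13,5,11,9,16,19,22,17,2]), 0),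
  ([23,2,1,8,10,18,21,19,3,13,4,14,17,9,11,22,20,12,5,7,16,6,15,0], ([4,16,14,18,15,2,17,13,12,10,7,8,23,6,11,21,19,0,1,5,9,22,20,3], [17,18,5,23,0,19,13,10,11,20,9,14,8,7,2,4,1,6,3,16,22,15,21,12]), 0),
  ([23,2,1,8,13,11,9,15,3,6,21,5,14,4,12,7,22,18,17,20,19,10,16,0], ([18,16,14,20,22,9,2,15,21,1,11,19,5,17,13,7,0,3,4,6,10,8,23,12], [16,9,6,17,18,12,19,15,21,5,20,10,23,14,2,7,1,13,0,11,3,8,4,22]), 0),
  ([23,2,1,9,7,20,13,4,18,3,14,12,11,6,10,17,21,15,8,22,5,16,19,0], ([21,17,22,2,6,13,18,10,16,1,11,9,19,12,8,3,7,4,14,0,5,15,23,20], [19,9,3,15,17,20,4,16,14,11,7,10,13,5,18,21,8,1,6,12,23,0,2,22]), 0),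
  ([23,2,1,9,16,10,12,8,7,3,5,19,6,22,15,14,4,20,21,11,17,18,13,0], ([11,7,15,12,10,22,4,21,20,18,17,5,3,1,14,16,6,23,19,13,0,9,2,8], [20,13,22,12,6,11,16,1,23,21,4,0,3,19,14,2,15,10,9,18,8,7,5,17]), 0),
  ([23,2,1,9,18,15,19,21,16,3,17,13,22,11,20,5,8,10,4,6,14,7,12,0], ([23,8,11,3,19,5,18,2,20,4,14,7,6,15,22,13,21,16,9,12,17,1,10,0], [23,21,7,3,9,5,12,11,1,18,22,2,19,15,10,13,17,20,6,4,8,16,14,0]), 0),
  ([23,2,1,10,11,20,19,21,22,17,3,4,16,18,15,14,12,9,13,6,5,7,8,0], ([8,3,4,12,20,0,5,2,17,7,18,21,19,14,6,10,9,15,16,13,23,1,22,11], [5,21,7,1,2,6,14,9,0,16,15,23,3,19,13,17,18,8,10,12,4,11,22,20]), 0),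
  ([23,2,1,10,16,9,18,11,19,5,3,7,21,22,20,17,4,15,6,8,14,12,13,0], ([10,14,16,20,15,11,4,12,5,8,21,18,23,22,2,19,7,9,3,13,1,0,17,6], [21,20,14,18,6,8,23,16,9,17,0,5,7,19,1,4,2,22,11,15,3,10,13,12]), 0),
  ([23,2,1,10,21,15,22,16,18,14,3,12,11,19,9,5,7,20,8,13,17,4,6,0], ([0,17,22,4,1,21,15,8,16,13,3,12,18,10,5,20,11,19,14,6,9,2,7,23], [0,4,21,10,3,14,19,22,7,20,13,16,11,9,18,6,8,1,12,17,15,5,2,23]), 0),
  ([23,2,1,11,7,18,16,4,17,10,9,3,14,19,12,20,6,8,5,13,15,22,21,0], ([1,23,0,19,3,6,22,4,15,8,11,9,20,5,21,18,17,7,10,13,12,16,14,2], [2,0,23,4,7,13,5,17,9,11,18,10,20,19,22,8,21,16,15,3,12,14,6,1]), 0),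
  ([23,2,1,11,13,8,10,20,5,21,6,3,17,4,18,19,22,12,14,15,7,9,16,0], ([9,13,5,0,4,12,11,6,18,1,8,23,22,3,14,15,20,17,16,7,10,2,21,19], [3,9,21,13,4,2,7,19,10,0,20,6,5,1,14,15,18,17,8,23,16,22,12,11]), 0),
  ([23,2,1,11,15,12,21,19,14,16,22,3,5,20,8,4,9,18,17,7,13,6,10,0], ([20,5,13,0,10,22,19,4,14,8,1,23,17,15,16,6,11,12,18,3,7,9,2,21], [3,10,22,19,7,1,15,20,9,21,4,16,17,2,8,13,14,12,18,6,0,23,5,11]), 0),
  ([23,2,1,12,9,11,21,19,17,4,13,5,3,10,18,16,15,8,14,7,22,6,20,0], ([17,15,7,5,1,23,10,14,4,2,11,0,13,8,18,20,21,3,12,16,9,6,19,22], [11,4,9,17,8,3,21,2,13,20,6,10,18,12,7,1,19,0,14,22,15,16,23,5]), 0),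
  ([23,2,1,12,13,18,15,9,14,7,19,17,3,4,8,6,22,11,5,10,21,20,16,0], ([17,12,18,7,14,10,5,20,11,21,19,1,15,16,8,13,23,2,6,9,3,4,0,22], [22,11,17,20,21,6,18,3,14,19,5,8,1,15,4,12,13,0,2,10,7,9,23,16]), 0),
  ([23,2,1,12,19,8,22,13,5,10,9,14,3,7,11,20,21,18,17,4,15,16,6,0], ([17,3,4,9,23,15,1,18,7,16,14,20,19,12,21,5,11,6,10,0,13,8,2,22], [19,6,22,1,2,15,17,8,21,3,18,16,13,20,10,5,9,0,7,12,11,14,23,4]), 0),
  ([23,2,1,13,5,4,15,10,11,21,7,8,18,3,22,6,17,16,12,20,19,9,14,0], ([9,16,14,10,7,15,5,3,17,8,4,22,21,6,18,13,23,0,20,1,2,11,12,19], [17,19,20,7,10,6,13,4,9,0,3,21,22,15,2,5,1,8,14,23,18,12,11,16]), 0),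
  ([23,2,1,13,14,16,11,8,7,20,15,6,21,3,4,10,5,22,19,18,9,12,17,0], ([9,23,0,7,3,13,8,1,2,20,18,11,16,15,4,12,5,10,17,22,21,14,6,19], [2,7,8,4,14,16,22,3,6,0,17,11,15,5,21,13,12,18,10,23,9,20,19,1]), 0),
  ([23,2,1,13,17,22,7,6,15,18,11,10,20,3,16,8,14,4,9,21,12,19,5,0], ([9,11,8,16,7,6,1,2,5,0,3,4,12,14,22,13,17,15,23,20,18,21,10,19], [9,6,7,10,11,8,5,4,2,0,22,1,12,15,13,17,3,16,20,23,19,21,14,18]), 0),
  ([23,2,1,14,6,17,4,22,15,11,12,9,10,19,3,8,21,5,20,13,18,16,7,0], ([0,8,11,12,10,2,6,7,14,3,5,4,13,21,18,16,19,1,17,20,22,9,15,23], [0,17,5,9,11,10,6,7,1,21,4,2,3,12,8,22,15,18,14,16,19,13,20,23]), 0),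
  ([23,2,1,14,7,17,22,4,20,12,11,10,9,21,3,18,19,5,15,16,8,13,6,0], ([6,22,17,15,18,16,0,12,19,8,1,2,11,4,7,20,13,14,21,5,9,3,23,10], [6,10,11,21,13,19,0,14,9,20,23,12,7,16,17,3,5,2,4,8,15,18,1,22]), 0),
  ([23,2,1,14,13,17,19,21,12,20,15,18,8,4,3,10,22,5,11,6,9,7,16,0], ([20,19,9,10,12,7,11,1,3,22,14,5,4,18,6,16,23,15,13,8,17,2,0,21], [22,7,21,8,12,11,14,5,19,2,3,6,4,18,10,17,15,20,13,1,0,23,9,16]), 0),
  ([23,2,1,14,16,17,21,19,11,15,20,8,18,22,3,9,4,5,12,7,10,6,13,0], ([9,20,21,14,4,22,8,2,6,0,18,10,15,5,16,23,3,17,7,1,12,11,13,19], [9,19,7,16,4,13,8,18,6,0,11,21,20,22,3,12,14,17,10,23,1,2,5,15]), 0),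
  ([23,2,1,14,19,17,13,16,9,8,18,15,20,6,3,11,7,5,10,4,12,22,21,0], ([13,18,12,23,9,4,1,11,10,6,7,16,17,2,0,14,8,3,15,19,22,20,21,5], [14,6,13,17,5,23,9,10,16,4,8,7,2,0,15,18,11,12,1,19,21,22,20,3]), 0),
  ([23,2,1,14,21,17,16,13,10,18,8,20,15,7,3,12,6,5,9,22,11,4,19,0], ([17,6,10,15,11,14,20,9,5,4,13,12,0,19,7,23,21,16,3,1,18,8,2,22], [12,19,22,18,9,8,1,14,21,7,2,4,11,10,5,3,17,0,20,13,6,16,23,15]), 0),
  ([23,2,1,15,8,9,19,21,4,5,14,22,13,12,10,3,18,20,16,6,17,7,11,0], ([7,23,0,8,21,1,10,18,20,2,13,16,22,17,5,11,9,4,19,6,3,12,14,15], [2,5,9,20,17,14,19,0,3,16,6,15,21,10,22,23,11,13,7,18,8,4,12,1]), 0),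
  ([23,2,1,15,16,20,8,12,6,14,17,21,7,22,9,3,4,10,19,18,5,11,13,0], ([10,13,5,20,7,23,8,14,11,18,19,22,16,4,12,21,15,9,1,2,0,17,3,6], [20,18,19,22,13,2,23,4,6,17,0,8,14,1,7,16,12,21,9,10,3,15,11,5]), 0),
  ([23,2,1,15,19,10,16,22,18,17,5,12,11,21,20,3,6,9,8,4,14,13,7,0], ([22,7,15,1,23,19,12,13,14,20,9,10,6,3,8,2,18,21,16,0,11,4,5,17], [19,3,15,13,21,22,12,1,14,10,11,20,6,7,8,2,18,23,16,5,9,17,0,4]), 0),
  ([23,2,1,16,5,4,7,6,10,12,8,15,9,14,13,11,3,22,20,21,18,19,17,0], ([22,15,7,9,8,11,6,10,4,23,3,13,0,21,20,5,19,2,12,14,18,16,1,17], [12,22,17,10,8,15,6,2,4,3,7,5,18,11,19,1,21,23,20,16,14,13,0,9]), 0),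
  ([23,2,1,16,14,22,9,20,11,6,19,8,18,17,4,21,3,13,12,10,7,15,5,0], ([17,4,3,12,8,23,21,9,16,20,10,14,13,1,11,7,18,2,5,6,19,15,0,22], [22,13,17,2,1,18,19,15,4,7,10,14,3,12,11,21,8,0,16,20,9,6,23,5]), 0),
  ([23,2,1,16,17,13,18,12,21,20,15,19,7,5,22,10,3,4,6,11,9,8,14,0], ([7,17,22,5,4,18,8,1,9,14,6,20,2,12,23,10,13,3,11,21,16,19,0,15], [22,7,12,17,4,3,10,0,6,8,15,18,13,16,9,23,20,1,5,21,11,19,2,14]), 0),
  ([23,2,1,17,9,14,8,18,6,4,22,19,21,15,5,13,20,3,7,11,16,12,10,0], ([4,10,6,15,2,13,0,20,23,1,17,19,12,16,5,14,8,7,21,9,11,18,22,3], [6,9,4,23,0,14,2,17,16,19,1,20,12,5,15,3,13,10,21,11,7,18,22,8]), 0),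
  ([23,2,1,17,10,14,18,8,7,22,4,21,19,20,5,16,15,3,6,12,13,11,9,0], ([8,21,20,1,12,9,10,22,17,4,18,15,14,13,19,0,23,2,6,16,5,7,3,11], [15,3,17,22,9,20,18,21,0,5,6,23,4,13,12,11,19,8,10,14,2,1,7,16]), 0),
  ([23,2,1,17,13,14,7,6,18,15,20,12,11,4,5,9,22,3,8,21,10,19,16,0], ([12,23,0,22,1,16,20,21,13,10,15,4,3,2,14,6,11,17,5,19,7,9,8,18], [2,4,13,12,11,18,15,20,22,21,9,16,0,8,14,10,5,17,23,19,6,7,3,1]), 0),
  ([23,2,1,17,15,14,11,12,19,13,16,6,7,9,5,4,10,3,21,8,22,18,20,0], ([11,15,7,2,9,6,23,22,16,3,20,0,17,4,10,19,21,1,18,14,5,12,13,8], [11,17,3,9,13,20,5,2,23,4,14,0,21,22,19,1,8,12,18,15,10,16,7,6]), 0),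
  ([23,2,1,17,20,14,12,11,21,16,13,7,6,10,5,22,9,3,19,18,4,8,15,0], ([11,17,22,16,10,1,19,18,21,7,3,12,9,4,2,13,15,14,0,23,6,20,5,8], [18,5,14,10,13,22,20,9,23,12,4,0,11,15,17,16,3,1,7,6,21,8,2,19]), 0),
  ([23,2,1,17,22,14,19,21,11,10,9,8,18,16,5,20,13,3,12,6,15,7,4,0], ([6,15,7,9,18,20,17,14,13,8,11,5,3,0,21,1,23,19,4,22,2,16,12,10], [13,15,20,12,18,11,0,2,9,3,23,10,22,8,7,1,21,6,4,17,5,14,19,16]), 0),
  ([23,2,1,18,13,12,20,10,17,19,7,14,5,4,11,21,22,8,3,9,6,15,16,0], ([1,20,21,6,8,15,23,5,17,3,13,14,7,11,16,18,19,22,10,4,0,12,9,2], [20,0,23,9,19,7,3,12,4,22,18,13,21,10,11,5,14,8,15,16,1,2,17,6]), 0),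
  ([23,2,1,18,20,8,21,19,5,22,16,17,14,15,12,13,10,11,3,7,4,6,9,0], ([9,18,12,8,7,17,21,0,22,13,4,2,14,10,16,6,3,1,11,23,15,20,5,19], [7,17,11,16,10,22,15,4,3,0,13,18,2,9,12,20,14,5,1,23,21,6,8,19]), 0),
  ([23,2,1,18,21,11,13,22,14,10,9,5,17,6,8,20,19,12,3,16,15,4,7,0], ([17,1,2,13,20,15,9,23,4,8,11,7,6,19,3,14,12,10,5,18,16,21,0,22], [22,1,2,14,8,18,12,11,9,6,17,10,16,3,15,5,20,0,19,13,4,21,23,7]), 0),
  ([23,2,1,19,10,21,14,17,12,16,4,18,8,15,6,13,9,7,11,3,22,5,20,0], ([7,20,21,14,1,3,5,17,6,12,2,9,10,23,13,0,18,22,19,16,8,4,11,15], [15,4,10,5,21,6,8,0,20,11,12,22,9,14,3,23,19,7,16,18,1,2,17,13]), 0),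
  ([23,2,1,19,18,6,5,14,13,15,20,22,16,8,7,9,12,21,4,3,10,17,11,0], ([20,2,1,17,13,14,16,6,12,9,11,4,23,18,10,19,0,7,5,22,8,15,3,21], [16,2,1,22,11,18,7,17,20,9,14,10,8,4,5,21,6,3,13,15,0,23,19,12]), 0),
  ([23,2,1,19,22,7,17,5,9,8,11,10,15,16,21,12,13,6,20,3,18,14,4,0], ([22,11,8,5,2,10,7,6,19,9,12,18,20,16,4,21,14,15,23,13,0,3,1,17], [20,22,4,21,14,3,7,6,2,9,5,1,10,19,16,17,13,23,11,8,12,15,0,18]), 0),
  ([23,2,1,20,6,9,4,13,18,5,17,12,11,7,15,14,19,10,8,16,3,22,21,0], ([12,19,9,17,3,1,4,6,0,2,11,21,20,10,16,14,5,8,23,13,22,15,7,18], [8,5,9,4,6,16,7,22,17,2,13,10,0,19,15,21,14,3,23,1,12,11,20,18]), 0),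
  ([23,2,1,20,12,10,19,21,13,14,5,16,4,8,9,17,11,15,22,6,3,7,18,0], ([4,16,14,2,9,11,22,13,6,12,8,20,19,10,18,23,21,0,15,17,1,5,7,3], [17,20,3,23,0,21,8,22,10,4,13,5,9,7,2,18,1,19,14,12,11,16,6,15]), 0),
  ([23,2,1,20,16,15,11,18,21,17,14,6,19,22,10,5,4,9,7,12,3,8,13,0], ([0,11,8,7,2,20,5,22,14,10,19,13,4,18,9,21,1,6,17,3,15,16,12,23], [0,16,4,19,12,6,17,3,2,14,9,1,22,11,8,20,21,18,13,10,5,15,7,23]), 0),
  ([23,2,1,21,12,7,14,5,22,15,20,13,4,11,6,9,18,19,16,17,10,3,8,0], ([19,4,3,2,12,11,6,8,23,13,20,17,18,22,10,5,16,15,14,7,21,1,0,9], [22,21,3,2,1,15,6,19,7,23,14,5,4,9,18,17,16,11,12,0,10,20,13,8]), 0),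
  ([23,2,1,21,15,19,17,14,12,22,13,18,8,10,7,4,20,6,11,5,16,3,9,0], ([7,23,0,22,13,19,14,21,12,4,8,6,18,11,20,5,2,16,10,9,1,17,3,15], [2,20,16,22,9,15,11,0,10,19,18,13,8,4,6,23,17,21,12,5,14,7,3,1]), 0),
  ([23,2,1,21,22,6,5,17,15,12,18,20,9,16,19,8,13,7,10,14,11,3,4,0], ([22,8,11,15,2,5,13,3,9,20,18,0,21,14,10,19,16,4,12,6,23,7,1,17], [11,22,4,7,17,5,19,21,1,8,14,2,18,6,13,3,16,23,10,15,9,12,0,20]), 0),
  ([23,2,1,22,5,4,8,11,6,20,15,7,19,17,16,10,14,13,21,12,9,18,3,0], ([16,20,21,23,6,10,1,11,2,17,19,8,5,18,15,9,7,12,3,13,22,4,0,14], [22,6,8,18,21,12,4,16,11,15,5,7,17,19,23,14,0,9,13,10,1,2,20,3]), 0),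
  ([23,2,1,22,14,13,7,6,9,8,12,20,10,5,4,18,17,16,15,21,11,19,3,0], ([13,19,9,10,7,8,3,4,17,22,23,14,0,11,15,18,2,1,12,20,16,21,6,5], [12,17,16,6,7,23,22,4,5,2,3,13,18,0,11,14,20,8,15,1,19,21,9,10]), 0),
  ([23,2,1,22,17,16,20,9,11,7,21,8,18,14,13,19,5,4,12,15,6,10,3,0], ([23,16,14,19,5,21,6,15,18,7,8,12,17,4,3,2,20,13,22,1,10,11,9,0], [23,19,15,14,13,4,6,9,10,22,20,21,11,17,2,7,1,12,8,3,16,5,18,0]), 0)]

theorem L2A_ok : conjOK (t2A, t2A) (t2A, t2A) L2A = true := by decide +kernel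
theorem L2B_ok : conjOK (t2B, t2B) (t2B, t2B) L2B = true := by decide +kernel

theorem cert_i_transp_ok : check 2 (fun _ => false) cert_i_transp (mkDom pres_i_transp 2) = true := by
  decide +kernel
theorem cert_i_fix_ok : check 2 (QL L2A) cert_i_fix (mkDom pres_i_fix 0) = true := by
  decide +kernel
theorem cert_i_free_ok : check 2 (QL L2B) cert_i_free (mkDom pres_i_free 1) = true := by
  decide +kernel

theorem sq_apply {g : Equiv.Perm GolayPt} (h2 : g ^ 2 = 1) (p : GolayPt) : g (g p) = p := by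
  rw [← Equiv.Perm.mul_apply, ← pow_two, h2, Equiv.Perm.one_apply]

/-- an involution of `M24` is not a transposition -/
theorem involution_two_cycles {g : Equiv.Perm GolayPt} (hg : g ∈ M24) (h2 : g ^ 2 = 1)
    {a : GolayPt} (ha : g a ≠ a) : ∃ c, c ≠ a ∧ c ≠ g a ∧ g c ≠ c := by
  by_contra hcon
  push Not at hcon
  obtain ⟨h, hh, e1, e2⟩ := exists_sends_m24_2 a (g a) (by simp [Ne.symm ha])
  have hcomp : Compat (h * g * h⁻¹) (mkDom pres_i_transp 2) := by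
    apply compat_mkDom
    · intro p hp
      simp only [pres_i_transp, List.mem_cons, List.not_mem_nil, or_false] at hp
      rcases hp with rfl | rfl
      · exact ⟨by rw [← e1, conj_apply, e2], by norm_num⟩
      · exact ⟨by rw [← e2, conj_apply, sq_apply h2, e1], by norm_num⟩
    · intro hm
      exact absurd hm (by norm_num)
    · intro _ x hx hl
      have hn := look_none hl
      have hx23 : x ≠ 23 := fun e => hn (23, 0) (by simp [pres_i_transp]) e.symm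
      have hx0 : x ≠ 0 := fun e => hn (0, 23) (by simp [pres_i_transp]) e.symm
      have hp1 : h⁻¹ (gPt x) ≠ a := by
        intro e
        apply hx23
        have : gPt x = h a := by rw [← e]; simp
        rw [e1] at this
        exact gPt_injOn hx (by norm_num) this
      have hp2 : h⁻¹ (gPt x) ≠ g a := by
        intro e
        apply hx0
        have : gPt x = h (g a) := by rw [← e]; simp
        rw [e2] at this
        exact gPt_injOn hx (by norm_num) this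
      have := hcon _ hp1 hp2
      rw [Equiv.Perm.mul_apply, Equiv.Perm.mul_apply, this]
      simp
  obtain ⟨tab, hQ, -⟩ := check_sound (fun _ => false) (conj_mem_M24 hh hg) (conj_pow_eq_one h2)
    cert_i_transp _ cert_i_transp_ok hcomp
  exact Bool.false_ne_true hQ

theorem exists_moved {g : Equiv.Perm GolayPt} (h1 : g ≠ 1) : ∃ a, g a ≠ a := by
  by_contra hcon
  push Not at hcon
  exact h1 (Equiv.ext hcon)

/-- two disjoint 2-cycles of an involution -/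
theorem involution_points {g : Equiv.Perm GolayPt} (hg : g ∈ M24) (h2 : g ^ 2 = 1) (h1 : g ≠ 1) :
    ∃ a c, [a, g a, c, g c].Nodup := by
  obtain ⟨a, ha⟩ := exists_moved h1
  obtain ⟨c, hca, hcb, hc⟩ := involution_two_cycles hg h2 ha
  refine ⟨a, c, ?_⟩
  have hda : g c ≠ a := by
    intro e
    apply hcb
    rw [← e, sq_apply h2]
  have hdb : g c ≠ g a := fun e => hca (g.injective e)
  simp only [List.nodup_cons, List.mem_cons, List.not_mem_nil, or_false, not_or,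
    List.nodup_nil, and_true, not_false_eq_true]
  exact ⟨⟨Ne.symm ha, Ne.symm hca, Ne.symm hda⟩, ⟨Ne.symm hcb, Ne.symm hdb⟩, Ne.symm hc⟩

/-- an involution of `M24` with a fixed point is conjugate to `T2A` -/
theorem involution_conj_of_fixed {g : Equiv.Perm GolayPt} (hg : g ∈ M24) (h2 : g ^ 2 = 1)
    (h1 : g ≠ 1) (hfix : ∃ e, g e = e) : ∃ k ∈ M24, k * g * k⁻¹ = T2A := by
  obtain ⟨a, c, hnd⟩ := involution_points hg h2 h1
  obtain ⟨e, he⟩ := hfix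
  simp only [List.nodup_cons, List.mem_cons, List.not_mem_nil, or_false, not_or,
    List.nodup_nil, and_true, not_false_eq_true] at hnd
  obtain ⟨⟨hab, hac, had⟩, ⟨hbc, hbd⟩, hcd⟩ := hnd
  have hea : e ≠ a := fun h => hab (by rw [← h, he])
  have heb : e ≠ g a := by
    intro h
    apply hab
    have := he
    rw [h, sq_apply h2] at this
    exact this
  have hec : e ≠ c := fun h => hcd (by rw [← h, he])
  have hed : e ≠ g c := by
    intro h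
    apply hcd
    have := he
    rw [h, sq_apply h2] at this
    exact this
  have hnd5 : [a, g a, c, g c, e].Nodup := by
    simp only [List.nodup_cons, List.mem_cons, List.not_mem_nil, or_false, not_or,
      List.nodup_nil, and_true, not_false_eq_true]
    exact ⟨⟨hab, hac, had, Ne.symm hea⟩, ⟨hbc, hbd, Ne.symm heb⟩, ⟨hcd, Ne.symm hec⟩, Ne.symm hed⟩
  obtain ⟨h, hh, e1, e2, e3, e4, e5⟩ := exists_sends_base5 _ _ _ _ _ hnd5
  have hcomp : Compat (h * g * h⁻¹) (mkDom pres_i_fix 0) := by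
    apply compat_mkDom
    · intro p hp
      simp only [pres_i_fix, List.mem_cons, List.not_mem_nil, or_false] at hp
      rcases hp with rfl | rfl | rfl | rfl | rfl
      · exact ⟨by rw [← e1, conj_apply, e2], by norm_num⟩
      · exact ⟨by rw [← e2, conj_apply, sq_apply h2, e1], by norm_num⟩
      · exact ⟨by rw [← e3, conj_apply, e4], by norm_num⟩
      · exact ⟨by rw [← e4, conj_apply, sq_apply h2, e3], by norm_num⟩
      · exact ⟨by rw [← e5, conj_apply, he, e5], by norm_num⟩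
    · intro hm
      exact absurd hm (by norm_num)
    · intro hm
      exact absurd hm (by norm_num)
  have := exists_conj_of_check (conj_mem_M24 hh hg) (conj_pow_eq_one h2) L2A_ok cert_i_fix_ok hcomp
  rcases this with ⟨k, hk, e⟩ | ⟨k, hk, e⟩ <;>
    exact ⟨k * h, M24.mul_mem hk hh, by rw [← conj_conj, e]; rfl⟩

/-- a fixed-point-free involution of `M24` is conjugate to `T2B` -/
theorem involution_conj_of_free {g : Equiv.Perm GolayPt} (hg : g ∈ M24) (h2 : g ^ 2 = 1)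
    (hfree : ∀ e, g e ≠ e) : ∃ k ∈ M24, k * g * k⁻¹ = T2B := by
  have h1 : g ≠ 1 := fun h => hfree none (by rw [h]; rfl)
  obtain ⟨a, c, hnd⟩ := involution_points hg h2 h1
  obtain ⟨h, hh, e1, e2, e3, e4⟩ := exists_sends_m24_4 _ _ _ _ hnd
  have hcomp : Compat (h * g * h⁻¹) (mkDom pres_i_free 1) := by
    apply compat_mkDom
    · intro p hp
      simp only [pres_i_free, List.mem_cons, List.not_mem_nil, or_false] at hp
      rcases hp with rfl | rfl | rfl | rfl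
      · exact ⟨by rw [← e1, conj_apply, e2], by norm_num⟩
      · exact ⟨by rw [← e2, conj_apply, sq_apply h2, e1], by norm_num⟩
      · exact ⟨by rw [← e3, conj_apply, e4], by norm_num⟩
      · exact ⟨by rw [← e4, conj_apply, sq_apply h2, e3], by norm_num⟩
    · intro _ x _ _ hfx
      apply hfree (h⁻¹ (gPt x))
      rw [Equiv.Perm.mul_apply, Equiv.Perm.mul_apply] at hfx
      apply h.injective
      rw [hfx]
      simp
    · intro hm
      exact absurd hm (by norm_num)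
  have := exists_conj_of_check (conj_mem_M24 hh hg) (conj_pow_eq_one h2) L2B_ok cert_i_free_ok hcomp
  rcases this with ⟨k, hk, e⟩ | ⟨k, hk, e⟩ <;>
    exact ⟨k * h, M24.mul_mem hk hh, by rw [← conj_conj, e]; rfl⟩

/-- the number of fixed points of an involution of `M24` -/
theorem involution_card_fixed {g : Equiv.Perm GolayPt} (hg : g ∈ M24) (h2 : g ^ 2 = 1)
    (h1 : g ≠ 1) : (Finset.univ.filter fun p => g p = p).card = 8 ∨ ∀ e, g e ≠ e := by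
  by_cases hfix : ∃ e, g e = e
  · left
    obtain ⟨k, -, e⟩ := involution_conj_of_fixed hg h2 h1 hfix
    rw [← card_fixed_conj k g, e]
    exact card_fixed_T2A
  · right
    push Not at hfix
    exact hfix

/-! ### elements of order three -/

def t3A : List ℕ := [1,23,3,5,4,2,12,22,16,6,10,7,9,19,14,13,20,17,18,15,8,21,11,0]
def t3Ainv : List ℕ := [23,0,5,2,4,3,9,11,20,12,10,22,6,15,14,19,8,17,18,13,16,21,7,1]
def t3B : List ℕ := [1,23,3,4,2,11,9,18,12,10,6,22,15,17,19,8,14,20,21,16,13,7,5,0]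
def t3Binv : List ℕ := [23,0,4,2,3,22,10,21,15,6,9,5,8,20,16,12,19,13,7,14,17,18,11,1]

/-- the standard element of order 3 with 6 fixed points -/
def T3A : Equiv.Perm GolayPt := permOfTabs t3A t3Ainv
/-- the standard fixed-point-free element of order 3 -/
def T3B : Equiv.Perm GolayPt := permOfTabs t3B t3Binv

theorem t3A_inv : isInvPair t3A t3Ainv = true := by decide +kernel
theorem t3B_inv : isInvPair t3B t3Binv = true := by decide +kernel

theorem T3A_mem : T3A ∈ M24 := permOfTabs_mem_M24 t3A_inv (by decide +kernel)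
theorem T3B_mem : T3B ∈ M24 := permOfTabs_mem_M24 t3B_inv (by decide +kernel)

theorem isTab_T3A : IsTab T3A t3A := isTab_permOfTabs t3A_inv
theorem isTab_T3B : IsTab T3B t3B := isTab_permOfTabs t3B_inv

theorem card_fixed_T3A : (Finset.univ.filter fun p => T3A p = p).card = 6 := by
  rw [isTab_T3A.card_fixed (by decide +kernel)]
  decide +kernel

theorem card_fixed_T3B : (Finset.univ.filter fun p => T3B p = p).card = 0 := by
  rw [isTab_T3B.card_fixed (by decide +kernel)]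
  decide +kernel

def pres_t_single : List (ℕ × ℕ) := [(23, 0), (0, 1), (1, 23)]
def pres_t_main : List (ℕ × ℕ) := [(23, 0), (0, 1), (1, 23), (2, 3)]

def cert_t_single : Cert :=
(.octad 1302533 1302533 (.contra 0))

def cert_t_main : Cert :=
(.inj 0 (.inj 1 (.inj 2 (.inj 23 (.split 3 2
 (.inj 3 (.cyc 2 (.contra 2)))
 (.split 3 4
 (.inj 3 (.cyc 2 (.inj 4 (.octad 9963547 12656663 (.octad 12656663 8536111 (.octad 9968772 4563017 (.octad 1869893 6365962 (.octad 1722420 5842956 (.split 5 11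
 (.inj 5 (.octad 737427 10305542 (.cyc 19 (.inj 14 (.octad 9465987 9347075 (.octad 10305542 11100169 (.cyc 7 (.inj 21 (.octad 2019456 4038912 (.cyc 10 (.inj 9 .done)))))))))))
 (.split 5 19
 (.inj 5 (.octad 5275709 6832158 (.cyc 20 (.inj 14 (.octad 13192208 1302533 (.cyc 10 (.inj 21 (.cyc 13 (.inj 19 (.octad 8983587 9347075 (.octad 9456930 14254209 (.cyc 8 (.inj 6 .done)))))))))))))
 (.inj 5 (.octad 8391797 3416079 (.octad 12717187 9347075 (.cyc 12 (.inj 21 (.cyc 14 (.inj 13 (.cyc 16 (.inj 20 (.octad 10093218 14254209 (.cyc 8 (.inj 18 .done))))))))))))))))))))))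
 (.split 3 5
 (.inj 3 (.cyc 2 (.inj 5 (.octad 8536111 8536111 (.split 14 14
 (.inj 14 (.split 4 4
 (.inj 4 (.octad 737427 13811730 (.octad 8421811 12656663 (.octad 10543366 11100169 (.octad 2908802 15515712 (.octad 9347075 9347075 (.cyc 8 (.inj 20 (.octad 8989058 14254209 (.cyc 11 (.inj 22 (.octad 2322816 8077824 (.cyc 12 (.inj 6 .done))))))))))))))
 (.split 4 6
 (.inj 4 (.octad 8546577 6447171 (.octad 797449 6594610 (.octad 3050016 5210132 (.octad 3719203 10305542 (.octad 9347075 9347075 (.cyc 8 (.inj 16 (.cyc 9 (.inj 6 (.octad 11831426 14254209 (.octad 14551296 7767041 (.cyc 11 (.inj 10 .done))))))))))))))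
 (.split 4 7
 (.inj 4 (.octad 2245426 13262980 (.octad 10832640 6053905 (.octad 371206 16056344 (.octad 11731203 9347075 (.octad 11952160 1302533 (.cyc 11 (.inj 7 (.cyc 13 (.contra 18))))))))))
 (.split 4 8
 (.inj 4 (.octad 8524371 11731203 (.octad 1315526 16056344 (.octad 13911680 6053905 (.octad 12717187 9347075 (.octad 12733024 1302533 (.octad 351362 15515712 (.cyc 6 (.contra 6)))))))))
 (.split 4 9
 (.inj 4 (.octad 1188915 15073798 (.octad 1127686 16056344 (.octad 1618953 6594610 (.cyc 12 (.inj 9 (.octad 9347075 9347075 (.cyc 13 (.inj 19 (.octad 10305542 11100169 (.cyc 8 (.inj 21 (.octad 1369154 15515712 (.octad 12944642 14254209 (.cyc 10 (.inj 7 .done))))))))))))))))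
 (.split 4 10
 (.inj 4 (.octad 8966165 5325835 (.octad 2921478 16056344 (.octad 2430217 6594610 (.octad 11731203 9347075 (.octad 10305542 11100169 (.cyc 4 (.contra 4))))))))
 (.split 4 11
 (.inj 4 (.octad 8937586 15747077 (.octad 4989254 16056344 (.octad 6750560 5210132 (.octad 11731203 9347075 (.octad 11952160 1302533 (.cyc 6 (.contra 4))))))))
 (.split 4 12
 (.inj 4 (.octad 13811730 13062145 (.octad 5939296 5210132 (.octad 7438406 16056344 (.cyc 6 (.inj 12 (.octad 9347075 9347075 (.cyc 15 (.inj 13 (.octad 11952160 1302533 (.octad 16262146 14254209 (.octad 4038912 4038912 (.octad 8077824 8077824 (.octad 14919680 7767041 .done))))))))))))))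
 (.split 4 13
 (.inj 4 (.octad 8524371 9347075 (.octad 8541360 1302533 (.octad 8407702 11100169 (.octad 8439632 6053905 (.octad 31554 15515712 (.cyc 4 (.contra 6))))))))
 (.split 4 15
 (.inj 4 (.octad 8524371 9347075 (.octad 8541360 1302533 (.octad 12604486 11100169 (.octad 8999616 6053905 (.octad 4538962 15515712 (.cyc 6 (.contra 4))))))))
 (.split 4 16
 (.inj 4 (.octad 8541360 1302533 (.octad 4216883 10305542 (.octad 8407702 11100169 (.octad 12638592 6053905 (.octad 6344194 15515712 (.cyc 8 (.inj 16 (.cyc 9 (.inj 6 (.cyc 10 (.contra 22))))))))))))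
 (.split 4 18
 (.inj 4 (.octad 8524371 9347075 (.octad 4216883 10305542 (.octad 12604486 11100169 (.octad 9721936 6053905 (.octad 1594898 15515712 (.cyc 4 (.contra 4))))))))
 (.split 4 19
 (.inj 4 (.octad 8524371 9347075 (.octad 4216883 10305542 (.octad 8407702 11100169 (.octad 14709264 6053905 (.octad 2150610 15515712 (.cyc 6 (.contra 6))))))))
 (.octad 8937586 15747077 (.split 4 20
 (.inj 4 (.octad 8541360 1302533 (.octad 4216883 10305542 (.octad 12604486 11100169 (.octad 13192208 6053905 (.cyc 10 (.contra 11)))))))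
 (.octad 2121909 6832158 (.octad 8546577 6447171 (.octad 8561204 6488205 (.octad 1188915 15073798 (.octad 421910 14828808 (.split 4 21
 (.inj 4 (.octad 8407702 11100169 (.cyc 4 (.contra 4))))
 (.inj 4 (.octad 10543366 11100169 (.cyc 7 (.contra 22))))))))))))))))))))))))))
 (.inj 14 (.cyc 14 (.contra 14))))))))
 (.split 3 6
 (.inj 3 (.cyc 2 (.inj 6 (.octad 11010247 8536111 (.octad 4196943 8683614 (.octad 12594948 2916505 (.octad 12733024 304405 (.octad 13703682 12880401 (.split 4 12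
 (.inj 4 (.octad 2392899 10305542 (.octad 13124355 9347075 (.cyc 8 (.inj 17 (.cyc 7 (.inj 10 (.cyc 11 (.inj 12 (.octad 10543366 11100169 (.cyc 9 (.inj 20 .done))))))))))))
 (.split 4 16
 (.inj 4 (.octad 4202192 5210132 (.octad 12717187 9347075 (.cyc 7 (.inj 13 (.cyc 9 (.inj 16 (.octad 9078992 1302533 (.cyc 8 (.inj 5 .done))))))))))
 (.inj 4 (.octad 8391797 3416079 (.octad 10496547 9347075 (.cyc 5 (.inj 19 (.cyc 8 (.inj 14 (.cyc 22 (.inj 20 (.octad 10748656 1302533 (.cyc 9 (.inj 12 .done))))))))))))))))))))))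
 (.split 3 7
 (.inj 3 (.cyc 2 (.inj 7 (.octad 11010247 8536111 (.octad 8716939 11010247 (.octad 8721940 7864649 (.octad 475812 2949708 (.octad 5571333 2664522 (.split 4 8
 (.inj 4 (.octad 9968772 5275709 (.cyc 11 (.inj 8 (.octad 13893731 9347075 (.octad 15864000 1302533 (.cyc 6 (.inj 16 (.cyc 10 (.inj 13 .done))))))))))
 (.split 4 20
 (.inj 4 (.octad 9830549 3416079 (.cyc 4 (.inj 13 (.cyc 17 (.inj 21 (.octad 11731203 9347075 (.octad 12075408 1302533 (.octad 10170384 6053905 (.cyc 10 (.inj 15 .done)))))))))))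
 (.inj 4 (.octad 8421811 12656663 (.cyc 15 (.inj 22 (.octad 13124355 9347075 (.octad 13108704 1302533 (.cyc 6 (.inj 18 (.cyc 10 (.inj 11 .done))))))))))))))))))))
 (.split 3 8
 (.inj 3 (.cyc 2 (.inj 8 (.octad 8657159 8536111 (.octad 10486557 622863 (.octad 11108882 14254209 (.octad 7340691 11108882 (.octad 2245426 9020484 (.split 4 15
 (.inj 4 (.octad 2392899 10305542 (.cyc 4 (.inj 20 (.cyc 6 (.inj 14 (.octad 8524371 9347075 (.cyc 11 (.inj 10 (.octad 15073798 11100169 (.cyc 7 (.inj 19 .done))))))))))))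
 (.split 4 16
 (.inj 4 (.octad 10496547 9347075 (.cyc 5 (.inj 18 (.octad 8919856 1302533 (.cyc 21 (.inj 20 (.octad 11055264 6053905 (.octad 3322370 15515712 (.cyc 11 (.inj 6 .done)))))))))))
 (.inj 4 (.octad 10491778 10846245 (.octad 10765331 9347075 (.cyc 7 (.inj 15 (.cyc 10 (.inj 17 (.cyc 11 (.inj 13 (.octad 10832640 1302533 (.cyc 4 (.inj 22 .done))))))))))))))))))))))
 (.split 3 9
 (.inj 3 (.cyc 2 (.inj 9 (.octad 9471495 8536111 (.octad 8536111 8716939 (.octad 684577 2425238 (.octad 475812 1410188 (.octad 2245426 12912836 (.split 4 6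
 (.inj 4 (.octad 786999 8683614 (.cyc 5 (.inj 15 (.cyc 19 (.inj 6 (.octad 13893731 9347075 (.octad 13911680 1302533 (.octad 12604486 11100169 (.cyc 11 (.inj 21 .done)))))))))))
 (.split 4 11
 (.inj 4 (.octad 6292775 13303882 (.octad 12717187 9347075 (.cyc 4 (.inj 13 (.cyc 10 (.inj 18 (.cyc 5 (.inj 20 (.octad 13142054 11100169 (.cyc 6 (.inj 8 .done))))))))))))
 (.inj 4 (.octad 8524371 12656663 (.cyc 12 (.inj 22 (.octad 8505411 9347075 (.octad 9929280 1302533 (.octad 9578566 11100169 (.cyc 6 (.inj 21 .done)))))))))))))))))))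
 (.split 3 10
 (.inj 3 (.cyc 2 (.inj 10 (.octad 9471495 8536111 (.octad 10554382 13370381 (.octad 2313249 4989254 (.octad 2173253 6062602 (.octad 10557585 7145475 (.split 4 11
 (.inj 4 (.octad 8622214 11100169 (.octad 11731203 9347075 (.cyc 4 (.inj 22 (.cyc 8 (.inj 14 (.cyc 9 (.inj 6 (.octad 9610624 1302533 (.cyc 7 (.inj 19 .done))))))))))))
 (.split 4 16
 (.inj 4 (.octad 2460752 5210132 (.cyc 6 (.inj 17 (.cyc 18 (.inj 16 (.octad 8505411 9347075 (.octad 8439632 1302533 (.octad 8407702 11100169 (.cyc 7 (.inj 22 .done)))))))))))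
 (.inj 4 (.octad 8391797 3416079 (.octad 10496547 9347075 (.cyc 4 (.inj 19 (.cyc 5 (.inj 15 (.cyc 6 (.inj 14 (.octad 9451104 1302533 (.cyc 7 (.inj 18 .done))))))))))))))))))))))
 (.split 3 11
 (.inj 3 (.cyc 2 (.inj 11 (.octad 8657159 8536111 (.octad 8536111 9963547 (.octad 2313249 1613974 (.octad 190626 14156372 (.octad 12733024 3736597 (.split 4 8
 (.inj 4 (.octad 8391797 622863 (.octad 8983587 9347075 (.cyc 5 (.inj 18 (.cyc 4 (.inj 14 (.cyc 6 (.inj 13 (.octad 8455014 11100169 (.cyc 9 (.inj 7 .done))))))))))))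
 (.split 4 12
 (.inj 4 (.octad 10305542 9748745 (.cyc 18 (.inj 20 (.octad 11731203 9347075 (.octad 10832640 1302533 (.cyc 9 (.inj 15 (.octad 15073798 11100169 (.cyc 6 (.inj 7 .done)))))))))))
 (.inj 4 (.octad 8391797 3416079 (.octad 10765331 9347075 (.cyc 6 (.inj 15 (.octad 14949408 1302533 (.cyc 8 (.inj 20 (.cyc 9 (.inj 13 .done))))))))))))))))))))
 (.split 3 12
 (.inj 3 (.cyc 2 (.inj 12 (.octad 8657159 8536111 (.octad 8536111 14716939 (.octad 684577 7438406 (.octad 8541360 6857221 (.octad 1265762 14714004 (.split 4 9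
 (.inj 4 (.octad 12717187 9347075 (.cyc 11 (.inj 15 (.octad 8660134 11100169 (.octad 8796800 1302533 (.cyc 4 (.inj 20 (.cyc 7 (.inj 16 .done))))))))))
 (.split 4 13
 (.inj 4 (.octad 8966165 3416079 (.octad 8421811 9347075 (.cyc 5 (.inj 18 (.cyc 7 (.inj 20 (.cyc 8 (.inj 22 (.octad 8919856 1302533 (.cyc 4 (.inj 6 .done))))))))))))
 (.inj 4 (.octad 2245426 15515712 (.octad 10765331 9347075 (.cyc 7 (.inj 6 (.cyc 8 (.inj 15 (.cyc 21 (.inj 17 (.octad 9045270 11100169 (.cyc 4 (.inj 16 .done))))))))))))))))))))))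
 (.split 3 13
 (.inj 3 (.cyc 2 (.inj 13 (.octad 8431757 3416079 (.octad 8398155 12656663 (.octad 4294810 11952160 (.octad 190626 11797828 (.octad 563843 11831426 (.split 4 5
 (.inj 4 (.octad 12661896 1302533 (.octad 14716939 9347075 (.cyc 10 (.inj 14 (.cyc 11 (.inj 19 (.cyc 9 (.inj 20 (.octad 2201890 15515712 .done))))))))))
 (.split 4 14
 (.inj 4 (.octad 8683614 11100169 (.octad 8716939 9347075 (.cyc 6 (.inj 17 (.cyc 7 (.inj 19 (.cyc 9 (.inj 21 (.octad 427666 15515712 (.cyc 8 (.inj 14 .done))))))))))))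
 (.inj 4 (.octad 9963547 9347075 (.cyc 20 (.inj 15 (.octad 13148440 1302533 (.cyc 8 (.inj 5 (.octad 5785794 15515712 (.octad 9998658 14254209 (.cyc 9 (.inj 18 .done)))))))))))))))))))))
 (.split 3 14
 (.inj 3 (.cyc 2 (.inj 14 (.octad 8536111 8536111 (.split 5 5
 (.inj 5 (.split 4 4
 (.inj 4 (.octad 4587803 13811730 (.octad 10765331 12656663 (.octad 10554382 11100169 (.octad 1378634 15515712 (.cyc 18 (.inj 20 (.octad 11731203 9347075 (.cyc 10 (.inj 19 (.cyc 11 (.inj 13 (.octad 12944642 14254209 (.cyc 8 (.inj 7 (.octad 4656648 8077824 .done))))))))))))))))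
 (.split 4 6
 (.inj 4 (.octad 8619033 6447171 (.octad 1148257 6594610 (.octad 3328320 5210132 (.octad 2115979 10305542 (.octad 11731203 9347075 (.cyc 4 (.contra 4))))))))
 (.split 4 7
 (.inj 4 (.octad 150618 13262980 (.octad 13667400 6053905 (.octad 7438406 16056344 (.octad 12717187 9347075 (.cyc 4 (.inj 15 (.cyc 6 (.inj 18 (.octad 9652360 1302533 (.octad 7409024 4038912 (.octad 3351624 8077824 (.cyc 11 (.inj 9 (.octad 15864000 7767041 .done)))))))))))))))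
 (.split 4 8
 (.inj 4 (.octad 8524371 11731203 (.octad 1315526 16056344 (.octad 10232008 6053905 (.octad 9347075 9347075 (.octad 8581192 1302533 (.octad 6062602 15515712 (.cyc 7 (.inj 8 (.octad 1710664 8077824 (.cyc 11 (.inj 21 (.octad 9929280 7767041 .done)))))))))))))
 (.split 4 9
 (.inj 4 (.octad 737427 15073798 (.octad 4785798 16056344 (.octad 2687905 6594610 (.cyc 4 (.contra 4))))))
 (.split 4 10
 (.inj 4 (.octad 10486557 5325835 (.octad 3672838 16056344 (.octad 5770785 6594610 (.octad 12717187 9347075 (.octad 13631886 11100169 (.cyc 4 (.contra 15))))))))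
 (.split 4 11
 (.inj 4 (.octad 8474906 15747077 (.octad 1127686 16056344 (.octad 5405696 5210132 (.octad 12717187 9347075 (.octad 9652360 1302533 (.cyc 4 (.contra 15))))))))
 (.split 4 12
 (.inj 4 (.octad 10625178 13062145 (.octad 2322816 5210132 (.octad 6305926 16056344 (.cyc 4 (.contra 4))))))
 (.split 4 13
 (.inj 4 (.octad 8524371 9347075 (.octad 9323032 1302533 (.octad 8683614 11100169 (.cyc 6 (.inj 20 (.cyc 9 (.inj 21 (.cyc 12 (.inj 16 (.octad 11015256 6053905 (.contra 21))))))))))))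
 (.split 4 15
 (.inj 4 (.octad 8524371 9347075 (.octad 9323032 1302533 (.octad 8925710 11100169 (.cyc 6 (.inj 20 (.cyc 9 (.inj 21 (.cyc 12 (.inj 16 (.octad 12849992 6053905 (.octad 5255258 15515712 (.cyc 8 (.inj 15 (.octad 13373586 14254209 (.octad 12985424 7767041 .done))))))))))))))))
 (.split 4 16
 (.inj 4 (.octad 9323032 1302533 (.octad 57883 10305542 (.octad 8683614 11100169 (.cyc 13 (.contra 13))))))
 (.split 4 18
 (.inj 4 (.octad 8524371 9347075 (.octad 57883 10305542 (.octad 8925710 11100169 (.cyc 6 (.inj 20 (.cyc 9 (.inj 21 (.cyc 12 (.inj 16 (.octad 9474712 6053905 (.contra 20))))))))))))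
 (.split 4 19
 (.inj 4 (.octad 8524371 9347075 (.octad 57883 10305542 (.octad 8683614 11100169 (.cyc 6 (.inj 20 (.cyc 9 (.inj 21 (.cyc 12 (.inj 16 (.octad 8464984 6053905 (.contra 16))))))))))))
 (.octad 8474906 15747077 (.split 4 20
 (.inj 4 (.octad 9323032 1302533 (.octad 57883 10305542 (.octad 8925710 11100169 (.cyc 13 (.contra 13))))))
 (.octad 346141 6832158 (.octad 8619033 6447171 (.octad 10698836 6488205 (.octad 737427 15073798 (.octad 1245726 14828808 (.split 4 21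
 (.inj 4 (.octad 8683614 11100169 (.cyc 4 (.contra 7))))
 (.inj 4 (.octad 10554382 11100169 (.cyc 15 (.contra 7))))))))))))))))))))))))))
 (.inj 5 (.cyc 5 (.contra 5))))))))
 (.split 3 15
 (.inj 3 (.cyc 2 (.inj 15 (.octad 9471495 8536111 (.octad 622863 8683614 (.octad 8431757 622863 (.octad 14716939 9471495 (.octad 8683614 8431757 (.split 4 7
 (.inj 4 (.octad 8619033 4505735 (.octad 8716939 9347075 (.cyc 4 (.inj 19 (.cyc 8 (.inj 11 (.cyc 9 (.inj 22 (.octad 10790408 1302533 (.cyc 12 (.inj 14 .done))))))))))))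
 (.split 4 11
 (.inj 4 (.octad 4563017 1613974 (.cyc 16 (.inj 11 (.octad 8398155 9347075 (.octad 13667400 1302533 (.cyc 22 (.inj 14 (.octad 9578566 11100169 (.cyc 9 (.inj 12 .done)))))))))))
 (.inj 4 (.octad 9963547 9347075 (.cyc 11 (.inj 18 (.octad 9474712 1302533 (.cyc 4 (.inj 8 (.cyc 12 (.inj 17 (.octad 8407702 11100169 (.cyc 9 (.inj 21 .done))))))))))))))))))))))
 (.split 3 16
 (.inj 3 (.cyc 2 (.inj 16 (.octad 8716939 12656663 (.octad 12656663 8536111 (.octad 9506893 622863 (.octad 8536111 8716939 (.octad 622863 10554382 (.split 4 5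
 (.inj 4 (.octad 12661896 1302533 (.octad 9465987 9347075 (.cyc 7 (.inj 17 (.cyc 4 (.inj 9 (.cyc 10 (.inj 19 (.octad 13631886 11100169 (.cyc 6 (.inj 21 .done))))))))))))
 (.split 4 14
 (.inj 4 (.octad 2162811 10305542 (.octad 13893731 9347075 (.cyc 21 (.inj 15 (.octad 1084018 15515712 (.cyc 7 (.inj 14 (.cyc 10 (.inj 8 .done))))))))))
 (.inj 4 (.octad 5279 13303882 (.octad 8524371 9347075 (.cyc 10 (.inj 15 (.octad 8464984 1302533 (.cyc 7 (.inj 5 (.cyc 11 (.inj 8 .done))))))))))))))))))))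
 (.split 3 17
 (.inj 3 (.cyc 2 (.inj 17 (.octad 8536111 8536111 (.split 5 5
 (.inj 5 (.split 4 4
 (.inj 4 (.octad 57883 13811730 (.octad 8524371 12656663 (.octad 12604486 11100169 (.octad 6344194 15515712 (.octad 14716939 9347075 (.cyc 9 (.inj 19 (.cyc 10 (.inj 18 (.cyc 11 (.inj 16 (.cyc 12 (.inj 20 (.octad 12624578 14254209 .done)))))))))))))))
 (.split 4 6
 (.inj 4 (.octad 12599513 6447171 (.octad 6326497 6594610 (.octad 2268296 5210132 (.octad 185603 10305542 (.octad 14716939 9347075 (.cyc 4 (.contra 21))))))))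
 (.split 4 7
 (.inj 4 (.octad 150618 13262980 (.octad 10513600 6053905 (.octad 6305926 16056344 (.octad 8398155 9347075 (.octad 14828808 1302533 (.cyc 4 (.contra 4))))))))
 (.split 4 8
 (.inj 4 (.octad 9963547 11731203 (.octad 3672838 16056344 (.octad 10832640 6053905 (.octad 8716939 9347075 (.octad 9652360 1302533 (.cyc 9 (.contra 19))))))))
 (.split 4 9
 (.inj 4 (.octad 4587803 15073798 (.octad 4989254 16056344 (.octad 5017889 6594610 (.cyc 19 (.inj 9 (.octad 57883 9347075 (.contra 4))))))))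
 (.split 4 10
 (.inj 4 (.octad 8966165 5325835 (.octad 2921478 16056344 (.octad 2892897 6594610 (.octad 8398155 9347075 (.cyc 4 (.inj 18 (.cyc 8 (.inj 22 (.octad 10543366 11100169 (.cyc 6 (.inj 16 (.octad 9998658 14254209 (.cyc 12 (.inj 7 (.octad 2675464 8077824 .done))))))))))))))))
 (.split 4 11
 (.inj 4 (.octad 13811730 15747077 (.octad 7438406 16056344 (.octad 3351624 5210132 (.octad 8398155 9347075 (.octad 14828808 1302533 (.cyc 8 (.inj 19 (.cyc 10 (.contra 21))))))))))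
 (.split 4 12
 (.inj 4 (.octad 8474906 13062145 (.octad 5476616 5210132 (.octad 1127686 16056344 (.cyc 20 (.contra 12))))))
 (.split 4 13
 (.inj 4 (.octad 9963547 9347075 (.octad 9323032 1302533 (.octad 8407702 11100169 (.cyc 11 (.inj 15 (.cyc 18 (.contra 18))))))))
 (.split 4 15
 (.inj 4 (.octad 9963547 9347075 (.octad 9323032 1302533 (.octad 10305542 11100169 (.cyc 9 (.contra 19))))))
 (.split 4 16
 (.inj 4 (.octad 9323032 1302533 (.octad 737427 10305542 (.octad 8407702 11100169 (.cyc 4 (.contra 18))))))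
 (.split 4 18
 (.inj 4 (.octad 9963547 9347075 (.octad 737427 10305542 (.octad 10305542 11100169 (.cyc 4 (.inj 21 (.cyc 7 (.inj 13 (.octad 12075408 6053905 (.octad 837906 15515712 (.cyc 11 (.inj 6 (.octad 1903248 4038912 (.cyc 9 (.inj 22 (.octad 8654232 7767041 .done))))))))))))))))
 (.split 4 19
 (.inj 4 (.octad 9963547 9347075 (.octad 737427 10305542 (.cyc 4 (.inj 18 (.octad 8407702 11100169 (.cyc 7 (.contra 20))))))))
 (.octad 13811730 15747077 (.split 4 20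
 (.inj 4 (.octad 9323032 1302533 (.octad 737427 10305542 (.octad 10305542 11100169 (.cyc 4 (.inj 21 (.cyc 7 (.inj 13 (.cyc 16 (.contra 16))))))))))
 (.octad 4343317 6832158 (.octad 12599513 6447171 (.octad 12720156 6488205 (.octad 4587803 15073798 (.octad 6832158 14828808 (.split 4 21
 (.inj 4 (.octad 8407702 11100169 (.cyc 10 (.inj 21 (.cyc 9 (.inj 8 (.cyc 12 (.inj 13 (.cyc 11 (.inj 15 .done))))))))))
 (.inj 4 (.cyc 4 (.contra 21)))))))))))))))))))))))))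
 (.inj 5 (.cyc 5 (.contra 5))))))))
 (.split 3 18
 (.inj 3 (.cyc 2 (.inj 18 (.octad 13370381 3416079 (.octad 4726026 11952160 (.octad 16262146 11575377 (.octad 5129250 11608708 (.octad 4752467 16262146 (.split 4 10
 (.inj 4 (.octad 1869893 6832158 (.cyc 20 (.inj 10 (.octad 14716939 9347075 (.octad 14949408 1302533 (.cyc 8 (.inj 16 (.octad 10650722 14254209 (.cyc 11 (.inj 9 .done)))))))))))
 (.split 4 19
 (.inj 4 (.octad 9963547 9347075 (.cyc 4 (.inj 13 (.octad 14551296 1302533 (.cyc 10 (.inj 6 (.cyc 11 (.inj 16 (.octad 13811730 14254209 (.cyc 8 (.inj 7 .done))))))))))))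
 (.inj 4 (.octad 10765331 12656663 (.cyc 21 (.inj 22 (.octad 8398155 9347075 (.octad 9204992 1302533 (.cyc 12 (.inj 16 (.octad 8937586 14254209 (.cyc 8 (.inj 9 .done)))))))))))))))))))))
 (.split 3 19
 (.inj 3 (.cyc 2 (.inj 19 (.octad 11010247 8536111 (.octad 9963547 11010247 (.octad 13370381 622863 (.octad 8925710 13370381 (.octad 8536111 9963547 (.split 4 6
 (.inj 4 (.octad 5279 13303882 (.octad 8716939 9347075 (.cyc 9 (.inj 15 (.octad 11469952 1302533 (.cyc 4 (.inj 5 (.cyc 7 (.inj 20 .done))))))))))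
 (.split 4 7
 (.inj 4 (.octad 3672838 14688364 (.octad 8398155 9347075 (.cyc 4 (.inj 14 (.cyc 8 (.inj 18 (.cyc 9 (.inj 16 (.octad 13108704 1302533 (.cyc 6 (.inj 11 .done))))))))))))
 (.inj 4 (.octad 8683614 11100169 (.octad 14716939 9347075 (.cyc 4 (.inj 17 (.cyc 12 (.inj 16 (.cyc 10 (.inj 9 (.octad 15515712 1302533 (.cyc 6 (.inj 20 .done))))))))))))))))))))))
 (.split 3 20
 (.inj 3 (.cyc 2 (.inj 20 (.octad 9506893 3416079 (.octad 104010 11952160 (.octad 10825794 14950785 (.octad 9963547 9471495 (.octad 1265762 11282452 (.split 4 9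
 (.inj 4 (.octad 8683614 13771273 (.octad 8505411 9347075 (.cyc 11 (.inj 17 (.cyc 5 (.inj 9 (.cyc 16 (.inj 22 (.octad 351362 15515712 (.cyc 7 (.inj 13 .done))))))))))))
 (.split 4 10
 (.inj 4 (.octad 2627629 6062602 (.octad 8983587 9347075 (.cyc 4 (.inj 17 (.cyc 5 (.inj 15 (.cyc 6 (.inj 22 (.octad 10028808 1302533 (.cyc 7 (.inj 18 .done))))))))))))
 (.inj 4 (.octad 1245726 12222476 (.cyc 9 (.inj 19 (.octad 9474712 1302533 (.cyc 4 (.inj 14 (.cyc 7 (.inj 21 (.octad 8581192 6053905 (.cyc 6 (.inj 8 .done))))))))))))))))))))))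
 (.octad 8536111 14716939 (.split 3 21
 (.inj 3 (.cyc 2 (.inj 21 (.octad 10486557 3416079 (.octad 525274 11952160 (.octad 14716939 11010247 (.octad 69395 9708306 (.split 4 13
 (.inj 4 (.octad 2392899 10305542 (.octad 8421811 9347075 (.cyc 8 (.inj 16 (.octad 8439632 6053905 (.cyc 6 (.inj 22 (.cyc 10 (.inj 13 .done))))))))))
 (.split 4 18
 (.inj 4 (.octad 10625178 10846245 (.octad 8524371 9347075 (.cyc 6 (.inj 15 (.cyc 9 (.inj 16 (.cyc 12 (.inj 14 (.octad 8919856 6053905 (.cyc 10 (.inj 20 .done))))))))))))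
 (.inj 4 (.octad 13124355 9347075 (.cyc 22 (.inj 17 (.octad 12075408 1302533 (.cyc 4 (.inj 16 (.cyc 6 (.inj 12 (.octad 5262104 4038912 (.cyc 10 (.inj 18 .done)))))))))))))))))))))
 (.inj 3 (.cyc 2 (.inj 22 (.octad 14716939 12656663 (.octad 12656663 8536111 (.octad 4196943 13631886 (.octad 13631886 13370381 (.split 4 5
 (.inj 4 (.octad 210955 13811730 (.cyc 12 (.inj 5 (.octad 10543366 11100169 (.cyc 13 (.inj 21 (.octad 11731203 9347075 (.cyc 11 (.inj 18 (.octad 1728778 15515712 (.cyc 7 (.inj 9 .done)))))))))))))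
 (.split 4 14
 (.inj 4 (.octad 5275709 6832158 (.cyc 15 (.inj 14 (.octad 9465987 9347075 (.octad 14709264 1302533 (.cyc 9 (.inj 19 (.octad 1327290 15515712 (.cyc 7 (.inj 6 .done)))))))))))
 (.inj 4 (.octad 5279 13303882 (.octad 8421811 9347075 (.cyc 5 (.inj 13 (.cyc 12 (.inj 14 (.cyc 20 (.inj 6 (.octad 8394986 14254209 (.cyc 9 (.inj 18 .done)))))))))))))))))))))))))))))))))))))))))))))

def L3 : List (List ℕ × (List ℕ × List ℕ) × ℕ) := [([1,23,3,4,2,11,9,18,12,10,6,22,15,17,19,8,14,20,21,16,13,7,5,0], ([14,19,17,20,13,21,12,3,0,15,8,7,1,11,9,23,6,22,4,10,5,2,18,16], [8,12,21,7,18,20,16,11,10,14,19,13,6,4,0,9,23,2,22,1,3,5,17,15]), 1),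
  ([1,23,3,4,2,19,8,6,7,12,15,16,18,5,20,21,17,11,9,13,22,10,14,0], ([23,0,15,8,12,4,10,9,6,19,13,11,16,3,7,17,22,5,14,2,18,20,21,1], [1,23,19,13,5,17,8,14,3,7,6,11,4,10,18,2,12,15,20,9,21,22,16,0]), 1),
  ([1,23,3,4,2,20,21,15,10,7,18,13,6,14,11,9,5,19,8,22,16,12,17,0], ([10,6,1,23,0,19,17,8,2,15,3,21,13,7,18,12,14,11,4,22,16,20,5,9], [4,2,8,10,18,22,1,13,7,23,0,17,15,12,16,9,20,6,14,5,21,11,19,3]), 1),
  ([1,23,3,5,4,2,12,22,16,6,10,7,9,19,14,13,20,17,18,15,8,21,11,0], ([19,15,22,11,17,7,23,3,9,1,14,2,0,20,10,16,6,18,21,8,12,4,5,13], [12,9,11,7,21,22,16,5,19,8,14,3,20,23,10,1,15,4,17,0,13,18,2,6]), 0),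
  ([1,23,3,5,6,2,9,7,21,4,11,22,12,13,14,19,8,17,15,18,20,16,10,0], ([1,23,15,13,8,19,16,14,22,20,2,3,21,4,18,9,7,17,12,6,10,11,5,0], [23,0,10,11,13,22,19,16,4,15,20,21,18,3,7,2,6,17,14,5,9,12,8,1]), 0),
  ([1,23,3,5,9,2,6,10,20,12,22,11,4,18,14,15,16,17,19,13,21,8,7,0], ([12,9,16,20,23,8,17,22,3,0,11,10,1,19,21,18,14,4,15,13,5,2,7,6], [9,12,21,8,17,20,23,22,5,1,11,10,0,19,16,18,2,6,15,13,3,14,7,4]), 0),
  ([1,23,3,5,12,2,4,11,8,9,7,10,6,15,14,18,21,17,13,19,16,20,22,0], ([12,9,23,0,7,1,11,2,18,10,5,3,22,16,17,20,19,4,8,21,13,15,14,6], [3,5,7,11,17,10,23,4,18,1,9,6,0,20,22,21,13,14,8,16,15,19,12,2]), 0),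
  ([1,23,3,6,12,10,2,5,19,18,7,4,11,21,13,16,22,8,20,17,9,14,15,0], ([3,4,13,17,22,19,20,14,1,15,16,11,5,9,6,21,7,0,8,23,12,10,18,2], [17,8,23,0,1,12,14,16,18,13,21,11,20,2,7,9,10,3,22,5,6,15,4,19]), 1),
  ([1,23,3,6,16,8,2,17,21,4,19,15,22,7,10,20,9,13,12,14,11,5,18,0], ([5,11,21,7,4,15,18,10,8,3,1,13,19,9,0,17,2,6,14,23,20,12,16,22], [14,10,16,9,4,0,17,3,8,13,7,1,21,11,18,5,22,15,6,12,20,2,23,19]), 1),
  ([1,23,3,6,20,13,2,14,7,15,21,18,9,19,8,12,11,10,16,5,22,17,4,0], ([3,4,14,19,13,1,16,11,5,15,7,6,12,23,22,8,10,21,9,0,17,18,20,2], [19,5,23,0,1,8,11,10,15,18,16,7,12,4,2,9,6,20,21,3,22,17,14,13]), 1),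
  ([1,23,3,7,8,18,17,2,11,21,22,4,20,10,9,12,6,16,19,5,15,14,13,0], ([20,13,7,18,12,1,11,21,15,14,4,8,10,3,16,9,5,22,23,0,6,19,2,17], [19,5,22,13,10,16,20,2,11,15,12,6,4,1,9,8,14,23,3,21,0,7,17,18]), 1),
  ([1,23,3,7,20,9,5,2,15,6,8,12,22,4,16,10,19,18,21,14,13,17,11,0], ([20,13,0,1,7,10,9,23,15,6,12,16,14,21,5,8,11,4,2,22,18,3,19,17], [2,3,18,21,17,14,9,4,15,6,5,16,10,1,12,8,11,23,20,22,0,13,19,7]), 1),
  ([1,23,3,7,22,16,14,2,13,19,20,10,8,12,18,4,21,9,6,17,11,5,15,0], ([23,0,11,22,16,10,21,5,12,20,3,2,8,15,7,19,6,17,18,13,4,9,14,1], [1,23,11,10,20,7,16,14,12,21,5,2,8,19,22,13,4,17,18,15,9,6,3,0]), 1),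
  ([1,23,3,8,15,10,18,9,2,19,11,5,17,12,6,20,22,13,14,7,4,16,21,0], ([9,10,5,11,14,3,12,13,22,17,4,2,18,7,8,19,0,21,15,20,16,23,1,6], [16,22,11,5,10,2,23,13,14,0,1,3,6,7,4,18,20,9,12,15,19,17,8,21]), 1),
  ([1,23,3,8,16,13,11,4,2,15,12,17,14,18,10,22,7,6,5,20,21,19,9,0], ([5,11,7,18,20,1,12,17,21,2,10,15,6,23,9,3,13,8,0,16,14,19,4,22], [18,5,9,15,22,0,12,2,17,14,10,1,6,16,20,11,19,7,3,21,4,8,23,13]), 1),
  ([1,23,3,8,19,6,12,21,2,16,18,14,5,11,13,7,20,10,17,22,9,15,4,0], ([7,18,13,17,11,15,8,23,20,19,9,4,12,3,2,1,16,6,10,22,14,0,5,21], [21,15,14,13,11,22,17,0,6,10,18,4,12,2,20,5,16,3,1,9,8,23,19,7]), 1),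
  ([1,23,3,9,6,18,19,20,22,2,14,12,21,8,16,5,10,7,15,4,17,11,13,0], ([21,7,4,2,17,1,20,12,5,3,19,6,9,22,16,0,14,8,23,13,15,10,11,18], [15,5,3,9,2,8,11,1,17,12,21,22,7,19,16,20,14,4,23,10,6,0,13,18]), 1),
  ([1,23,3,9,11,16,12,15,6,2,17,13,8,4,7,14,20,18,10,21,5,22,19,0], ([14,19,1,23,11,2,8,21,15,0,17,22,12,5,18,7,3,20,13,10,4,6,9,16], [9,2,5,16,20,13,21,15,6,22,19,4,12,18,0,8,23,10,14,1,17,7,11,3]), 1),
  ([1,23,3,9,22,7,13,10,11,2,5,19,4,21,18,17,15,16,20,8,14,6,12,0], ([0,1,2,3,9,5,12,11,21,4,22,7,6,15,14,13,20,17,19,18,16,8,10,23], [0,1,2,3,9,5,12,11,21,4,22,7,6,15,14,13,20,17,19,18,16,8,10,23]), 1),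
  ([1,23,3,10,11,6,9,16,15,5,2,22,21,20,8,14,19,13,12,7,17,18,4,0], ([6,9,0,1,12,7,18,4,11,21,23,15,17,19,5,22,2,14,13,3,16,20,8,10], [2,3,16,19,7,14,0,5,22,1,23,8,4,18,17,11,20,12,6,13,21,9,15,10]), 1),
  ([1,23,3,10,16,8,15,21,20,14,2,19,11,9,13,17,18,6,4,12,5,22,7,0], ([19,16,9,10,4,0,21,17,1,12,6,11,5,8,15,7,2,18,3,22,23,20,13,14], [5,8,16,18,4,12,10,15,13,2,3,11,9,22,23,14,1,7,17,0,21,6,19,20]), 1),
  ([1,23,3,10,21,13,20,11,9,17,2,18,16,15,6,5,22,8,7,4,14,19,12,0], ([18,21,10,6,14,22,23,17,4,2,9,20,12,5,1,11,15,3,13,16,0,19,8,7], [20,14,9,17,8,13,3,23,22,10,2,15,12,18,4,16,19,7,0,21,11,1,5,6]), 1),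
  ([1,23,3,11,8,19,16,9,14,21,15,2,17,6,4,22,13,20,5,18,12,7,10,0], ([4,2,9,10,22,15,21,0,5,1,17,6,14,18,11,20,7,19,12,8,16,23,13,3], [7,9,1,23,0,8,11,16,19,2,3,14,18,22,12,5,20,10,13,17,15,6,4,21]), 1),
  ([1,23,3,11,12,4,10,6,17,16,7,2,5,22,20,9,15,19,14,8,18,13,21,0], ([20,13,0,1,11,5,12,8,9,14,15,23,22,21,4,16,19,10,3,6,2,18,7,17], [2,3,20,18,14,5,19,22,7,8,17,4,6,1,9,10,15,23,21,16,0,13,12,11]), 1),
  ([1,23,3,11,18,20,21,22,5,10,13,2,14,9,19,6,7,4,17,12,8,15,16,0], ([7,18,0,1,15,17,9,2,13,16,14,23,22,19,5,6,4,12,8,11,20,10,3,21], [2,3,7,22,16,14,15,0,18,6,21,19,17,8,10,4,9,5,1,13,20,23,12,11]), 1),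
  ([1,23,3,12,9,21,10,13,5,20,19,17,2,16,22,11,7,15,14,6,4,8,18,0], ([9,10,11,22,0,4,14,20,3,1,19,21,5,13,12,18,17,7,8,16,23,2,15,6], [4,9,21,8,5,12,23,17,18,0,1,2,14,13,6,22,19,16,15,10,7,11,3,20]), 1),
  ([1,23,3,12,13,15,4,19,17,16,9,14,2,6,21,18,10,22,5,20,7,11,8,0], ([22,5,23,0,20,8,17,6,2,21,18,19,1,13,16,12,7,3,15,9,10,14,4,11], [3,12,8,17,22,1,7,16,5,19,20,23,15,13,21,18,14,6,10,11,4,9,0,2]), 1),
  ([1,23,3,12,19,22,7,9,14,6,13,5,2,20,15,8,4,21,17,16,10,18,11,0], ([0,1,6,9,7,4,22,5,8,11,14,3,10,19,12,15,21,17,13,18,16,20,2,23], [0,1,22,11,5,7,2,4,8,3,12,9,14,18,10,15,20,17,19,13,21,16,6,23]), 1),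
  ([1,23,3,13,5,6,4,20,22,7,16,21,15,2,10,18,14,8,12,11,9,19,17,0], ([13,17,23,0,11,22,5,14,10,16,4,7,8,1,3,12,2,9,15,21,19,18,6,20], [3,13,16,14,10,6,22,11,12,17,8,4,15,0,7,18,9,1,21,20,23,19,5,2]), 1),
  ([1,23,3,13,14,10,16,18,4,15,22,20,11,2,8,21,17,6,19,7,12,9,5,0], ([20,13,14,19,2,8,23,21,4,11,12,9,6,16,3,22,0,1,7,18,10,5,15,17], [16,17,4,14,8,21,12,18,5,11,20,9,10,1,2,22,13,23,19,3,0,7,15,6]), 1),
  ([1,23,3,13,17,8,22,21,16,11,4,18,7,2,6,20,5,10,9,15,19,12,14,0], ([18,21,19,16,13,23,6,8,0,2,20,3,15,14,10,22,1,17,4,11,5,12,9,7], [8,16,9,11,18,20,6,23,7,22,14,19,21,4,13,12,3,17,0,2,10,1,15,5]), 1),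
  ([1,23,3,14,4,5,6,8,15,9,16,21,12,11,2,7,19,17,22,10,18,13,20,0], ([3,5,19,15,4,14,21,12,9,10,1,22,17,7,13,6,23,18,8,0,20,11,16,2], [19,10,23,0,4,1,15,13,18,8,9,21,7,14,5,3,22,12,17,2,20,6,11,16]), 0),
  ([1,23,3,14,7,5,22,15,8,11,19,13,10,9,2,4,16,17,6,12,20,21,18,0], ([9,6,22,11,2,4,8,3,14,19,1,15,0,13,7,5,17,10,20,23,21,18,16,12], [12,10,4,7,5,15,1,14,6,0,17,3,23,13,8,11,22,16,21,9,18,20,2,19]), 0),
  ([1,23,3,14,8,5,20,4,7,21,12,9,16,13,2,15,10,17,18,19,22,11,6,0], ([6,12,8,16,19,4,1,13,15,22,3,7,5,10,20,18,2,21,17,14,23,11,0,9], [22,6,16,10,5,12,0,11,2,23,13,21,1,7,19,8,3,18,15,4,14,17,9,20]), 0),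
  ([1,23,3,14,15,5,18,7,4,13,10,11,19,21,2,8,12,17,20,16,6,9,22,0], ([19,15,16,20,11,18,6,10,22,3,17,14,1,5,8,7,0,21,12,23,9,2,4,13], [16,12,21,9,22,13,6,15,14,20,7,4,18,23,11,1,2,10,5,0,3,17,8,19]), 0),
  ([1,23,3,15,7,21,11,19,6,17,14,8,10,16,12,2,18,22,13,4,5,20,9,0], ([14,19,23,0,12,13,5,15,22,18,2,11,4,6,3,1,9,21,10,8,20,17,7,16], [3,15,10,14,12,6,13,22,19,16,18,11,4,5,0,7,23,21,9,1,20,17,8,2]), 1),
  ([1,23,3,15,11,12,13,8,18,5,17,16,9,19,22,2,4,21,7,6,14,10,20,0], ([10,6,0,1,4,14,17,15,8,16,22,2,19,20,7,23,3,5,12,13,21,11,18,9], [2,3,11,16,4,17,1,14,8,23,0,21,18,19,5,7,9,6,22,12,13,20,10,15]), 1),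
  ([1,23,3,15,13,22,7,16,4,14,5,19,20,8,21,2,6,12,11,18,17,9,10,0], ([13,17,11,22,21,14,1,23,18,9,16,4,15,7,10,5,0,12,3,2,8,6,19,20], [16,6,19,18,11,15,21,13,20,9,14,2,17,0,5,12,10,1,8,22,23,4,3,7]), 1),
  ([1,23,3,16,5,9,8,13,21,4,20,12,15,17,18,11,2,7,22,10,19,6,14,0], ([13,17,6,9,3,4,12,18,15,2,1,22,5,21,14,11,10,7,19,0,23,8,16,20], [19,10,9,4,5,12,2,17,21,3,16,15,6,0,14,8,22,1,7,18,23,13,11,20]), 1),
  ([1,23,3,16,14,18,19,4,10,22,12,6,8,5,7,21,2,9,13,11,15,20,17,0], ([18,21,0,1,8,5,3,15,10,20,6,2,9,22,12,14,23,17,11,4,16,19,13,7], [2,3,11,6,19,5,10,23,4,12,8,18,14,22,15,7,20,17,0,21,9,1,13,16]), 1),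
  ([1,23,3,16,17,7,15,22,11,13,6,20,19,14,9,10,2,18,4,21,8,12,5,0], ([5,11,6,9,16,23,15,0,3,20,12,4,18,13,17,8,10,14,19,21,2,7,1,22], [7,22,20,8,11,0,2,21,15,3,16,1,10,13,17,6,4,14,12,18,9,19,23,5]), 1),
  ([1,23,3,17,4,5,16,7,8,22,21,6,13,20,14,15,11,2,10,9,12,18,19,0], ([20,8,2,3,4,14,22,18,17,1,12,7,19,15,21,10,11,5,6,0,13,9,23,16], [19,9,2,3,4,17,18,11,1,21,15,16,10,20,5,13,23,8,7,12,0,14,6,22]), 0),
  ([1,23,3,17,10,5,15,12,19,9,18,11,20,13,14,16,6,2,4,22,7,21,8,0], ([7,22,13,19,12,18,23,20,3,14,9,17,8,21,10,0,1,15,6,5,16,4,2,11], [15,16,22,8,21,19,18,0,12,10,14,23,4,2,9,17,20,11,5,3,7,13,1,6]), 0),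
  ([1,23,3,17,18,5,11,20,22,8,10,15,12,7,14,6,16,2,21,19,13,4,9,0], ([2,3,0,1,12,17,8,7,13,15,4,16,10,11,14,20,21,23,9,18,22,6,19,5], [2,3,0,1,10,23,21,7,6,18,12,13,4,8,14,9,11,5,19,22,15,16,20,17]), 0),
  ([1,23,3,17,21,5,6,13,9,19,4,16,7,12,14,11,15,2,18,8,20,10,22,0], ([0,1,12,9,7,4,21,15,5,2,11,16,19,13,17,8,20,6,10,3,18,22,14,23], [0,1,9,19,5,8,17,4,15,3,18,10,2,13,22,7,11,14,20,12,16,6,21,23]), 0),
  ([1,23,3,18,10,16,22,12,5,11,20,14,17,6,9,19,8,7,2,21,4,15,13,0], ([11,22,0,1,20,14,6,15,16,2,13,3,8,10,4,18,19,12,23,21,17,7,9,5], [2,3,9,11,14,23,6,21,12,22,13,0,17,10,5,7,8,20,15,16,4,19,1,18]), 1),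
  ([1,23,3,18,19,9,10,8,14,12,21,17,5,4,7,22,11,16,2,13,15,6,20,0], ([16,14,17,20,1,9,8,5,11,10,12,18,6,0,22,3,7,21,13,23,2,15,4,19], [13,4,20,15,22,7,12,16,6,5,9,8,10,18,1,21,0,2,11,23,3,17,14,19]), 1),
  ([1,23,3,18,22,7,19,11,17,8,13,5,14,15,16,10,12,9,2,20,6,4,21,0], ([19,16,17,20,2,21,0,7,11,5,8,18,6,12,9,15,10,22,13,1,23,4,3,14], [6,19,4,22,21,9,12,7,10,14,16,8,13,18,23,15,1,2,11,0,3,5,17,20]), 1),
  ([1,23,3,19,6,4,5,17,12,18,16,21,22,10,11,9,13,20,15,2,7,14,8,0], ([1,23,4,2,14,16,19,11,6,8,7,17,9,21,13,15,18,22,12,3,5,20,10,0], [23,0,3,19,2,20,8,10,9,12,22,7,18,14,4,15,5,11,16,6,21,13,17,1]), 1),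
  ([1,23,3,19,7,20,17,14,13,22,15,6,10,18,4,12,9,11,8,2,21,5,16,0], ([15,8,2,3,6,5,1,9,7,19,13,0,20,18,10,17,14,23,21,4,11,22,16,12], [11,6,2,3,19,5,4,8,1,7,14,20,23,10,16,0,22,15,13,9,12,18,21,17]), 1),
  ([1,23,3,19,21,11,14,5,9,10,8,7,18,22,20,13,12,4,16,2,6,17,15,0], ([7,18,1,23,13,11,12,5,3,4,2,22,10,14,15,16,9,20,6,0,8,17,19,21], [19,2,10,8,9,7,18,0,20,16,12,5,6,4,13,14,15,21,1,22,17,23,11,3]), 1),
  ([1,23,3,20,9,4,13,6,12,5,14,15,21,7,19,17,18,11,22,10,2,8,16,0], ([17,20,8,12,1,0,2,4,5,23,7,9,11,3,18,10,19,6,16,21,15,22,14,13], [5,4,6,13,7,8,17,10,2,11,15,12,3,23,22,20,18,0,14,16,1,19,21,9]), 1),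
  ([1,23,3,20,10,19,21,12,16,14,17,9,18,8,11,5,13,4,7,15,2,22,6,0], ([1,23,16,14,9,11,4,13,21,12,10,8,17,18,15,5,7,6,20,22,19,2,3,0], [23,0,21,22,6,15,17,16,11,4,10,5,9,7,3,14,2,12,13,20,18,8,19,1]), 1),
  ([1,23,3,20,15,11,18,16,6,17,5,10,13,22,4,14,21,19,8,9,2,7,12,0], ([16,14,17,20,5,9,4,1,3,18,6,10,12,15,22,11,23,21,2,7,13,0,8,19], [21,7,18,8,6,4,10,19,22,5,11,15,12,20,1,13,0,2,9,23,3,17,14,16]), 1),
  ([1,23,3,21,13,15,14,17,18,20,4,9,7,10,22,19,8,12,16,5,11,2,6,0], ([16,14,3,4,5,15,10,17,23,7,22,21,13,11,6,8,1,20,0,12,18,2,9,19], [18,16,21,2,3,4,14,9,15,22,6,13,19,12,1,5,0,7,20,23,17,11,10,8]), 1),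
  ([1,23,3,21,18,22,17,5,20,13,8,4,19,16,12,6,9,15,11,14,10,2,7,0], ([14,19,20,13,15,10,21,9,0,2,23,12,11,3,5,18,4,7,8,22,1,17,6,16], [8,20,9,13,16,14,22,17,18,7,5,12,11,3,0,4,23,21,15,1,2,6,19,10]), 1),
  ([1,23,3,21,20,12,5,14,13,18,9,8,6,11,15,7,4,22,10,17,16,2,19,0], ([21,7,6,9,17,5,22,1,12,14,16,8,11,15,23,0,13,4,19,3,20,10,2,18], [15,7,22,19,17,5,2,1,11,3,21,12,8,16,9,13,10,4,23,18,20,0,6,14]), 1),
  ([1,23,3,22,5,12,8,10,19,7,9,20,4,14,21,16,17,15,11,6,18,13,2,0], ([13,17,3,4,5,11,6,16,9,19,14,0,22,7,18,8,12,15,23,10,1,21,2,20], [11,20,22,2,3,4,6,13,15,8,19,5,16,0,10,17,7,1,14,9,23,21,12,18]), 1),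
  ([1,23,3,22,14,21,7,18,10,20,11,8,13,17,15,4,5,12,6,9,19,16,2,0], ([2,3,1,23,7,6,17,20,11,14,22,5,8,12,18,21,10,15,13,16,19,9,0,4], [22,2,0,1,23,11,5,4,12,21,16,8,13,18,9,17,19,6,14,20,7,15,10,3]), 1),
  ([1,23,3,22,17,15,20,19,18,8,6,7,16,5,12,13,14,21,9,11,10,4,2,0], ([22,5,2,3,9,7,20,8,1,0,17,15,19,21,14,18,16,10,23,12,13,6,4,11], [9,8,2,3,22,1,21,5,7,4,17,23,19,20,14,11,16,10,15,12,6,13,0,18]), 1)]

theorem L3_ok : conjOK (t3A, t3Ainv) (t3B, t3Binv) L3 = true := by decide +kernel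

theorem cert_t_single_ok : check 3 (fun _ => false) cert_t_single (mkDom pres_t_single 2) = true := by
  decide +kernel
theorem cert_t_main_ok : check 3 (QL L3) cert_t_main (mkDom pres_t_main 0) = true := by
  decide +kernel

theorem cube_apply {g : Equiv.Perm GolayPt} (h3 : g ^ 3 = 1) (p : GolayPt) : g (g (g p)) = p := by
  have : (g ^ 3) p = p := by rw [h3, Equiv.Perm.one_apply]
  rwa [pow_succ, pow_two, Equiv.Perm.mul_apply, Equiv.Perm.mul_apply] at this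

/-- an element of order 3 of `M24` is not a 3-cycle -/
theorem order3_two_cycles {g : Equiv.Perm GolayPt} (hg : g ∈ M24) (h3 : g ^ 3 = 1)
    {a : GolayPt} (ha : g a ≠ a) : ∃ d, d ≠ a ∧ d ≠ g a ∧ d ≠ g (g a) ∧ g d ≠ d := by
  by_contra hcon
  push Not at hcon
  have hb : g (g a) ≠ g a := fun e => ha (g.injective e)
  have hc : g (g a) ≠ a := by
    intro e
    apply ha
    have := cube_apply h3 a
    rw [e] at this
    exact this
  obtain ⟨h, hh, e1, e2, e3⟩ := exists_sends_m24_3 a (g a) (g (g a))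
    (by simp [Ne.symm ha, Ne.symm hb, Ne.symm hc])
  have hcomp : Compat (h * g * h⁻¹) (mkDom pres_t_single 2) := by
    apply compat_mkDom
    · intro p hp
      simp only [pres_t_single, List.mem_cons, List.not_mem_nil, or_false] at hp
      rcases hp with rfl | rfl | rfl
      · exact ⟨by rw [← e1, conj_apply, e2], by norm_num⟩
      · exact ⟨by rw [← e2, conj_apply, e3], by norm_num⟩
      · exact ⟨by rw [← e3, conj_apply, cube_apply h3, e1], by norm_num⟩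
    · intro hm
      exact absurd hm (by norm_num)
    · intro _ x hx hl
      have hn := look_none hl
      have hx23 : x ≠ 23 := fun e => hn (23, 0) (by simp [pres_t_single]) e.symm
      have hx0 : x ≠ 0 := fun e => hn (0, 1) (by simp [pres_t_single]) e.symm
      have hx1 : x ≠ 1 := fun e => hn (1, 23) (by simp [pres_t_single]) e.symm
      have hp1 : h⁻¹ (gPt x) ≠ a := by
        intro e
        apply hx23
        have : gPt x = h a := by rw [← e]; simp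
        rw [e1] at this
        exact gPt_injOn hx (by norm_num) this
      have hp2 : h⁻¹ (gPt x) ≠ g a := by
        intro e
        apply hx0
        have : gPt x = h (g a) := by rw [← e]; simp
        rw [e2] at this
        exact gPt_injOn hx (by norm_num) this
      have hp3 : h⁻¹ (gPt x) ≠ g (g a) := by
        intro e
        apply hx1
        have : gPt x = h (g (g a)) := by rw [← e]; simp
        rw [e3] at this
        exact gPt_injOn hx (by norm_num) this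
      have := hcon _ hp1 hp2 hp3
      rw [Equiv.Perm.mul_apply, Equiv.Perm.mul_apply, this]
      simp
  obtain ⟨tab, hQ, -⟩ := check_sound (fun _ => false) (conj_mem_M24 hh hg) (conj_pow_eq_one h3)
    cert_t_single _ cert_t_single_ok hcomp
  exact Bool.false_ne_true hQ

/-- an element of order 3 of `M24` is conjugate to `T3A` or to `T3B` -/
theorem order3_conj {g : Equiv.Perm GolayPt} (hg : g ∈ M24) (h3 : g ^ 3 = 1) (h1 : g ≠ 1) :
    (∃ k ∈ M24, k * g * k⁻¹ = T3A) ∨ (∃ k ∈ M24, k * g * k⁻¹ = T3B) := by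
  obtain ⟨a, ha⟩ := exists_moved h1
  obtain ⟨d, hda, hdb, hdc, hd⟩ := order3_two_cycles hg h3 ha
  have hb : g (g a) ≠ g a := fun e => ha (g.injective e)
  have hc : g (g a) ≠ a := by
    intro e
    apply ha
    have := cube_apply h3 a
    rw [e] at this
    exact this
  have hea : g d ≠ a := by
    intro e
    apply hdc
    apply g.injective
    rw [e, cube_apply h3]
  have heb : g d ≠ g a := fun e => hda (g.injective e)
  have hec : g d ≠ g (g a) := fun e => hdb (g.injective e)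
  have hnd5 : [a, g a, g (g a), d, g d].Nodup := by
    simp only [List.nodup_cons, List.mem_cons, List.not_mem_nil, or_false, not_or,
      List.nodup_nil, and_true, not_false_eq_true]
    exact ⟨⟨Ne.symm ha, Ne.symm hc, Ne.symm hda, Ne.symm hea⟩,
      ⟨Ne.symm hb, Ne.symm hdb, Ne.symm heb⟩, ⟨Ne.symm hdc, Ne.symm hec⟩, Ne.symm hd⟩
  obtain ⟨h, hh, e1, e2, e3, e4, e5⟩ := exists_sends_base5 _ _ _ _ _ hnd5
  have hcomp : Compat (h * g * h⁻¹) (mkDom pres_t_main 0) := by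
    apply compat_mkDom
    · intro p hp
      simp only [pres_t_main, List.mem_cons, List.not_mem_nil, or_false] at hp
      rcases hp with rfl | rfl | rfl | rfl
      · exact ⟨by rw [← e1, conj_apply, e2], by norm_num⟩
      · exact ⟨by rw [← e2, conj_apply, e3], by norm_num⟩
      · exact ⟨by rw [← e3, conj_apply, cube_apply h3, e1], by norm_num⟩
      · exact ⟨by rw [← e4, conj_apply, e5], by norm_num⟩
    · intro hm
      exact absurd hm (by norm_num)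
    · intro hm
      exact absurd hm (by norm_num)
  have := exists_conj_of_check (conj_mem_M24 hh hg) (conj_pow_eq_one h3) L3_ok cert_t_main_ok hcomp
  rcases this with ⟨k, hk, e⟩ | ⟨k, hk, e⟩
  · left
    exact ⟨k * h, M24.mul_mem hk hh, by rw [← conj_conj, e]; rfl⟩
  · right
    exact ⟨k * h, M24.mul_mem hk hh, by rw [← conj_conj, e]; rfl⟩

/-- the number of fixed points of an element of order 3 of `M24` -/
theorem order3_card_fixed {g : Equiv.Perm GolayPt} (hg : g ∈ M24) (h3 : g ^ 3 = 1) (h1 : g ≠ 1) :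
    (Finset.univ.filter fun p => g p = p).card = 6 ∨
      (Finset.univ.filter fun p => g p = p).card = 0 := by
  rcases order3_conj hg h3 h1 with ⟨k, -, e⟩ | ⟨k, -, e⟩
  · left
    rw [← card_fixed_conj k g, e]
    exact card_fixed_T3A
  · right
    rw [← card_fixed_conj k g, e]
    exact card_fixed_T3B

/-- an element of order 3 of `M24` with a fixed point is conjugate to `T3A` -/
theorem order3_conj_of_fixed {g : Equiv.Perm GolayPt} (hg : g ∈ M24) (h3 : g ^ 3 = 1) (h1 : g ≠ 1)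
    (hfix : (Finset.univ.filter fun p => g p = p).card ≠ 0) : ∃ k ∈ M24, k * g * k⁻¹ = T3A := by
  rcases order3_conj hg h3 h1 with h | ⟨k, -, e⟩
  · exact h
  · exfalso
    apply hfix
    rw [← card_fixed_conj k g, e]
    exact card_fixed_T3B

/-- a fixed-point-free element of order 3 of `M24` is conjugate to `T3B` -/
theorem order3_conj_of_free {g : Equiv.Perm GolayPt} (hg : g ∈ M24) (h3 : g ^ 3 = 1) (h1 : g ≠ 1)
    (hfree : (Finset.univ.filter fun p => g p = p).card = 0) : ∃ k ∈ M24, k * g * k⁻¹ = T3B := by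
  rcases order3_conj hg h3 h1 with ⟨k, -, e⟩ | h
  · exfalso
    have := card_fixed_T3A
    rw [← e, card_fixed_conj k g, hfree] at this
    exact absurd this (by norm_num)
  · exact h

end Cfsg.Agent.Helper92
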