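import Cfsg.Agent.Helper93.Classes
import Cfsg.Agent.Helper93.Dodecads
import Cfsg.Agent.Helper92.M24Classes

/-!
# Counting the octads / dodecads / sextets / trios fixed by a table permutation

On top of the class arrays of `Helper93` (`octads_eq`, `dodecads_eq`, `sextets_eq`, `trios_eq`).
-/

set_option autoImplicit false

namespace Cfsg.Agent.Helper92

open Cfsg Cfsg.Agent.Helper27 Cfsg.Agent.Helper7 Cfsg.Agent.Helper93
open scoped Pointwise

theorem idx_eq_gIdx (p : GolayPt) : idx p = gIdx p := by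
  cases p with
  | none => rfl
  | some x => rfl

theorem isTable_of_isTab {g : Equiv.Perm GolayPt} {t : List ℕ} (ht : IsTab g t)
    (hv : validTab t = true) (hlen : t.length = 24) : IsTable t g := by
  refine ⟨hlen, fun p => ?_⟩
  rw [idx_eq_gIdx, idx_eq_gIdx]
  have := ht _ (gIdx_lt p)
  rw [gPt_gIdx] at this
  rw [this, gIdx_gPt _ (validTab_spec hv _ (gIdx_lt p))]

/-! ### transport along conjugation -/

theorem ncard_fixed_conj {X : Type*} [MulAction (Equiv.Perm GolayPt) X] {C : Set X}
    (hC : ∀ g ∈ M24, ∀ y ∈ C, g • y ∈ C) {k g T : Equiv.Perm GolayPt} (hk : k ∈ M24)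
    (h : k * g * k⁻¹ = T) :
    {y | y ∈ C ∧ g • y = y}.ncard = {y | y ∈ C ∧ T • y = y}.ncard := by
  have himg : {y | y ∈ C ∧ T • y = y} = (fun y => k • y) '' {y | y ∈ C ∧ g • y = y} := by
    ext y'
    simp only [Set.mem_ofPred_eq, Set.mem_image]
    constructor
    · rintro ⟨h1, h2⟩
      refine ⟨k⁻¹ • y', ⟨hC _ (M24.inv_mem hk) _ h1, ?_⟩, by simp⟩
      rw [← h] at h2
      have : g • k⁻¹ • y' = k⁻¹ • ((k * g * k⁻¹) • y') := by
        simp only [mul_smul, inv_smul_smul]
      rw [this, h2]
    · rintro ⟨y, ⟨h1, h2⟩, rfl⟩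
      refine ⟨hC _ hk _ h1, ?_⟩
      rw [← h]
      simp only [mul_smul, inv_smul_smul, h2]
  rw [himg, Set.ncard_image_of_injective _ (MulAction.injective k)]

/-! ### point sets -/

theorem ncard_fixed_sets {C : Set (Finset GolayPt)} {A : Arr}
    (hC : C = {y | ∃ i < A.n, y = encSet.dec (A.a i)}) (hA : A.ok encSet = true)
    {l : List ℕ} {g : Equiv.Perm GolayPt} (hl : IsTable l g) :
    {y | y ∈ C ∧ g • y = y}.ncard
      = ((List.range A.n).filter fun i => pullMask l (A.a i) == A.a i).length := by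
  have hgood : ∀ i < A.n, A.a i < 2 ^ 24 := by
    intro i hi
    have h1 := hA
    rw [Arr.ok, Bool.and_eq_true] at h1
    have := allB_spec h1.1 i hi
    simpa [encSet, Nat.blt_eq] using this
  have hiff : ∀ i < A.n, (g • sm (A.a i) = sm (A.a i) ↔ pullMask l (A.a i) = A.a i) := by
    intro i hi
    rw [smul_eq_iff_eq_inv_smul, eq_comm, inv_smul_sm hl]
    constructor
    · intro h
      exact sm_inj (pullMask_lt24 hl _) (hgood i hi) h
    · intro h
      rw [h]
  have hset : {y | y ∈ C ∧ g • y = y} = (fun i => sm (A.a i)) ''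
      (((Finset.range A.n).filter fun i => pullMask l (A.a i) = A.a i : Finset ℕ) : Set ℕ) := by
    ext y
    simp only [Set.mem_ofPred_eq, Set.mem_image, Finset.coe_filter, Finset.mem_range, hC]
    constructor
    · rintro ⟨⟨i, hi, rfl⟩, h2⟩
      exact ⟨i, ⟨hi, (hiff i hi).1 h2⟩, rfl⟩
    · rintro ⟨i, ⟨hi, h2⟩, rfl⟩
      exact ⟨⟨i, hi, rfl⟩, (hiff i hi).2 h2⟩
  have hinj : Set.InjOn (fun i => sm (A.a i))
      (((Finset.range A.n).filter fun i => pullMask l (A.a i) = A.a i : Finset ℕ) : Set ℕ) := by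
    intro i hi j hj hij
    simp only [Finset.coe_filter, Finset.mem_range, Set.mem_ofPred_eq] at hi hj
    exact Arr.inj encSet hA i hi.1 j hj.1 hij
  rw [hset, hinj.ncard_image, Set.ncard_coe_finset,
    ← List.toFinset_card_of_nodup (List.nodup_range.filter _)]
  congr 1
  ext i
  simp

/-! ### families of point sets -/

/-- the family with masks `ms` is mapped into itself -/
def fixedFam (l : List ℕ) (ms : List ℕ) : Bool := ms.all fun m => ms.contains (pullMask l m)

theorem fixedFam_iff {l : List ℕ} {g : Equiv.Perm GolayPt} (hl : IsTable l g) {ms : List ℕ}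
    (hms : ∀ m ∈ ms, m < 2 ^ 24) : g • smL ms = smL ms ↔ fixedFam l ms = true := by
  rw [smul_eq_iff_eq_inv_smul, eq_comm]
  unfold fixedFam
  rw [List.all_eq_true]
  constructor
  · intro h m hm
    rw [List.contains_iff_mem]
    have h1 : sm (pullMask l m) ∈ g⁻¹ • smL ms := by
      rw [inv_smul_smL hl, mem_smL]
      exact ⟨pullMask l m, List.mem_map.2 ⟨m, hm, rfl⟩, rfl⟩
    rw [h, mem_smL] at h1
    obtain ⟨m', hm', e⟩ := h1
    have := sm_inj (hms m' hm') (pullMask_lt24 hl m) e
    rw [← this]
    exact hm'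
  · intro h
    apply Finset.eq_of_subset_of_card_le
    · intro s hs
      rw [inv_smul_smL hl, mem_smL] at hs
      obtain ⟨m', hm', rfl⟩ := hs
      obtain ⟨m, hm, rfl⟩ := List.mem_map.1 hm'
      rw [mem_smL]
      have := h m hm
      rw [List.contains_iff_mem] at this
      exact ⟨_, this, rfl⟩
    · rw [Finset.card_smul_finset]

theorem ncard_fixed_fams {k : ℕ} {C : Set (Finset (Finset GolayPt))} {A : Arr}
    (hC : C = {y | ∃ i < A.n, y = (encFam k).dec (A.a i)}) (hA : A.ok (encFam k) = true)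
    {l : List ℕ} {g : Equiv.Perm GolayPt} (hl : IsTable l g) :
    {y | y ∈ C ∧ g • y = y}.ncard
      = ((List.range A.n).filter fun i => fixedFam l (unpackL k (A.a i))).length := by
  have hiff : ∀ i < A.n, (g • smL (unpackL k (A.a i)) = smL (unpackL k (A.a i)) ↔
      fixedFam l (unpackL k (A.a i)) = true) := fun i _ => fixedFam_iff hl (unpackL_lt k _)
  have hset : {y | y ∈ C ∧ g • y = y} = (fun i => smL (unpackL k (A.a i))) ''
      (((Finset.range A.n).filter fun i => fixedFam l (unpackL k (A.a i)) = true : Finset ℕ) :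
        Set ℕ) := by
    ext y
    simp only [Set.mem_ofPred_eq, Set.mem_image, Finset.coe_filter, Finset.mem_range, hC]
    constructor
    · rintro ⟨⟨i, hi, rfl⟩, h2⟩
      exact ⟨i, ⟨hi, (hiff i hi).1 h2⟩, rfl⟩
    · rintro ⟨i, ⟨hi, h2⟩, rfl⟩
      exact ⟨⟨i, hi, rfl⟩, (hiff i hi).2 h2⟩
  have hinj : Set.InjOn (fun i => smL (unpackL k (A.a i)))
      (((Finset.range A.n).filter fun i => fixedFam l (unpackL k (A.a i)) = true : Finset ℕ) :
        Set ℕ) := by
    intro i hi j hj hij
    simp only [Finset.coe_filter, Finset.mem_range, Set.mem_ofPred_eq] at hi hj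
    exact Arr.inj (encFam k) hA i hi.1 j hj.1 hij
  rw [hset, hinj.ncard_image, Set.ncard_coe_finset,
    ← List.toFinset_card_of_nodup (List.nodup_range.filter _)]
  congr 1
  ext i
  simp

/-! ### the four classes of objects -/

theorem ncard_fixed_octads {l : List ℕ} {g : Equiv.Perm GolayPt} (hl : IsTable l g) :
    {o | o ∈ octads ∧ g • o = o}.ncard
      = ((List.range 759).filter fun i => pullMask l (octArr.a i) == octArr.a i).length :=
  ncard_fixed_sets (A := octArr) octads_eq octArr_ok hl

theorem ncard_fixed_dodecads {l : List ℕ} {g : Equiv.Perm GolayPt} (hl : IsTable l g) :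
    {d | d ∈ dodecads ∧ g • d = d}.ncard
      = ((List.range 2576).filter fun i => pullMask l (dodArr.a i) == dodArr.a i).length :=
  ncard_fixed_sets (A := dodArr) dodecads_eq dodArr_ok hl

theorem ncard_fixed_sextets {l : List ℕ} {g : Equiv.Perm GolayPt} (hl : IsTable l g) :
    {S | S ∈ sextets ∧ g • S = S}.ncard
      = ((List.range 1771).filter fun i => fixedFam l (unpackL 6 (sextArr.a i))).length :=
  ncard_fixed_fams (A := sextArr) sextets_eq sextArr_ok hl

theorem ncard_fixed_trios {l : List ℕ} {g : Equiv.Perm GolayPt} (hl : IsTable l g) :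
    {T | T ∈ trios ∧ g • T = T}.ncard
      = ((List.range 3795).filter fun i => fixedFam l (unpackL 3 (trioArr.a i))).length :=
  ncard_fixed_fams (A := trioArr) trios_eq trioArr_ok hl

theorem isTable_T2A : IsTable t2A T2A := isTable_of_isTab isTab_T2A (by decide +kernel) (by decide)
theorem isTable_T2B : IsTable t2B T2B := isTable_of_isTab isTab_T2B (by decide +kernel) (by decide)
theorem isTable_T3A : IsTable t3A T3A := isTable_of_isTab isTab_T3A (by decide +kernel) (by decide)
theorem isTable_T3B : IsTable t3B T3B := isTable_of_isTab isTab_T3B (by decide +kernel) (by decide)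

end Cfsg.Agent.Helper92
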