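import Cfsg.Agent.Helper92.Search2
import Cfsg.Agent.Helper92.InvCount
import Cfsg.Agent.Helper7.Chain

/-!
# Tools for centralisers / normalisers inside `M24`

Upper bounds for the stabiliser chains of `Helper7.Chain` (`Bounds`) from certificates of
`Helper92.Search2`, and membership of explicit table permutations in such subgroups.
-/

set_option autoImplicit false

namespace Cfsg.Agent.Helper92

open Cfsg Cfsg.Agent.Helper27 Cfsg.Agent.Helper7 Cfsg.Agent.Helper93
open scoped Pointwise

theorem pt_eq_gPt {i : ℕ} (hi : i < 24) : pt i = gPt i := by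
  have h1 : idx (gPt i) = i := by rw [idx_eq_gIdx, gIdx_gPt i hi]
  rw [← pt_idx (gPt i), h1]

/-- mask with the bits in the list -/
def maskOf : List ℕ → ℕ
  | [] => 0
  | q :: l => maskOf l ||| 2 ^ q

theorem testBit_maskOf (l : List ℕ) (j : ℕ) : (maskOf l).testBit j = true ↔ j ∈ l := by
  induction l with
  | nil => simp [maskOf]
  | cons q l ih =>
    rw [maskOf, Nat.testBit_or, Bool.or_eq_true, ih, Nat.testBit_two_pow, List.mem_cons,
      decide_eq_true_eq]
    constructor
    · rintro (h | h)
      · exact Or.inr h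
      · exact Or.inl h.symm
    · rintro (h | h)
      · exact Or.inr h.symm
      · exact Or.inl h

/-- domains: the points with indices in `F` are fixed, the value at `b` avoids `orb` -/
def boundDom (F : List ℕ) (b : ℕ) (orb : List ℕ) : List ℕ :=
  setDom (mkDom (F.map fun f => (f, f)) 0) b (fullMask ^^^ maskOf orb)

/-- domains: the points with indices in `F` are fixed -/
def fixDom (F : List ℕ) : List ℕ := mkDom (F.map fun f => (f, f)) 0

theorem compat_fixDom {g : Equiv.Perm GolayPt} {F : List ℕ} (hF24 : ∀ i ∈ F, i < 24)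
    (hF : ∀ i ∈ F, g (gPt i) = gPt i) : Compat g (fixDom F) := by
  refine compat_mkDom ?_ (fun h => absurd h (by decide)) (fun h => absurd h (by decide))
  intro p hp
  rw [List.mem_map] at hp
  obtain ⟨f, hf, rfl⟩ := hp
  exact ⟨hF f hf, hF24 f hf⟩

/-- a certificate without leaves shows that the image of `b` lies in `orb` -/
theorem mem_orb_of_cert {g : Equiv.Perm GolayPt} (hg : g ∈ M24) {rels : List (List ℕ × List ℕ)}
    (hR : ∀ r ∈ rels, Rel g r.1 r.2) {F : List ℕ} {b : ℕ} {orb : List ℕ}
    (hF24 : ∀ i ∈ F, i < 24) (hF : ∀ i ∈ F, g (gPt i) = gPt i) {c : Cert2}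
    (hc : check2 0 rels (fun _ => false) c (boundDom F b orb) = true) :
    gIdx (g (gPt b)) ∈ orb := by
  by_contra hne
  have hcomp : Compat g (boundDom F b orb) := by
    refine compat_setDom (compat_fixDom hF24 hF) ?_
    intro _
    rw [Nat.testBit_xor, testBit_fullMask (gIdx_lt _)]
    have : (maskOf orb).testBit (gIdx (g (gPt b))) = false := by
      cases h : (maskOf orb).testBit (gIdx (g (gPt b)))
      · rfl
      · exact absurd ((testBit_maskOf _ _).1 h) hne
    rw [this]
    rfl
  obtain ⟨tab, h, -⟩ := check2_sound _ hg (pow_zero g) hR c _ hc hcomp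
  exact absurd h (by simp)

/-- a certificate whose leaves are the identity table shows that `g = 1` -/
theorem eq_one_of_cert {g : Equiv.Perm GolayPt} (hg : g ∈ M24) {rels : List (List ℕ × List ℕ)}
    (hR : ∀ r ∈ rels, Rel g r.1 r.2) {F : List ℕ}
    (hF24 : ∀ i ∈ F, i < 24) (hF : ∀ i ∈ F, g (gPt i) = gPt i) {c : Cert2}
    (hc : check2 0 rels (fun tab => tab == List.range 24) c (fixDom F) = true) : g = 1 := by
  obtain ⟨tab, h, htab⟩ := check2_sound _ hg (pow_zero g) hR c _ hc (compat_fixDom hF24 hF)
  rw [beq_iff_eq] at h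
  subst h
  exact IsTab.ext htab isTab_one

/-- the hypotheses of `mem_orb_of_cert` in the form delivered by `Helper7.fixG` -/
theorem fixG_gPt {H : Subgroup (Equiv.Perm GolayPt)} {F : List ℕ} {g : Equiv.Perm GolayPt}
    (hg : g ∈ fixG H F) (hF24 : ∀ i ∈ F, i < 24) : ∀ i ∈ F, g (gPt i) = gPt i := by
  intro i hi
  rw [← pt_eq_gPt (hF24 i hi)]
  exact hg.2 i hi

theorem idx_apply_pt_eq {g : Equiv.Perm GolayPt} {b : ℕ} (hb : b < 24) :
    idx (g (pt b)) = gIdx (g (gPt b)) := by
  rw [idx_eq_gIdx, pt_eq_gPt hb]

/-- equality of products from equality of composed tables -/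
theorem mul_eq_mul_of_tables {g T U : Equiv.Perm GolayPt} {l t u : List ℕ} (hg : IsTab g l)
    (hT : IsTab T t) (hU : IsTab U u) (hvl : validTab l = true) (hvt : validTab t = true)
    (h : compTab l t = compTab u l) : g * T = U * g := by
  have h1 := hg.mul hT hvt
  have h2 := hU.mul hg hvl
  rw [← h] at h2
  exact h1.ext h2

/-- `Helper7.IsTable` for a table permutation -/
theorem isTable_permOfTabs {l linv : List ℕ} (h : isInvPair l linv = true)
    (hlen : l.length = 24) : IsTable l (permOfTabs l linv) :=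
  isTable_of_isTab (isTab_permOfTabs h) (validTab_of_isInvPair h).1 hlen

end Cfsg.Agent.Helper92
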