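import Cfsg.Agent.Helper92.Co1Normal
import Cfsg.Agent.Helper7.OctadSpan
import Cfsg.Agent.Helper7.M24Stab
import Cfsg.Agent.Helper8.Xi
import Cfsg.Agent.Helper8.WordCalc
import Cfsg.Prelude.Def_Spor_Conway

/-!
# The monomial group lies in every normal subgroup containing the stabilisers of the type-3 vectors

`monoSub` is the subgroup of the automorphisms of the rank-24 lattice fixing the standard cross
(order `2^12 · |M24|`).  If a normal subgroup `K` contains the stabiliser of every vector of sum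
of squares 48, then `monoSub ≤ K`.
-/

set_option autoImplicit false

namespace Cfsg.Agent.Helper92.Co1

open Cfsg MulAction
open scoped Pointwise
open Cfsg.Agent.Helper8 (co0_dotInt co0_sqNorm co0_smul_neg negCo0 negCo0_smul co0_ext vec8
  vec8_val monoCo0 monoCo0_smul FixesCross exists_mono_of_fixesCross card_fixesCross)

/-- the automorphism `g` acts as the signed permutation `(σ, c)` -/
def ActsAs (g : ↥Co0) (σ : Equiv.Perm GolayPt) (c : Finset GolayPt) : Prop :=
  ∀ v : ↥leechLattice, ((g • v : ↥leechLattice) : GolayPt → ℤ) = signedPerm σ c (v : GolayPt → ℤ)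

theorem actsAs_unique {g g' : ↥Co0} {σ : Equiv.Perm GolayPt} {c : Finset GolayPt}
    (h : ActsAs g σ c) (h' : ActsAs g' σ c) : g = g' :=
  co0_ext fun v => Subtype.ext (by rw [h v, h' v])

theorem actsAs_monoCo0 {σ : Equiv.Perm GolayPt} (hσ : σ ∈ M24) {c : Finset GolayPt}
    (hc : c ∈ supports (golayCode : Set (GolayPt → ZMod 2))) : ActsAs (monoCo0 hσ hc) σ c :=
  fun _ => rfl

theorem signedPerm_comp (σ σ' : Equiv.Perm GolayPt) (c c' : Finset GolayPt) (x : GolayPt → ℤ) :
    signedPerm σ c (signedPerm σ' c' x) =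
      signedPerm (σ * σ') (symmDiff c (c'.map σ.toEmbedding)) x := by
  funext i
  unfold signedPerm
  have h1 : (σ * σ').symm i = σ'.symm (σ.symm i) := rfl
  have h2 : i ∈ c'.map σ.toEmbedding ↔ σ.symm i ∈ c' := Finset.mem_map_equiv
  rw [h1]
  by_cases hc : i ∈ c <;> by_cases hc' : σ.symm i ∈ c' <;>
    simp [Finset.mem_symmDiff, hc, hc']

theorem actsAs_mul {g g' : ↥Co0} {σ σ' : Equiv.Perm GolayPt} {c c' : Finset GolayPt}
    (h : ActsAs g σ c) (h' : ActsAs g' σ' c') :
    ActsAs (g * g') (σ * σ') (symmDiff c (c'.map σ.toEmbedding)) := by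
  intro v
  rw [mul_smul, h, h', signedPerm_comp]

theorem actsAs_mul_perm {g g' : ↥Co0} {σ σ' : Equiv.Perm GolayPt}
    (h : ActsAs g σ ∅) (h' : ActsAs g' σ' ∅) : ActsAs (g * g') (σ * σ') ∅ := by
  have := actsAs_mul h h'
  simpa using this

theorem actsAs_mul_sign {g g' : ↥Co0} {c c' : Finset GolayPt}
    (h : ActsAs g 1 c) (h' : ActsAs g' 1 c') : ActsAs (g * g') 1 (symmDiff c c') := by
  have := actsAs_mul h h'
  have e : c'.map (1 : Equiv.Perm GolayPt).toEmbedding = c' := by
    ext i
    rw [Finset.mem_map_equiv]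
    rfl
  rw [e, one_mul] at this
  exact this

theorem perm_inv_apply (f : Equiv.Perm GolayPt) (x : GolayPt) : f⁻¹ (f x) = x :=
  f.symm_apply_apply x

theorem actsAs_one_empty {g : ↥Co0} (h : ActsAs g 1 ∅) : g = 1 := by
  apply co0_ext
  intro v
  apply Subtype.ext
  rw [h v, one_smul]
  funext i
  unfold signedPerm
  rw [if_neg (Finset.notMem_empty i)]
  rfl

/-! ### the subgroup of monomial automorphisms -/

theorem fixesCross_one : FixesCross 1 := by
  intro v hv
  rw [one_smul]
  exact hv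

theorem fixesCross_mul {g h : ↥Co0} (hg : FixesCross g) (hh : FixesCross h) :
    FixesCross (g * h) := by
  intro v hv
  rw [mul_smul]
  exact hg (h • v) (hh v hv)

theorem fixesCross_pow {g : ↥Co0} (hg : FixesCross g) (n : ℕ) : FixesCross (g ^ n) := by
  induction n with
  | zero => rw [pow_zero]; exact fixesCross_one
  | succ n ih => rw [pow_succ]; exact fixesCross_mul ih hg

instance finite_co0 : Finite ↥Co0 :=
  Nat.finite_of_card_ne_zero (by rw [Cfsg.Agent.Helper8.card_co0]; norm_num)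

theorem fixesCross_inv {g : ↥Co0} (hg : FixesCross g) : FixesCross g⁻¹ := by
  have hpos : 0 < orderOf g := orderOf_pos g
  have h1 : g * g ^ (orderOf g - 1) = 1 := by
    rw [← pow_succ', Nat.sub_add_cancel hpos, pow_orderOf_eq_one]
  rw [inv_eq_of_mul_eq_one_right h1]
  exact fixesCross_pow hg _

/-- the monomial subgroup -/
def monoSub : Subgroup ↥Co0 where
  carrier := {g | FixesCross g}
  mul_mem' := fun hg hh => fixesCross_mul hg hh
  one_mem' := fixesCross_one
  inv_mem' := fun hg => fixesCross_inv hg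

theorem mem_monoSub (g : ↥Co0) : g ∈ monoSub ↔ FixesCross g := Iff.rfl

theorem card_monoSub : Nat.card monoSub = 4096 * 244823040 := card_fixesCross

/-! ### the explicit type-3 vector avoiding an octad -/

/-- an octad -/
def oct0 : Finset GolayPt :=
  {Helper27.gPt 3, Helper27.gPt 5, Helper27.gPt 14, Helper27.gPt 17, Helper27.gPt 6,
    Helper27.gPt 7, Helper27.gPt 19, Helper27.gPt 21}

/-- a vector of shape `(4, 2^7, -2, 0^15)` vanishing on `oct0` -/
def vec0 : GolayPt → ℤ :=
  Helper8.vecOf [2, 2, 2, 0, 2, 0, 0, 0, 0, 4, 0, 0, 0, 2, 0, 0, 2, 0, 0, 0, 0, 0, 2, -2]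

set_option maxRecDepth 100000 in
theorem oct0_code : Helper27.isCode (Helper27.maskOfSet oct0) = true := by decide +kernel

set_option maxRecDepth 100000 in
theorem oct0_card : oct0.card = 8 := by decide +kernel

theorem oct0_supp : oct0 ∈ supports (golayCode : Set (GolayPt → ZMod 2)) :=
  (Helper8.mem_supports_iff_isCode oct0).mpr oct0_code

theorem oct0_mem : oct0 ∈ octads := ⟨oct0_supp, oct0_card⟩

set_option maxRecDepth 100000 in
theorem vec0_chk : Helper8.leechChk vec0 = true := by decide +kernel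

theorem vec0_mem : vec0 ∈ leechLattice := Helper8.mem_of_leechChk vec0_chk

set_option maxRecDepth 100000 in
theorem vec0_sqNorm : sqNorm vec0 = 48 := by decide +kernel

set_option maxRecDepth 100000 in
theorem vec0_zero : ∀ i : GolayPt, i ∈ oct0 → vec0 i = 0 := by decide +kernel

theorem signedPerm_vec0 : signedPerm 1 oct0 vec0 = vec0 := by
  funext i
  unfold signedPerm
  by_cases h : i ∈ oct0
  · rw [if_pos h]
    show -vec0 i = vec0 i
    rw [vec0_zero i h, neg_zero]
  · rw [if_neg h]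
    rfl

set_option maxRecDepth 100000 in
theorem vecV_sqNorm : sqNorm Spor.vecV = 48 := by decide +kernel

theorem signedPerm_vecV {σ : Equiv.Perm GolayPt} (h : σ none = none) :
    signedPerm σ ∅ Spor.vecV = Spor.vecV := by
  funext i
  unfold signedPerm
  rw [if_neg (Finset.notMem_empty i)]
  unfold Spor.vecV
  have : σ.symm i = none ↔ i = none := by rw [Equiv.symm_apply_eq, h]
  by_cases hi : i = none
  · rw [if_pos hi, if_pos (this.mpr hi)]
  · rw [if_neg hi, if_neg (fun h' => hi (this.mp h'))]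

section Normal

variable (K : Subgroup ↥Co0) [hKn : K.Normal]
  (hStab : ∀ u : ↥leechLattice, sqNorm (u : GolayPt → ℤ) = 48 → stabilizer ↥Co0 u ≤ K)

omit hKn in
include hStab in
theorem perm_mem_of_fix_none {σ : Equiv.Perm GolayPt} (h : σ none = none) {g : ↥Co0}
    (hg : ActsAs g σ ∅) : g ∈ K := by
  apply hStab Spor.leechV vecV_sqNorm
  rw [mem_stabilizer_iff]
  apply Subtype.ext
  rw [hg]
  exact signedPerm_vecV h

include hKn hStab in
theorem perm_mem_of_fix {σ : Equiv.Perm GolayPt} (hσ : σ ∈ M24) {b : GolayPt} (h : σ b = b)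
    {g : ↥Co0} (hg : ActsAs g σ ∅) : g ∈ K := by
  obtain ⟨π1, hπ1, e1⟩ := Helper7.m24_exists_map₁ b
  obtain ⟨π2, hπ2, e2⟩ := Helper7.m24_exists_map₁ none
  -- `π` maps `none` to `b`
  set π := π1 * π2⁻¹ with hπdef
  have hπ : π ∈ M24 := M24.mul_mem hπ1 (M24.inv_mem hπ2)
  have hπn : π none = b := by
    rw [hπdef, Equiv.Perm.mul_apply, ← e2, perm_inv_apply, e1]
  have hπi : π⁻¹ b = none := by rw [← hπn, perm_inv_apply]
  have hτ : π⁻¹ * σ * π ∈ M24 := M24.mul_mem (M24.mul_mem (M24.inv_mem hπ) hσ) hπ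
  have hτn : (π⁻¹ * σ * π) none = none := by
    rw [Equiv.Perm.mul_apply, Equiv.Perm.mul_apply, hπn, h, hπi]
  have hmem := perm_mem_of_fix_none K hStab hτn
    (actsAs_monoCo0 hτ Cfsg.Agent.S0390.empty_mem_supports)
  -- conjugate back
  have hP := actsAs_monoCo0 hπ Cfsg.Agent.S0390.empty_mem_supports
  have hPi := actsAs_monoCo0 (M24.inv_mem hπ) Cfsg.Agent.S0390.empty_mem_supports
  have hinv : monoCo0 (M24.inv_mem hπ) Cfsg.Agent.S0390.empty_mem_supports =
      (monoCo0 hπ Cfsg.Agent.S0390.empty_mem_supports)⁻¹ := by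
    apply eq_inv_of_mul_eq_one_right
    apply actsAs_one_empty
    have := actsAs_mul_perm hP hPi
    rwa [mul_inv_cancel] at this
  have hconj := hKn.conj_mem _ hmem (monoCo0 hπ Cfsg.Agent.S0390.empty_mem_supports)
  have hact : ActsAs (monoCo0 hπ Cfsg.Agent.S0390.empty_mem_supports *
      monoCo0 hτ Cfsg.Agent.S0390.empty_mem_supports *
      (monoCo0 hπ Cfsg.Agent.S0390.empty_mem_supports)⁻¹) σ ∅ := by
    rw [← hinv]
    have := actsAs_mul_perm (actsAs_mul_perm hP
      (actsAs_monoCo0 hτ Cfsg.Agent.S0390.empty_mem_supports)) hPi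
    have e : π * (π⁻¹ * σ * π) * π⁻¹ = σ := by group
    rwa [e] at this
  rw [actsAs_unique hg hact]
  exact hconj

theorem exists_ne_two (a : GolayPt) : ∃ b : GolayPt, b ≠ none ∧ b ≠ a := by
  revert a
  decide

include hKn hStab in
theorem perm_mem {σ : Equiv.Perm GolayPt} (hσ : σ ∈ M24) {g : ↥Co0} (hg : ActsAs g σ ∅) :
    g ∈ K := by
  by_cases h : σ none = none
  · exact perm_mem_of_fix_none K hStab h hg
  obtain ⟨b, hb1, hb2⟩ := exists_ne_two (σ none)
  obtain ⟨g1, hg1, e1, e1'⟩ := Helper7.m24_exists_map₂ hb1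
  obtain ⟨g2, hg2, e2, e2'⟩ := Helper7.m24_exists_map₂ hb2
  set τ := g2 * g1⁻¹ with hτdef
  have hτ : τ ∈ M24 := M24.mul_mem hg2 (M24.inv_mem hg1)
  have hτb : τ b = b := by
    have h1 : g1⁻¹ b = Helper7.pt 0 := by rw [← e1]; exact perm_inv_apply g1 _
    rw [hτdef, Equiv.Perm.mul_apply, h1, e2]
  have hτn : τ none = σ none := by
    have h1 : g1⁻¹ none = Helper7.pt 1 := by rw [← e1']; exact perm_inv_apply g1 _
    rw [hτdef, Equiv.Perm.mul_apply, h1, e2']
  have hρ : τ⁻¹ * σ ∈ M24 := M24.mul_mem (M24.inv_mem hτ) hσ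
  have hρn : (τ⁻¹ * σ) none = none := by
    rw [Equiv.Perm.mul_apply, ← hτn, perm_inv_apply]
  have m1 := perm_mem_of_fix K hStab hτ hτb (actsAs_monoCo0 hτ Cfsg.Agent.S0390.empty_mem_supports)
  have m2 := perm_mem_of_fix_none K hStab hρn
    (actsAs_monoCo0 hρ Cfsg.Agent.S0390.empty_mem_supports)
  have hact := actsAs_mul_perm (actsAs_monoCo0 hτ Cfsg.Agent.S0390.empty_mem_supports)
    (actsAs_monoCo0 hρ Cfsg.Agent.S0390.empty_mem_supports)
  have e : τ * (τ⁻¹ * σ) = σ := by group
  rw [e] at hact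
  rw [actsAs_unique hg hact]
  exact K.mul_mem m1 m2

omit hKn in
include hStab in
theorem sign_oct0_mem {g : ↥Co0} (hg : ActsAs g 1 oct0) : g ∈ K := by
  apply hStab ⟨vec0, vec0_mem⟩ vec0_sqNorm
  rw [mem_stabilizer_iff]
  apply Subtype.ext
  rw [hg]
  exact signedPerm_vec0

include hKn hStab in
theorem sign_octad_mem {c : Finset GolayPt} (hc : c ∈ octads) {g : ↥Co0} (hg : ActsAs g 1 c) :
    g ∈ K := by
  obtain ⟨σ, hσ, hσc⟩ := Helper7.exists_smul_octad_eq oct0_mem hc
  have hP := actsAs_monoCo0 hσ Cfsg.Agent.S0390.empty_mem_supports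
  have hPi := actsAs_monoCo0 (M24.inv_mem hσ) Cfsg.Agent.S0390.empty_mem_supports
  have hE := actsAs_monoCo0 (Subgroup.one_mem M24) oct0_supp
  have m1 := perm_mem K hStab hσ hP
  have m2 := perm_mem K hStab (M24.inv_mem hσ) hPi
  have m3 := sign_oct0_mem K hStab hE
  have hact := actsAs_mul hP (actsAs_mul hE hPi)
  have e1 : σ * (1 * σ⁻¹) = 1 := by group
  have e2 : symmDiff (∅ : Finset GolayPt)
      ((symmDiff oct0 ((∅ : Finset GolayPt).map (1 : Equiv.Perm GolayPt).toEmbedding)).map
        σ.toEmbedding) = c := by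
    rw [Finset.map_empty, ← Finset.bot_eq_empty, symmDiff_bot, bot_symmDiff, ← hσc]
    ext i
    rw [Finset.mem_map_equiv, Finset.mem_smul_finset]
    constructor
    · intro h
      exact ⟨σ.symm i, h, by rw [Equiv.Perm.smul_def, Equiv.apply_symm_apply]⟩
    · rintro ⟨j, hj, rfl⟩
      rw [Equiv.Perm.smul_def, Equiv.symm_apply_apply]
      exact hj
  rw [e1, e2] at hact
  rw [actsAs_unique hg hact]
  exact K.mul_mem m1 (K.mul_mem m3 m2)

include hKn hStab in
theorem sign_mem {c : Finset GolayPt}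
    (hc : c ∈ supports (golayCode : Set (GolayPt → ZMod 2))) {g : ↥Co0} (hg : ActsAs g 1 c) :
    g ∈ K := by
  obtain ⟨w, hw, rfl⟩ := hc
  have hw' : w ∈ Submodule.span (ZMod 2) Helper7.octW := by
    rw [← Helper7.golayCode_eq_span_octW]
    exact hw
  revert g
  induction hw' using Submodule.span_induction with
  | mem x hx =>
    intro g hg
    exact sign_octad_mem K hStab ⟨⟨x, hx.1, rfl⟩, hx.2⟩ hg
  | zero =>
    intro g hg
    have e : support₂ (0 : GolayPt → ZMod 2) = ∅ := by
      ext i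
      simp [support₂]
    rw [e] at hg
    rw [actsAs_one_empty hg]
    exact K.one_mem
  | add x y hx hy ihx ihy =>
    intro g hg
    have hxc : x ∈ golayCode := by rw [Helper7.golayCode_eq_span_octW]; exact hx
    have hyc : y ∈ golayCode := by rw [Helper7.golayCode_eq_span_octW]; exact hy
    have hsx : support₂ x ∈ supports (golayCode : Set (GolayPt → ZMod 2)) := ⟨x, hxc, rfl⟩
    have hsy : support₂ y ∈ supports (golayCode : Set (GolayPt → ZMod 2)) := ⟨y, hyc, rfl⟩
    have ax := actsAs_monoCo0 (Subgroup.one_mem M24) hsx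
    have ay := actsAs_monoCo0 (Subgroup.one_mem M24) hsy
    have hact := actsAs_mul_sign ax ay
    rw [← Helper8.support₂_add] at hact
    rw [actsAs_unique hg hact]
    exact K.mul_mem (ihx hxc ax) (ihy hyc ay)
  | smul a x hx ihx =>
    intro g hg
    have hxc : x ∈ golayCode := by rw [Helper7.golayCode_eq_span_octW]; exact hx
    have hall : ∀ a : ZMod 2, a = 0 ∨ a = 1 := by decide
    have ha : a = 0 ∨ a = 1 := hall a
    rcases ha with rfl | rfl
    · have e : support₂ ((0 : ZMod 2) • x) = ∅ := by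
        ext i
        simp [support₂]
      rw [e] at hg
      rw [actsAs_one_empty hg]
      exact K.one_mem
    · rw [one_smul] at hg
      exact ihx hxc hg

include hKn hStab in
/-- the monomial subgroup lies in `K` -/
theorem monoSub_le : monoSub ≤ K := by
  intro g hg
  obtain ⟨σ, hσ, c, hc, hform⟩ := exists_mono_of_fixesCross g hg
  have hP := actsAs_monoCo0 hσ Cfsg.Agent.S0390.empty_mem_supports
  have hE := actsAs_monoCo0 (Subgroup.one_mem M24) hc
  have hact := actsAs_mul hE hP
  have e : symmDiff c ((∅ : Finset GolayPt).map (1 : Equiv.Perm GolayPt).toEmbedding) = c := by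
    rw [Finset.map_empty, ← Finset.bot_eq_empty, symmDiff_bot]
  rw [e, one_mul] at hact
  have hg' : ActsAs g σ c := hform
  rw [actsAs_unique hg' hact]
  exact K.mul_mem (sign_mem K hStab hc hE) (perm_mem K hStab hσ hP)

end Normal

end Cfsg.Agent.Helper92.Co1
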