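import Mathlib
import Cfsg.Agent.S1573
import Cfsg.Agent.S1574
import Cfsg.Agent.S1575
import Cfsg.Agent.S1576
import Cfsg.Agent.S0394
import Cfsg.Agent.S0400
import Cfsg.Agent.S0391
import Cfsg.Agent.Helper8.Decomp48b
import Cfsg.Agent.Helper8.Co0Order

/-!
# Overgroups of the stabiliser of a minimal vector

The stabiliser `H` of a vector `v` of sum of squares 32 in the automorphism group of the rank-24
lattice has the orbits `{v}`, `{-v}`, and the vectors of inner product `±16`, `±8`, `0` with `v`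
(the last one up to sign).  Hence for a subgroup `J ≥ H` containing negation the orbit of `v`
under `J` has 2 or 196560 elements.  Consequence: a normal subgroup containing negation and
not contained in the centre is transitive on the 196560 minimal vectors.
-/

set_option autoImplicit false

namespace Cfsg.Agent.Helper92.Co1

open Cfsg MulAction
open Cfsg.Agent.Helper8 (co0_dotInt co0_sqNorm co0_smul_neg negCo0 negCo0_smul co0_ext)

/-- the vectors of sum of squares 32 -/
def Lam2 : Set ↥leechLattice := {w | sqNorm (w : GolayPt → ℤ) = 32}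

/-- the vectors of sum of squares 32 with given inner product with `v` -/
def cls (v : ↥leechLattice) (d : ℤ) : Set ↥leechLattice :=
  {w | sqNorm (w : GolayPt → ℤ) = 32 ∧ dotInt (v : GolayPt → ℤ) (w : GolayPt → ℤ) = d}

theorem ncard_lift (P : (GolayPt → ℤ) → Prop) :
    {w : ↥leechLattice | P (w : GolayPt → ℤ)}.ncard =
      {w : GolayPt → ℤ | w ∈ leechLattice ∧ P w}.ncard := by
  rw [← Set.ncard_image_of_injective _ Subtype.val_injective]
  congr 1
  ext w
  simp only [Set.mem_image, Set.mem_ofPred_eq]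
  constructor
  · rintro ⟨w', h2, rfl⟩
    exact ⟨w'.2, h2⟩
  · rintro ⟨h1, h2⟩
    exact ⟨⟨w, h1⟩, h2, rfl⟩

theorem ncard_Lam2 : Lam2.ncard = 196560 := by
  unfold Lam2
  rw [ncard_lift (fun w => sqNorm w = 32)]
  exact Cfsg.Agent.S0394.result

theorem finite_Lam2 : Lam2.Finite :=
  Set.finite_of_ncard_ne_zero (by rw [ncard_Lam2]; norm_num)

theorem cls_subset (v : ↥leechLattice) (d : ℤ) : cls v d ⊆ Lam2 := fun _ hw => hw.1

theorem finite_cls (v : ↥leechLattice) (d : ℤ) : (cls v d).Finite :=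
  finite_Lam2.subset (cls_subset v d)

theorem ncard_cls (v : ↥leechLattice) (d : ℤ) :
    (cls v d).ncard = {w : GolayPt → ℤ | w ∈ leechLattice ∧ sqNorm w = 32 ∧
      dotInt (v : GolayPt → ℤ) w = d}.ncard := by
  unfold cls
  rw [ncard_lift (fun w => sqNorm w = 32 ∧ dotInt (v : GolayPt → ℤ) w = d)]

theorem sqNorm_neg_coe (v : ↥leechLattice) :
    sqNorm ((-v : ↥leechLattice) : GolayPt → ℤ) = sqNorm (v : GolayPt → ℤ) := by
  rw [AddSubgroup.coe_neg]
  unfold sqNorm
  refine Finset.sum_congr rfl fun i _ => ?_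
  rw [Pi.neg_apply]
  ring

theorem dotInt_neg_coe (v w : ↥leechLattice) :
    dotInt ((-v : ↥leechLattice) : GolayPt → ℤ) (w : GolayPt → ℤ) =
      -dotInt (v : GolayPt → ℤ) (w : GolayPt → ℤ) := by
  rw [AddSubgroup.coe_neg]
  unfold dotInt
  rw [← Finset.sum_neg_distrib]
  refine Finset.sum_congr rfl fun i _ => ?_
  rw [Pi.neg_apply]
  ring

theorem dotInt_coe_neg (v w : ↥leechLattice) :
    dotInt (v : GolayPt → ℤ) ((-w : ↥leechLattice) : GolayPt → ℤ) =
      -dotInt (v : GolayPt → ℤ) (w : GolayPt → ℤ) := by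
  rw [AddSubgroup.coe_neg]
  unfold dotInt
  rw [← Finset.sum_neg_distrib]
  refine Finset.sum_congr rfl fun i _ => ?_
  rw [Pi.neg_apply]
  ring

theorem dotInt_self (v : GolayPt → ℤ) : dotInt v v = sqNorm v := by
  unfold dotInt sqNorm
  refine Finset.sum_congr rfl fun i _ => ?_
  ring

theorem cls_neg (v : ↥leechLattice) (d : ℤ) : cls (-v) d = cls v (-d) := by
  ext w
  unfold cls
  simp only [Set.mem_ofPred_eq]
  rw [dotInt_neg_coe]
  constructor
  · rintro ⟨h1, h2⟩
    exact ⟨h1, by omega⟩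
  · rintro ⟨h1, h2⟩
    exact ⟨h1, by omega⟩

/-- the class sizes -/
theorem ncard_cls_vals (v : ↥leechLattice) (hv : sqNorm (v : GolayPt → ℤ) = 32) :
    (cls v (-16)).ncard = 4600 ∧ (cls v (-8)).ncard = 47104 ∧ (cls v 0).ncard = 93150 := by
  obtain ⟨h1, h2, h3⟩ := Cfsg.Agent.S1573.result (v : GolayPt → ℤ) v.2 hv
  rw [ncard_cls, ncard_cls, ncard_cls]
  exact ⟨h1, h2, h3⟩

theorem ncard_cls_pos (v : ↥leechLattice) (hv : sqNorm (v : GolayPt → ℤ) = 32) :
    (cls v 16).ncard = 4600 ∧ (cls v 8).ncard = 47104 := by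
  have h := ncard_cls_vals (-v) (by rw [sqNorm_neg_coe]; exact hv)
  rw [cls_neg, cls_neg] at h
  exact ⟨by simpa using h.1, by simpa using h.2.1⟩

/-- a vector of sum of squares zero vanishes -/
theorem eq_zero_of_sqNorm {x : GolayPt → ℤ} (hx : x ∈ leechLattice) (h : sqNorm x = 0) : x = 0 := by
  by_contra h0
  have := Cfsg.Agent.S0391.result x hx h0
  omega

/-- possible inner products of two minimal vectors -/
theorem dot_cases (v w : ↥leechLattice) (hv : sqNorm (v : GolayPt → ℤ) = 32)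
    (hw : sqNorm (w : GolayPt → ℤ) = 32) :
    w = v ∨ w = -v ∨ dotInt (v : GolayPt → ℤ) (w : GolayPt → ℤ) = 16 ∨
      dotInt (v : GolayPt → ℤ) (w : GolayPt → ℤ) = -16 ∨
      dotInt (v : GolayPt → ℤ) (w : GolayPt → ℤ) = 8 ∨
      dotInt (v : GolayPt → ℤ) (w : GolayPt → ℤ) = -8 ∨
      dotInt (v : GolayPt → ℤ) (w : GolayPt → ℤ) = 0 := by
  by_cases h1 : w = v
  · exact Or.inl h1
  by_cases h2 : w = -v
  · exact Or.inr (Or.inl h2)
  right; right
  have h8 := Cfsg.Agent.Helper8.eight_dvd_dotInt v.2 w.2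
  have hle : dotInt (v : GolayPt → ℤ) (w : GolayPt → ℤ) ≤ 16 := by
    apply Cfsg.Agent.Helper8.dot_le_16 v.2 w.2 hv hw
    intro h
    exact h1 (Subtype.ext h.symm)
  have hge : -16 ≤ dotInt (v : GolayPt → ℤ) (w : GolayPt → ℤ) := by
    have h := Cfsg.Agent.Helper8.dot_le_16 (a := ((-v : ↥leechLattice) : GolayPt → ℤ))
      (-v).2 w.2 (by rw [sqNorm_neg_coe]; exact hv) hw
      (by
        intro h
        exact h2 (Subtype.ext h.symm))
    rw [dotInt_neg_coe] at h
    omega
  omega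

theorem cls_32 (v : ↥leechLattice) (hv : sqNorm (v : GolayPt → ℤ) = 32) : cls v 32 = {v} := by
  ext w
  simp only [cls, Set.mem_ofPred_eq, Set.mem_singleton_iff]
  constructor
  · rintro ⟨h1, h2⟩
    have h := Cfsg.Agent.Helper8.sqNorm_sub (v : GolayPt → ℤ) (w : GolayPt → ℤ)
    rw [hv, h1, h2] at h
    have h0 := eq_zero_of_sqNorm (leechLattice.sub_mem v.2 w.2) (by rw [h]; norm_num)
    apply Subtype.ext
    exact (sub_eq_zero.mp h0).symm
  · rintro rfl
    exact ⟨hv, by rw [dotInt_self, hv]⟩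

theorem cls_neg32 (v : ↥leechLattice) (hv : sqNorm (v : GolayPt → ℤ) = 32) :
    cls v (-32) = {-v} := by
  have h := cls_32 (-v) (by rw [sqNorm_neg_coe]; exact hv)
  rw [cls_neg] at h
  exact h

/-- transitivity of the stabiliser on the classes -/
theorem stab_trans_neg16 (v w w' : ↥leechLattice) (hv : sqNorm (v : GolayPt → ℤ) = 32)
    (hw : w ∈ cls v (-16)) (hw' : w' ∈ cls v (-16)) : ∃ g : ↥Co0, g • v = v ∧ g • w = w' :=
  Cfsg.Agent.S1574.result v w w' hv hw.1 hw'.1 hw.2 hw'.2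

theorem stab_trans_neg8 (v w w' : ↥leechLattice) (hv : sqNorm (v : GolayPt → ℤ) = 32)
    (hw : w ∈ cls v (-8)) (hw' : w' ∈ cls v (-8)) : ∃ g : ↥Co0, g • v = v ∧ g • w = w' :=
  Cfsg.Agent.S1575.result v w w' hv hw.1 hw'.1 hw.2 hw'.2

theorem smul_eq_of_neg {g : ↥Co0} {v : ↥leechLattice} (h : g • (-v) = -v) : g • v = v := by
  rw [co0_smul_neg] at h
  exact neg_injective h

theorem stab_trans_pos16 (v w w' : ↥leechLattice) (hv : sqNorm (v : GolayPt → ℤ) = 32)
    (hw : w ∈ cls v 16) (hw' : w' ∈ cls v 16) : ∃ g : ↥Co0, g • v = v ∧ g • w = w' := by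
  have e : cls v 16 = cls (-v) (-16) := by rw [cls_neg]; norm_num
  rw [e] at hw hw'
  obtain ⟨g, h1, h2⟩ := stab_trans_neg16 (-v) w w' (by rw [sqNorm_neg_coe]; exact hv) hw hw'
  exact ⟨g, smul_eq_of_neg h1, h2⟩

theorem stab_trans_pos8 (v w w' : ↥leechLattice) (hv : sqNorm (v : GolayPt → ℤ) = 32)
    (hw : w ∈ cls v 8) (hw' : w' ∈ cls v 8) : ∃ g : ↥Co0, g • v = v ∧ g • w = w' := by
  have e : cls v 8 = cls (-v) (-8) := by rw [cls_neg]; norm_num
  rw [e] at hw hw'
  obtain ⟨g, h1, h2⟩ := stab_trans_neg8 (-v) w w' (by rw [sqNorm_neg_coe]; exact hv) hw hw'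
  exact ⟨g, smul_eq_of_neg h1, h2⟩

theorem stab_trans_zero (v w w' : ↥leechLattice) (hv : sqNorm (v : GolayPt → ℤ) = 32)
    (hw : w ∈ cls v 0) (hw' : w' ∈ cls v 0) :
    ∃ g : ↥Co0, g • v = v ∧ (g • w = w' ∨ g • w = -w') :=
  Cfsg.Agent.S1576.result v w w' hv hw.1 hw'.1 hw.2 hw'.2

/-- the arithmetic of the block sizes -/
theorem arith_block (a b c d e n : ℕ) (ha : a = 0 ∨ a = 4600) (hb : b = 0 ∨ b = 4600)
    (hc : c = 0 ∨ c = 47104) (hd : d = 0 ∨ d = 47104) (he : e = 0 ∨ e = 93150)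
    (hn : n = 1 + 1 + a + b + c + d + e) (hdvd : n ∣ 196560) : n = 2 ∨ n = 196560 := by
  rcases ha with rfl | rfl <;> rcases hb with rfl | rfl <;> rcases hc with rfl | rfl <;>
    rcases hd with rfl | rfl <;> rcases he with rfl | rfl <;> subst hn <;>
    omega

section Overgroup

variable (v : ↥leechLattice) (hv : sqNorm (v : GolayPt → ℤ) = 32) (J : Subgroup ↥Co0)

theorem orbit_subset_Lam2 (hv : sqNorm (v : GolayPt → ℤ) = 32) :
    orbit J v ⊆ Lam2 := by
  rintro w ⟨j, rfl⟩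
  show sqNorm (((j : ↥Co0) • v : ↥leechLattice) : GolayPt → ℤ) = 32
  rw [co0_sqNorm]
  exact hv

theorem orbit_top_eq (hv : sqNorm (v : GolayPt → ℤ) = 32) : orbit ↥Co0 v = Lam2 := by
  apply Set.Subset.antisymm
  · rintro w ⟨g, rfl⟩
    show sqNorm ((g • v : ↥leechLattice) : GolayPt → ℤ) = 32
    rw [co0_sqNorm]
    exact hv
  · intro w hw
    obtain ⟨g, hg⟩ := Cfsg.Agent.S0400.result v w hv hw
    exact ⟨g, hg⟩

theorem index_stab (hv : sqNorm (v : GolayPt → ℤ) = 32) :
    (stabilizer ↥Co0 v).index = 196560 := by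
  rw [MulAction.index_stabilizer, orbit_top_eq v hv, ncard_Lam2]

theorem ncard_orbit_dvd (hv : sqNorm (v : GolayPt → ℤ) = 32) (hH : stabilizer ↥Co0 v ≤ J) :
    (orbit J v).ncard ∣ 196560 := by
  have h1 : stabilizer J v = (stabilizer ↥Co0 v).subgroupOf J := by
    ext x
    rw [Subgroup.mem_subgroupOf, mem_stabilizer_iff, mem_stabilizer_iff]
    rfl
  have h2 := MulAction.index_stabilizer J v
  rw [h1] at h2
  have h3 := Subgroup.relIndex_mul_index hH
  rw [index_stab v hv] at h3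
  rw [← h2]
  exact Dvd.intro _ h3

/-- membership of a class in the orbit is all or nothing -/
theorem cls_all_or_nothing (hH : stabilizer ↥Co0 v ≤ J) (d : ℤ)
    (htr : ∀ w w', w ∈ cls v d → w' ∈ cls v d → ∃ g : ↥Co0, g • v = v ∧ g • w = w') :
    orbit J v ∩ cls v d = ∅ ∨ orbit J v ∩ cls v d = cls v d := by
  by_cases h : (orbit J v ∩ cls v d).Nonempty
  · right
    obtain ⟨w, hwB, hw⟩ := h
    rw [MulAction.mem_orbit_iff] at hwB
    obtain ⟨j, hj⟩ := hwB
    apply Set.inter_eq_right.mpr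
    intro w' hw'
    obtain ⟨g, hg1, hg2⟩ := htr w w' hw hw'
    have hgJ : g ∈ J := hH (mem_stabilizer_iff.mpr hg1)
    rw [MulAction.mem_orbit_iff]
    refine ⟨⟨g, hgJ⟩ * j, ?_⟩
    rw [mul_smul]
    show g • (j • v) = w'
    rw [hj, hg2]
  · left
    exact Set.not_nonempty_iff_eq_empty.mp h

theorem cls_zero_all_or_nothing (hv : sqNorm (v : GolayPt → ℤ) = 32)
    (hH : stabilizer ↥Co0 v ≤ J) (hneg : negCo0 ∈ J) :
    orbit J v ∩ cls v 0 = ∅ ∨ orbit J v ∩ cls v 0 = cls v 0 := by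
  by_cases h : (orbit J v ∩ cls v 0).Nonempty
  · right
    obtain ⟨w, hwB, hw⟩ := h
    rw [MulAction.mem_orbit_iff] at hwB
    obtain ⟨j, hj⟩ := hwB
    apply Set.inter_eq_right.mpr
    intro w' hw'
    obtain ⟨g, hg1, hg2⟩ := stab_trans_zero v w w' hv hw hw'
    have hgJ : g ∈ J := hH (mem_stabilizer_iff.mpr hg1)
    rw [MulAction.mem_orbit_iff]
    rcases hg2 with hg2 | hg2
    · refine ⟨⟨g, hgJ⟩ * j, ?_⟩
      rw [mul_smul]
      show g • (j • v) = w'
      rw [hj, hg2]
    · refine ⟨⟨negCo0, hneg⟩ * (⟨g, hgJ⟩ * j), ?_⟩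
      rw [mul_smul, mul_smul]
      show negCo0 • (g • (j • v)) = w'
      rw [hj, hg2, negCo0_smul, neg_neg]
  · left
    exact Set.not_nonempty_iff_eq_empty.mp h

theorem ncard_inter_cls {B : Set ↥leechLattice} {d : ℤ} {n : ℕ} (hn : (cls v d).ncard = n)
    (h : B ∩ cls v d = ∅ ∨ B ∩ cls v d = cls v d) :
    (B ∩ cls v d).ncard = 0 ∨ (B ∩ cls v d).ncard = n := by
  rcases h with h | h
  · left
    rw [h, Set.ncard_empty]
  · right
    rw [h, hn]

/-- the orbit of `v` under an overgroup of the stabiliser containing negation -/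
theorem ncard_orbit_overgroup (hv : sqNorm (v : GolayPt → ℤ) = 32)
    (hH : stabilizer ↥Co0 v ≤ J) (hneg : negCo0 ∈ J) :
    (orbit J v).ncard = 2 ∨ (orbit J v).ncard = 196560 := by
  classical
  set B := orbit J v with hB
  have hBsub : B ⊆ Lam2 := orbit_subset_Lam2 v J hv
  have hBfin : B.Finite := finite_Lam2.subset hBsub
  have hdvd := ncard_orbit_dvd v J hv hH
  have hvB : v ∈ B := mem_orbit_self v
  have hnvB : -v ∈ B := ⟨⟨negCo0, hneg⟩, negCo0_smul v⟩
  -- the decomposition by inner products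
  let f : ↥leechLattice → ℤ := fun w => dotInt (v : GolayPt → ℤ) (w : GolayPt → ℤ)
  let D : Finset ℤ := {32, -32, 16, -16, 8, -8, 0}
  have hfD : ∀ w ∈ hBfin.toFinset, f w ∈ D := by
    intro w hw
    have hwB : w ∈ B := (Set.Finite.mem_toFinset hBfin).mp hw
    have hw2 : sqNorm (w : GolayPt → ℤ) = 32 := hBsub hwB
    show dotInt (v : GolayPt → ℤ) (w : GolayPt → ℤ) ∈ D
    rcases dot_cases v w hv hw2 with h | h | h | h | h | h | h
    · rw [h, dotInt_self, hv]; decide
    · rw [h, dotInt_coe_neg, dotInt_self, hv]; decide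
    all_goals rw [h]; decide
  have hsum := Finset.card_eq_sum_card_fiberwise hfD
  have hfib : ∀ d : ℤ, (hBfin.toFinset.filter fun w => f w = d).card = (B ∩ cls v d).ncard := by
    intro d
    rw [Set.ncard_eq_toFinset_card (B ∩ cls v d) (hBfin.subset Set.inter_subset_left)]
    congr 1
    ext w
    simp only [Finset.mem_filter, Set.Finite.mem_toFinset, Set.mem_inter_iff, cls,
      Set.mem_ofPred_eq]
    constructor
    · rintro ⟨h1, h2⟩
      exact ⟨h1, hBsub h1, h2⟩
    · rintro ⟨h1, -, h2⟩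
      exact ⟨h1, h2⟩
  have hcard : B.ncard = hBfin.toFinset.card := Set.ncard_eq_toFinset_card B hBfin
  have e32 : (B ∩ cls v 32).ncard = 1 := by
    rw [cls_32 v hv, Set.inter_eq_right.mpr (Set.singleton_subset_iff.mpr hvB),
      Set.ncard_singleton]
  have en32 : (B ∩ cls v (-32)).ncard = 1 := by
    rw [cls_neg32 v hv, Set.inter_eq_right.mpr (Set.singleton_subset_iff.mpr hnvB),
      Set.ncard_singleton]
  obtain ⟨n16m, n8m, n0⟩ := ncard_cls_vals v hv
  obtain ⟨n16, n8⟩ := ncard_cls_pos v hv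
  have c16 := ncard_inter_cls v n16
    (cls_all_or_nothing v J hH 16 fun w w' => stab_trans_pos16 v w w' hv)
  have c16m := ncard_inter_cls v n16m
    (cls_all_or_nothing v J hH (-16) fun w w' => stab_trans_neg16 v w w' hv)
  have c8 := ncard_inter_cls v n8
    (cls_all_or_nothing v J hH 8 fun w w' => stab_trans_pos8 v w w' hv)
  have c8m := ncard_inter_cls v n8m
    (cls_all_or_nothing v J hH (-8) fun w w' => stab_trans_neg8 v w w' hv)
  have c0 := ncard_inter_cls v n0 (cls_zero_all_or_nothing v J hv hH hneg)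
  have hexp : B.ncard = 1 + 1 + (B ∩ cls v 16).ncard + (B ∩ cls v (-16)).ncard +
      (B ∩ cls v 8).ncard + (B ∩ cls v (-8)).ncard + (B ∩ cls v 0).ncard := by
    rw [hcard, hsum]
    show ∑ b ∈ ({32, -32, 16, -16, 8, -8, 0} : Finset ℤ), _ = _
    rw [Finset.sum_insert (by decide), Finset.sum_insert (by decide),
      Finset.sum_insert (by decide), Finset.sum_insert (by decide),
      Finset.sum_insert (by decide), Finset.sum_insert (by decide), Finset.sum_singleton,
      hfib, hfib, hfib, hfib, hfib, hfib, hfib, e32, en32]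
    ring
  exact arith_block _ _ _ _ _ _ c16 c16m c8 c8m c0 hexp hdvd

theorem orbit_overgroup (hv : sqNorm (v : GolayPt → ℤ) = 32)
    (hH : stabilizer ↥Co0 v ≤ J) (hneg : negCo0 ∈ J) :
    orbit J v = {v, -v} ∨ orbit J v = Lam2 := by
  have hBsub : orbit J v ⊆ Lam2 := orbit_subset_Lam2 v J hv
  have hBfin : (orbit J v).Finite := finite_Lam2.subset hBsub
  rcases ncard_orbit_overgroup v J hv hH hneg with h | h
  · left
    have hne : v ≠ -v := by
      intro hcon
      have h1 : sqNorm (((v : ↥leechLattice) - (-v) : ↥leechLattice) : GolayPt → ℤ) = 0 := by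
        rw [← hcon, sub_self]
        unfold sqNorm
        simp
      have h2 : ((v - (-v) : ↥leechLattice) : GolayPt → ℤ) = (v : GolayPt → ℤ) + v := by
        rw [sub_neg_eq_add, AddSubgroup.coe_add]
      rw [h2, Cfsg.Agent.Helper8.sqNorm_add, dotInt_self, hv] at h1
      norm_num at h1
    have hsub : ({v, -v} : Set ↥leechLattice) ⊆ orbit J v := by
      intro w hw
      rcases hw with rfl | rfl
      · exact mem_orbit_self w
      · exact ⟨⟨negCo0, hneg⟩, negCo0_smul v⟩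
    exact (Set.eq_of_subset_of_ncard_le hsub (by rw [h, Set.ncard_pair hne]) hBfin).symm
  · right
    exact Set.eq_of_subset_of_ncard_le hBsub (by rw [h, ncard_Lam2]) finite_Lam2

end Overgroup

end Cfsg.Agent.Helper92.Co1
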