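import Cfsg.Agent.Helper92.Co1Simple
import Cfsg.Agent.S0398
import Cfsg.Prelude.Def_Sporadic

/-!
# The automorphism group of the rank-24 lattice modulo its centre

It is simple of order 4157776806543360000 as soon as the stabilisers of the vectors of sum of
squares 48 are simple.
-/

set_option autoImplicit false

namespace Cfsg.Agent.Helper92.Co1

open Cfsg MulAction
open Cfsg.Agent.Helper8 (negCo0 negCo0_mem_center center_eq_or card_co0 card_center_co0)

theorem mem_center_iff' (g : ↥Co0) : g ∈ Subgroup.center ↥Co0 ↔ g = 1 ∨ g = negCo0 := by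
  constructor
  · exact center_eq_or g
  · rintro (rfl | rfl)
    · exact Subgroup.one_mem _
    · exact negCo0_mem_center

theorem card_co1 : Nat.card (↥Co0 ⧸ Subgroup.center ↥Co0) = 4157776806543360000 := by
  have h := Subgroup.card_mul_index (Subgroup.center ↥Co0)
  rw [card_center_co0, card_co0] at h
  have : Nat.card (↥Co0 ⧸ Subgroup.center ↥Co0) = (Subgroup.center ↥Co0).index := rfl
  rw [this]
  omega

theorem co1_of_co3
    (hCo3 : ∀ u : ↥leechLattice, sqNorm (u : GolayPt → ℤ) = 48 →
      IsSimpleGroup (stabilizer ↥Co0 u)) :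
    IsCo1 (↥Co0 ⧸ Subgroup.center ↥Co0) := by
  refine ⟨?_, card_co1⟩
  have hnt : Nontrivial (↥Co0 ⧸ Subgroup.center ↥Co0) := by
    have h : 1 < Nat.card (↥Co0 ⧸ Subgroup.center ↥Co0) := by rw [card_co1]; norm_num
    have hfin : Finite (↥Co0 ⧸ Subgroup.center ↥Co0) :=
      Nat.finite_of_card_ne_zero (by rw [card_co1]; norm_num)
    exact Finite.one_lt_card_iff_nontrivial.mp h
  refine ⟨fun N hN => ?_⟩
  set K : Subgroup ↥Co0 := N.comap (QuotientGroup.mk' (Subgroup.center ↥Co0)) with hKdef
  have hKn : K.Normal := hN.comap _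
  have hneg : negCo0 ∈ K := by
    rw [hKdef, Subgroup.mem_comap]
    have : (QuotientGroup.mk' (Subgroup.center ↥Co0)) negCo0 = 1 := by
      rw [QuotientGroup.mk'_apply, QuotientGroup.eq_one_iff]
      exact negCo0_mem_center
    rw [this]
    exact N.one_mem
  by_cases hK : ∃ k ∈ K, k ≠ 1 ∧ k ≠ negCo0
  · right
    have htop := normal_eq_top hCo3 K hneg hK
    rw [eq_top_iff]
    intro x _
    obtain ⟨g, rfl⟩ := QuotientGroup.mk'_surjective (Subgroup.center ↥Co0) x
    have : g ∈ K := by rw [htop]; exact Subgroup.mem_top g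
    exact this
  · left
    have hK' : ∀ k ∈ K, k ≠ 1 → k = negCo0 := by
      intro k hk h1
      by_contra h2
      exact hK ⟨k, hk, h1, h2⟩
    rw [eq_bot_iff]
    intro x hx
    obtain ⟨g, rfl⟩ := QuotientGroup.mk'_surjective (Subgroup.center ↥Co0) x
    have hgK : g ∈ K := hx
    rw [Subgroup.mem_bot, QuotientGroup.mk'_apply, QuotientGroup.eq_one_iff, mem_center_iff']
    by_cases h1 : g = 1
    · exact Or.inl h1
    · exact Or.inr (hK' g hgK h1)

end Cfsg.Agent.Helper92.Co1
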