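import Cfsg.Agent.Helper92.Co1Block

/-!
# Normal subgroups of the automorphism group of the rank-24 lattice are transitive on minimal vectors

An automorphism mapping every minimal vector to itself or its negative is `±1`.  A normal subgroup
containing `-1` and some element other than `±1` is transitive on the 196560 minimal vectors.
-/

set_option autoImplicit false

namespace Cfsg.Agent.Helper92.Co1

open Cfsg MulAction
open Cfsg.Agent.Helper8 (co0_dotInt co0_sqNorm co0_smul_neg negCo0 negCo0_smul co0_ext vec8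
  vec8_val four_pair_mem)

theorem dotInt_single_left (i : GolayPt) (a : ℤ) (w : GolayPt → ℤ) :
    dotInt (Pi.single i a : GolayPt → ℤ) w = a * w i := by
  classical
  unfold dotInt
  rw [Finset.sum_eq_single i]
  · rw [Pi.single_eq_same]
  · intro j _ hj
    rw [Pi.single_eq_of_ne hj, zero_mul]
  · intro h
    exact absurd (Finset.mem_univ i) h

theorem dotInt_single_right (i : GolayPt) (a : ℤ) (w : GolayPt → ℤ) :
    dotInt w (Pi.single i a : GolayPt → ℤ) = a * w i := by
  rw [Cfsg.Agent.Helper8.dotInt_comm, dotInt_single_left]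

/-- the vector `4 e_i + t e_j` -/
def pairVec (i j : GolayPt) (t : ℤ) (ht : t = 4 ∨ t = -4) : ↥leechLattice :=
  ⟨Pi.single i 4 + Pi.single j t, four_pair_mem i j (Or.inl rfl) ht⟩

theorem pairVec_val (i j : GolayPt) (t : ℤ) (ht : t = 4 ∨ t = -4) :
    ((pairVec i j t ht : ↥leechLattice) : GolayPt → ℤ) = Pi.single i 4 + Pi.single j t := rfl

theorem sqNorm_pairVec {i j : GolayPt} (hij : i ≠ j) (t : ℤ) (ht : t = 4 ∨ t = -4) :
    sqNorm ((pairVec i j t ht : ↥leechLattice) : GolayPt → ℤ) = 32 := by
  rw [pairVec_val, Cfsg.Agent.Helper8.sqNorm_add, ← dotInt_self, ← dotInt_self,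
    dotInt_single_left, dotInt_single_left, dotInt_single_left, Pi.single_eq_same,
    Pi.single_eq_same, Pi.single_eq_of_ne hij]
  rcases ht with rfl | rfl <;> norm_num

theorem pairVec_add (i j : GolayPt) :
    pairVec i j 4 (Or.inl rfl) + pairVec i j (-4) (Or.inr rfl) = vec8 i := by
  apply Subtype.ext
  rw [AddSubgroup.coe_add, pairVec_val, pairVec_val, vec8_val]
  ext l
  simp only [Pi.add_apply, Pi.single_apply]
  split_ifs <;> norm_num

theorem exists_two_ne : ∀ i : GolayPt, ∃ j j' : GolayPt, j ≠ i ∧ j' ≠ i ∧ j ≠ j' := by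
  decide

theorem co0_smul_add (g : ↥Co0) (a b : ↥leechLattice) : g • (a + b) = g • a + g • b := g.2.1 a b

/-- an automorphism mapping every minimal vector to itself or its negative -/
theorem pm_one (k : ↥Co0)
    (h : ∀ w : ↥leechLattice, sqNorm (w : GolayPt → ℤ) = 32 → k • w = w ∨ k • w = -w) :
    k = 1 ∨ k = negCo0 := by
  classical
  -- coordinates of the image of `8 e_i` outside `i`
  have hzero : ∀ i l : GolayPt, l ≠ i → ((k • vec8 i : ↥leechLattice) : GolayPt → ℤ) l = 0 := by
    intro i l hl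
    have key : ∀ j : GolayPt, j ≠ i → l ≠ j →
        ((k • vec8 i : ↥leechLattice) : GolayPt → ℤ) l = 0 := by
      intro j hj hlj
      rw [← pairVec_add i j, co0_smul_add, AddSubgroup.coe_add, Pi.add_apply]
      have hA := h (pairVec i j 4 (Or.inl rfl)) (sqNorm_pairVec hj.symm _ _)
      have hB := h (pairVec i j (-4) (Or.inr rfl)) (sqNorm_pairVec hj.symm _ _)
      have eA : ((pairVec i j 4 (Or.inl rfl) : ↥leechLattice) : GolayPt → ℤ) l = 0 := by
        rw [pairVec_val, Pi.add_apply, Pi.single_eq_of_ne hl, Pi.single_eq_of_ne hlj, add_zero]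
      have eB : ((pairVec i j (-4) (Or.inr rfl) : ↥leechLattice) : GolayPt → ℤ) l = 0 := by
        rw [pairVec_val, Pi.add_apply, Pi.single_eq_of_ne hl, Pi.single_eq_of_ne hlj, add_zero]
      rcases hA with hA | hA <;> rcases hB with hB | hB <;> rw [hA, hB] <;>
        simp only [AddSubgroup.coe_neg, Pi.neg_apply, eA, eB] <;> norm_num
    obtain ⟨j, j', hj, hj', hjj'⟩ := exists_two_ne i
    by_cases hlj : l = j
    · exact key j' hj' (by rw [hlj]; exact hjj')
    · exact key j hj hlj
  -- the image of `8 e_i` is `± 8 e_i`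
  have hdiag : ∀ i : GolayPt, ((k • vec8 i : ↥leechLattice) : GolayPt → ℤ) i = 8 ∨
      ((k • vec8 i : ↥leechLattice) : GolayPt → ℤ) i = -8 := by
    intro i
    have hn : sqNorm ((k • vec8 i : ↥leechLattice) : GolayPt → ℤ) = 64 := by
      rw [co0_sqNorm, vec8_val]
      exact Cfsg.Agent.Helper8.sqNorm_single8 i (Or.inl rfl)
    unfold sqNorm at hn
    rw [Finset.sum_eq_single i] at hn
    · have h1 : (((k • vec8 i : ↥leechLattice) : GolayPt → ℤ) i - 8) *
          (((k • vec8 i : ↥leechLattice) : GolayPt → ℤ) i + 8) = 0 := by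
        ring_nf
        ring_nf at hn
        omega
      rcases mul_eq_zero.mp h1 with h2 | h2
      · left; omega
      · right; omega
    · intro l _ hl
      rw [hzero i l hl]
      norm_num
    · intro hcon
      exact absurd (Finset.mem_univ i) hcon
  -- the action on coordinates
  have hcoord : ∀ (w : ↥leechLattice) (i : GolayPt),
      ((k • vec8 i : ↥leechLattice) : GolayPt → ℤ) i * ((k • w : ↥leechLattice) : GolayPt → ℤ) i =
        8 * (w : GolayPt → ℤ) i := by
    intro w i
    have h1 := co0_dotInt k (vec8 i) w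
    rw [vec8_val, dotInt_single_left] at h1
    rw [← h1]
    unfold dotInt
    rw [Finset.sum_eq_single i]
    · intro l _ hl
      rw [hzero i l hl, zero_mul]
    · intro hcon
      exact absurd (Finset.mem_univ i) hcon
  -- the signs agree
  have hsign : ∀ i j : GolayPt, i ≠ j →
      ((k • vec8 i : ↥leechLattice) : GolayPt → ℤ) i =
        ((k • vec8 j : ↥leechLattice) : GolayPt → ℤ) j := by
    intro i j hij
    have hA := h (pairVec i j 4 (Or.inl rfl)) (sqNorm_pairVec hij _ _)
    have hi := hcoord (pairVec i j 4 (Or.inl rfl)) i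
    have hj := hcoord (pairVec i j 4 (Or.inl rfl)) j
    have ei : ((pairVec i j 4 (Or.inl rfl) : ↥leechLattice) : GolayPt → ℤ) i = 4 := by
      rw [pairVec_val, Pi.add_apply, Pi.single_eq_same, Pi.single_eq_of_ne hij, add_zero]
    have ej : ((pairVec i j 4 (Or.inl rfl) : ↥leechLattice) : GolayPt → ℤ) j = 4 := by
      rw [pairVec_val, Pi.add_apply, Pi.single_eq_same, Pi.single_eq_of_ne hij.symm, zero_add]
    rcases hA with hA | hA
    · rw [hA, ei] at hi
      rw [hA, ej] at hj
      rcases hdiag i with hdi | hdi <;> rcases hdiag j with hdj | hdj <;> rw [hdi] at hi ⊢ <;>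
        rw [hdj] at hj ⊢ <;> omega
    · rw [hA, AddSubgroup.coe_neg, Pi.neg_apply, ei] at hi
      rw [hA, AddSubgroup.coe_neg, Pi.neg_apply, ej] at hj
      rcases hdiag i with hdi | hdi <;> rcases hdiag j with hdj | hdj <;> rw [hdi] at hi ⊢ <;>
        rw [hdj] at hj ⊢ <;> omega
  rcases hdiag none with h0 | h0
  · left
    apply co0_ext
    intro w
    rw [one_smul]
    apply Subtype.ext
    funext i
    have hi := hcoord w i
    have hs : ((k • vec8 i : ↥leechLattice) : GolayPt → ℤ) i = 8 := by
      by_cases hin : i = none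
      · rw [hin]; exact h0
      · rw [hsign i none hin]; exact h0
    rw [hs] at hi
    omega
  · right
    apply co0_ext
    intro w
    rw [negCo0_smul]
    apply Subtype.ext
    funext i
    rw [AddSubgroup.coe_neg, Pi.neg_apply]
    have hi := hcoord w i
    have hs : ((k • vec8 i : ↥leechLattice) : GolayPt → ℤ) i = -8 := by
      by_cases hin : i = none
      · rw [hin]; exact h0
      · rw [hsign i none hin]; exact h0
    rw [hs] at hi
    omega

/-- a normal subgroup containing negation and an element other than `±1` is transitive on the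
minimal vectors -/
theorem normal_transitive (K : Subgroup ↥Co0) [hKn : K.Normal] (hneg : negCo0 ∈ K)
    (hK : ∃ k ∈ K, k ≠ 1 ∧ k ≠ negCo0) (v w : ↥leechLattice)
    (hv : sqNorm (v : GolayPt → ℤ) = 32) (hw : sqNorm (w : GolayPt → ℤ) = 32) :
    ∃ k ∈ K, k • v = w := by
  -- the orbit of a minimal vector under `K`
  have horb : ∀ v' : ↥leechLattice, sqNorm (v' : GolayPt → ℤ) = 32 →
      (∀ k ∈ K, k • v' = v' ∨ k • v' = -v') ∨
        ∀ w' : ↥leechLattice, sqNorm (w' : GolayPt → ℤ) = 32 → ∃ k ∈ K, k • v' = w' := by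
    intro v' hv'
    have hJ := orbit_overgroup v' (K ⊔ stabilizer ↥Co0 v') hv' le_sup_right
      (le_sup_left (a := K) hneg)
    rcases hJ with hJ | hJ
    · left
      intro k hk
      have : k • v' ∈ orbit (↥(K ⊔ stabilizer ↥Co0 v')) v' :=
        ⟨⟨k, le_sup_left (a := K) hk⟩, rfl⟩
      rw [hJ] at this
      exact this
    · right
      intro w' hw'
      have hmem : w' ∈ orbit (↥(K ⊔ stabilizer ↥Co0 v')) v' := by rw [hJ]; exact hw'
      rw [MulAction.mem_orbit_iff] at hmem
      obtain ⟨⟨j, hj⟩, hjw⟩ := hmem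
      have hj' : j ∈ ((K ⊔ stabilizer ↥Co0 v' : Subgroup ↥Co0) : Set ↥Co0) := hj
      rw [Subgroup.normal_mul] at hj'
      obtain ⟨k, hk, s, hs, rfl⟩ := Set.mem_mul.mp hj'
      refine ⟨k, hk, ?_⟩
      have hs' : s • v' = v' := mem_stabilizer_iff.mp hs
      have : (k * s) • v' = w' := hjw
      rw [mul_smul, hs'] at this
      exact this
  by_contra hcon
  have hall : ∀ v' : ↥leechLattice, sqNorm (v' : GolayPt → ℤ) = 32 →
      ∀ k ∈ K, k • v' = v' ∨ k • v' = -v' := by
    intro v' hv'
    rcases horb v' hv' with h1 | h1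
    · exact h1
    · exfalso
      apply hcon
      obtain ⟨k1, hk1, e1⟩ := h1 v hv
      obtain ⟨k2, hk2, e2⟩ := h1 w hw
      refine ⟨k2 * k1⁻¹, K.mul_mem hk2 (K.inv_mem hk1), ?_⟩
      rw [mul_smul, ← e1, inv_smul_smul, e2]
  obtain ⟨k, hk, hk1, hk2⟩ := hK
  rcases pm_one k (fun w' hw' => hall w' hw' k hk) with h | h
  · exact hk1 h
  · exact hk2 h

end Cfsg.Agent.Helper92.Co1
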