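import Cfsg.Agent.Helper92.Co1Mono
import Cfsg.Agent.S0395
import Cfsg.Agent.S0401

/-!
# Simplicity of the automorphism group of the rank-24 lattice modulo its centre

Assuming that the stabilisers of the vectors of sum of squares 48 are simple, every normal
subgroup containing `-1` and an element other than `±1` is the whole group.
-/

set_option autoImplicit false

namespace Cfsg.Agent.Helper92.Co1

open Cfsg MulAction
open Cfsg.Agent.Helper8 (co0_dotInt co0_sqNorm co0_smul_neg negCo0 negCo0_smul co0_ext card_co0)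

/-- the vectors of sum of squares 48 -/
def Lam3 : Set ↥leechLattice := {w | sqNorm (w : GolayPt → ℤ) = 48}

theorem ncard_Lam3 : Lam3.ncard = 16773120 := by
  unfold Lam3
  rw [ncard_lift (fun w => sqNorm w = 48)]
  exact Cfsg.Agent.S0395.result

theorem orbit_top_eq3 (u : ↥leechLattice) (hu : sqNorm (u : GolayPt → ℤ) = 48) :
    orbit ↥Co0 u = Lam3 := by
  apply Set.Subset.antisymm
  · rintro w ⟨g, rfl⟩
    show sqNorm ((g • u : ↥leechLattice) : GolayPt → ℤ) = 48
    rw [co0_sqNorm]
    exact hu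
  · intro w hw
    obtain ⟨g, hg⟩ := Cfsg.Agent.S0401.result u w hu hw
    exact ⟨g, hg⟩

theorem index_stab3 (u : ↥leechLattice) (hu : sqNorm (u : GolayPt → ℤ) = 48) :
    (stabilizer ↥Co0 u).index = 16773120 := by
  rw [MulAction.index_stabilizer, orbit_top_eq3 u hu, ncard_Lam3]

/-- the orbit of `w` under the stabiliser of `v`, for inner product `-8` -/
theorem orbit_stab_neg8 (v w : ↥leechLattice) (hv : sqNorm (v : GolayPt → ℤ) = 32)
    (hw : w ∈ cls v (-8)) : orbit (stabilizer ↥Co0 v) w = cls v (-8) := by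
  apply Set.Subset.antisymm
  · intro x hx
    rw [MulAction.mem_orbit_iff] at hx
    obtain ⟨h, rfl⟩ := hx
    have hh : (h : ↥Co0) • v = v := mem_stabilizer_iff.mp h.2
    refine ⟨?_, ?_⟩
    · show sqNorm (((h : ↥Co0) • w : ↥leechLattice) : GolayPt → ℤ) = 32
      rw [co0_sqNorm]
      exact hw.1
    · show dotInt (v : GolayPt → ℤ) (((h : ↥Co0) • w : ↥leechLattice) : GolayPt → ℤ) = -8
      have := co0_dotInt (h : ↥Co0) v w
      rw [hh] at this
      rw [this]
      exact hw.2
  · intro x hx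
    obtain ⟨g, hg1, hg2⟩ := stab_trans_neg8 v w x hv hw hx
    rw [MulAction.mem_orbit_iff]
    exact ⟨⟨g, mem_stabilizer_iff.mpr hg1⟩, hg2⟩

theorem relIndex_two_stab (v w : ↥leechLattice) (hv : sqNorm (v : GolayPt → ℤ) = 32)
    (hw : w ∈ cls v (-8)) :
    (stabilizer ↥Co0 v ⊓ stabilizer ↥Co0 w).relIndex (stabilizer ↥Co0 v) = 47104 := by
  have h1 : stabilizer (stabilizer ↥Co0 v) w =
      (stabilizer ↥Co0 v ⊓ stabilizer ↥Co0 w).subgroupOf (stabilizer ↥Co0 v) := by
    ext x
    rw [Subgroup.mem_subgroupOf, mem_stabilizer_iff, Subgroup.mem_inf, mem_stabilizer_iff,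
      mem_stabilizer_iff]
    constructor
    · intro h
      exact ⟨mem_stabilizer_iff.mp x.2, h⟩
    · intro h
      exact h.2
  have h2 := MulAction.index_stabilizer (stabilizer ↥Co0 v) w
  rw [h1, orbit_stab_neg8 v w hv hw, (ncard_cls_vals v hv).2.1] at h2
  exact h2

/-- the arithmetic at the end -/
theorem arith_final (i n : ℕ) (_h1 : i ∣ 16773120) (h2 : i ∣ 47104)
    (h3 : 4096 * 244823040 ∣ n) (h4 : n * i = 8315553613086720000) : i = 1 := by
  obtain ⟨m, rfl⟩ := h3
  have h5 : m * i = 8292375 := by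
    have : 4096 * 244823040 * (m * i) = 4096 * 244823040 * 8292375 := by
      rw [← mul_assoc, h4]
    exact Nat.eq_of_mul_eq_mul_left (by norm_num) this
  have h6 : i ∣ 8292375 := Dvd.intro_left m h5
  have h7 : i ∣ Nat.gcd 47104 8292375 := Nat.dvd_gcd h2 h6
  have h8 : Nat.gcd 47104 8292375 = 1 := by norm_num
  rw [h8] at h7
  exact Nat.dvd_one.mp h7

theorem normal_eq_top
    (hCo3 : ∀ u : ↥leechLattice, sqNorm (u : GolayPt → ℤ) = 48 →
      IsSimpleGroup (stabilizer ↥Co0 u))
    (K : Subgroup ↥Co0) [hKn : K.Normal] (hneg : negCo0 ∈ K)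
    (hK : ∃ k ∈ K, k ≠ 1 ∧ k ≠ negCo0) : K = ⊤ := by
  classical
  -- the base vectors
  have hne : (none : GolayPt) ≠ some 0 := by decide
  set v0 : ↥leechLattice := pairVec none (some 0) 4 (Or.inl rfl) with hv0def
  have hv0 : sqNorm (v0 : GolayPt → ℤ) = 32 := sqNorm_pairVec hne _ _
  obtain ⟨w0, hw0⟩ : (cls v0 (-8)).Nonempty := by
    apply Set.nonempty_of_ncard_ne_zero
    rw [(ncard_cls_vals v0 hv0).2.1]
    norm_num
  set u1 : ↥leechLattice := -(v0 + w0) with hu1def
  have hu1 : sqNorm (u1 : GolayPt → ℤ) = 48 := by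
    rw [hu1def, sqNorm_neg_coe, AddSubgroup.coe_add, Cfsg.Agent.Helper8.sqNorm_add, hv0, hw0.1,
      hw0.2]
    norm_num
  have htr := normal_transitive K hneg hK
  -- the order of `K` is divisible by 196560
  have h196 : 196560 ∣ Nat.card K := by
    have horb : orbit K v0 = Lam2 := by
      apply Set.Subset.antisymm (orbit_subset_Lam2 v0 K hv0)
      intro w hw
      obtain ⟨k, hk, hkw⟩ := htr v0 w hv0 hw
      rw [MulAction.mem_orbit_iff]
      exact ⟨⟨k, hk⟩, hkw⟩
    have h1 := MulAction.index_stabilizer K v0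
    rw [horb, ncard_Lam2] at h1
    rw [← h1]
    exact Subgroup.index_dvd_card _
  -- `K` contains the stabiliser of `u1`
  have hS : stabilizer ↥Co0 u1 ≤ K := by
    have := hCo3 u1 hu1
    have hn : (K.subgroupOf (stabilizer ↥Co0 u1)).Normal := inferInstance
    rcases IsSimpleGroup.eq_bot_or_eq_top_of_normal _ hn with hb | ht
    · exfalso
      have e1 : K.relIndex (stabilizer ↥Co0 u1) = Nat.card (stabilizer ↥Co0 u1) := by
        unfold Subgroup.relIndex
        rw [hb, Subgroup.index_bot]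
      have e2 : K.relIndex (K ⊔ stabilizer ↥Co0 u1) = K.relIndex (stabilizer ↥Co0 u1) :=
        Subgroup.relIndex_sup_left (stabilizer ↥Co0 u1) K
      have e3 := Subgroup.relIndex_mul_index (le_sup_left : K ≤ K ⊔ stabilizer ↥Co0 u1)
      rw [e2, e1] at e3
      have e4 := Subgroup.card_mul_index K
      have e5 := Subgroup.card_mul_index (stabilizer ↥Co0 u1)
      rw [index_stab3 u1 hu1] at e5
      have hpos : 0 < Nat.card (stabilizer ↥Co0 u1) := Nat.card_pos
      have e6 : Nat.card (stabilizer ↥Co0 u1) *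
          ((K ⊔ stabilizer ↥Co0 u1).index * Nat.card K) =
          Nat.card (stabilizer ↥Co0 u1) * 16773120 := by
        rw [e5, ← e4, ← e3]
        ring
      have e7 := Nat.eq_of_mul_eq_mul_left hpos e6
      have e8 : Nat.card K ∣ 16773120 := Dvd.intro_left _ e7
      have e9 := h196.trans e8
      norm_num at e9
    · rw [Subgroup.subgroupOf_eq_top] at ht
      exact ht
  -- hence of every type-3 vector
  have hStab : ∀ u : ↥leechLattice, sqNorm (u : GolayPt → ℤ) = 48 → stabilizer ↥Co0 u ≤ K := by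
    intro u hu
    obtain ⟨g, hg⟩ := Cfsg.Agent.S0401.result u1 u hu1 hu
    rw [← hg, MulAction.stabilizer_smul_eq_stabilizer_map_conj]
    rintro x ⟨s, hs, rfl⟩
    exact hKn.conj_mem s (hS hs) g
  have hmono := monoSub_le K hStab
  -- the index bounds
  have hidx1 : K.index ∣ 16773120 := by
    rw [← index_stab3 u1 hu1]
    exact Subgroup.index_dvd_of_le hS
  have hidx2 : K.index ∣ 47104 := by
    have hM : stabilizer ↥Co0 v0 ⊓ stabilizer ↥Co0 w0 ≤ K ⊓ stabilizer ↥Co0 v0 := by
      intro g hg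
      rw [Subgroup.mem_inf, mem_stabilizer_iff, mem_stabilizer_iff] at hg
      refine ⟨hS ?_, mem_stabilizer_iff.mpr hg.1⟩
      rw [mem_stabilizer_iff, hu1def, co0_smul_neg, co0_smul_add, hg.1, hg.2]
    have htop : K ⊔ stabilizer ↥Co0 v0 = ⊤ := by
      rw [eq_top_iff]
      intro g _
      have hgv : sqNorm ((g • v0 : ↥leechLattice) : GolayPt → ℤ) = 32 := by
        rw [co0_sqNorm]; exact hv0
      obtain ⟨k, hk, hkv⟩ := htr v0 (g • v0) hv0 hgv
      have h1 : k⁻¹ * g ∈ stabilizer ↥Co0 v0 := by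
        rw [mem_stabilizer_iff, mul_smul, ← hkv, inv_smul_smul]
      have h2 : g = k * (k⁻¹ * g) := by group
      rw [h2]
      exact Subgroup.mul_mem _ (Subgroup.mem_sup_left hk) (Subgroup.mem_sup_right h1)
    have e1 : K.index = K.relIndex (stabilizer ↥Co0 v0) := by
      rw [← Subgroup.relIndex_top_right, ← htop, Subgroup.relIndex_sup_left]
    have e2 : (K ⊓ stabilizer ↥Co0 v0).relIndex (stabilizer ↥Co0 v0) =
        K.relIndex (stabilizer ↥Co0 v0) := Subgroup.inf_relIndex_right K (stabilizer ↥Co0 v0)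
    have e3 := Subgroup.relIndex_dvd_of_le_left (stabilizer ↥Co0 v0) hM
    rw [relIndex_two_stab v0 w0 hv0 hw0, e2, ← e1] at e3
    exact e3
  have hcard := Subgroup.card_dvd_of_le hmono
  rw [card_monoSub] at hcard
  have hci := Subgroup.card_mul_index K
  rw [card_co0] at hci
  exact Subgroup.index_eq_one.mp (arith_final _ _ hidx1 hidx2 hcard hci)

end Cfsg.Agent.Helper92.Co1
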