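import Cfsg.Agent.Helper92.Search
import Cfsg.Agent.Helper92.M24Data

/-!
# Normalising elements of `M24` by conjugation, tables of permutations

Tools to go from "`g ∈ M24` with some property" to a search problem handled by
`Helper92.check_sound`, and to read off conjugacy / fixed point information from tables.
-/

set_option autoImplicit false

namespace Cfsg.Agent.Helper92

open Cfsg Cfsg.Agent.Helper27 Cfsg.Agent.Helper7

/-! ### domains from prescribed values -/

/-- association-list lookup -/
def look : List (ℕ × ℕ) → ℕ → Option ℕ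
  | [], _ => none
  | (a, b) :: l, x => if x = a then some b else look l x

theorem look_some {l : List (ℕ × ℕ)} {x y : ℕ} (h : look l x = some y) : (x, y) ∈ l := by
  induction l with
  | nil => simp [look] at h
  | cons p l ih =>
    obtain ⟨a, b⟩ := p
    simp only [look] at h
    split_ifs at h with hxa
    · simp only [Option.some.injEq] at h
      subst hxa
      subst h
      exact List.mem_cons_self
    · exact List.mem_cons_of_mem _ (ih h)

theorem look_none {l : List (ℕ × ℕ)} {x : ℕ} (h : look l x = none) : ∀ p ∈ l, p.1 ≠ x := by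
  induction l with
  | nil => simp
  | cons p l ih =>
    obtain ⟨a, b⟩ := p
    simp only [look] at h
    split_ifs at h with hxa
    intro p hp
    rw [List.mem_cons] at hp
    rcases hp with rfl | hp
    · exact fun h' => hxa h'.symm
    · exact ih h p hp

/-- domains: prescribed values; the other points are free (`mode = 0`), not fixed (`mode = 1`)
or fixed (`mode ≥ 2`) -/
def mkDom (pres : List (ℕ × ℕ)) (mode : ℕ) : List ℕ :=
  (List.range 24).map fun x =>
    match look pres x with
    | some y => 2 ^ y
    | none => if mode = 0 then fullMask else if mode = 1 then fullMask ^^^ 2 ^ x else 2 ^ x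

theorem getD_map_range24 (f : ℕ → ℕ) (x : ℕ) (hx : x < 24) :
    ((List.range 24).map f).getD x 0 = f x := by
  rw [List.getD_eq_getElem _ _ (by simpa using hx), List.getElem_map, List.getElem_range]

theorem gPt_injOn {i j : ℕ} (hi : i < 24) (hj : j < 24) (h : gPt i = gPt j) : i = j := by
  rw [← gIdx_gPt i hi, ← gIdx_gPt j hj, h]

theorem compat_mkDom {g : Equiv.Perm GolayPt} {pres : List (ℕ × ℕ)} {mode : ℕ}
    (hpres : ∀ p ∈ pres, g (gPt p.1) = gPt p.2 ∧ p.2 < 24)
    (h1 : mode = 1 → ∀ x < 24, look pres x = none → g (gPt x) ≠ gPt x)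
    (h2 : 2 ≤ mode → ∀ x < 24, look pres x = none → g (gPt x) = gPt x) :
    Compat g (mkDom pres mode) := by
  intro x hx
  unfold mkDom
  rw [getD_map_range24 _ _ hx]
  cases hl : look pres x with
  | some y =>
    obtain ⟨e, hy⟩ := hpres _ (look_some hl)
    simp only at e hy ⊢
    rw [e, gIdx_gPt y hy, Nat.testBit_two_pow]
    simp
  | none =>
    simp only
    split_ifs with hm0 hm1
    · exact testBit_fullMask (gIdx_lt _)
    · have hne := h1 hm1 x hx hl
      have hne' : gIdx (g (gPt x)) ≠ x := by
        intro he
        apply hne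
        have := gPt_gIdx (g (gPt x))
        rw [he] at this
        exact this.symm
      rw [Nat.testBit_xor, testBit_fullMask (gIdx_lt _), Nat.testBit_two_pow]
      simp [Ne.symm hne']
    · have he := h2 (by omega) x hx hl
      rw [he, gIdx_gPt x hx, Nat.testBit_two_pow]
      simp

/-! ### conjugation -/

theorem conj_apply (h g : Equiv.Perm GolayPt) (x : GolayPt) :
    (h * g * h⁻¹) (h x) = h (g x) := by
  simp

theorem conj_mem_M24 {h g : Equiv.Perm GolayPt} (hh : h ∈ M24) (hg : g ∈ M24) :
    h * g * h⁻¹ ∈ M24 :=
  M24.mul_mem (M24.mul_mem hh hg) (M24.inv_mem hh)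

theorem conj_pow_eq_one {h g : Equiv.Perm GolayPt} {K : ℕ} (hK : g ^ K = 1) :
    (h * g * h⁻¹) ^ K = 1 := by
  rw [conj_pow, hK, mul_one, mul_inv_cancel]

theorem card_fixed_conj (h g : Equiv.Perm GolayPt) :
    (Finset.univ.filter fun p => (h * g * h⁻¹) p = p).card
      = (Finset.univ.filter fun p => g p = p).card := by
  symm
  apply Finset.card_bij (fun p _ => h p)
  · intro p hp
    rw [Finset.mem_filter] at hp ⊢
    refine ⟨Finset.mem_univ _, ?_⟩
    rw [conj_apply, hp.2]
  · intro a _ b _ hab
    exact h.injective hab
  · intro q hq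
    rw [Finset.mem_filter] at hq
    refine ⟨h⁻¹ q, ?_, by simp⟩
    rw [Finset.mem_filter]
    refine ⟨Finset.mem_univ _, ?_⟩
    have := hq.2
    rw [Equiv.Perm.mul_apply, Equiv.Perm.mul_apply] at this
    apply h.injective
    rw [this]
    simp

theorem pow_apply_eq_imp {g : Equiv.Perm GolayPt} {i j : ℕ} (hij : i ≤ j) {q : GolayPt}
    (h : (g ^ j) q = (g ^ i) q) : (g ^ (j - i)) q = q := by
  have e : g ^ j = g ^ i * g ^ (j - i) := by
    rw [← pow_add]
    congr 1
    omega
  rw [e, Equiv.Perm.mul_apply] at h
  exact (g ^ i).injective h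

/-! ### tables -/

/-- `g` is given by the table `t` -/
def IsTab (g : Equiv.Perm GolayPt) (t : List ℕ) : Prop := ∀ x < 24, g (gPt x) = gPt (t.getD x 0)

/-- all entries of the table are indices of points -/
def validTab (t : List ℕ) : Bool := (List.range 24).all fun i => decide (t.getD i 0 < 24)

theorem validTab_spec {t : List ℕ} (h : validTab t = true) (i : ℕ) (hi : i < 24) :
    t.getD i 0 < 24 := by
  unfold validTab at h
  rw [List.all_eq_true] at h
  simpa using h i (List.mem_range.2 hi)

/-- composition of tables -/
def compTab (a b : List ℕ) : List ℕ := (List.range 24).map fun i => a.getD (b.getD i 0) 0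

theorem getD_compTab (a b : List ℕ) (i : ℕ) (hi : i < 24) :
    (compTab a b).getD i 0 = a.getD (b.getD i 0) 0 := getD_map_range24 _ i hi

theorem validTab_compTab {a b : List ℕ} (ha : validTab a = true) (hb : validTab b = true) :
    validTab (compTab a b) = true := by
  unfold validTab
  rw [List.all_eq_true]
  intro i hi
  rw [List.mem_range] at hi
  rw [decide_eq_true_eq, getD_compTab _ _ i hi]
  exact validTab_spec ha _ (validTab_spec hb i hi)

theorem IsTab.mul {g h : Equiv.Perm GolayPt} {a b : List ℕ} (ha : IsTab g a) (hb : IsTab h b)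
    (hvb : validTab b = true) : IsTab (g * h) (compTab a b) := by
  intro x hx
  rw [Equiv.Perm.mul_apply, hb x hx, ha _ (validTab_spec hvb x hx), getD_compTab _ _ x hx]

/-- powers of a table -/
def powTab (t : List ℕ) : ℕ → List ℕ
  | 0 => List.range 24
  | n + 1 => compTab t (powTab t n)

theorem validTab_range : validTab (List.range 24) = true := by decide

theorem validTab_powTab {t : List ℕ} (ht : validTab t = true) (n : ℕ) :
    validTab (powTab t n) = true := by
  induction n with
  | zero => exact validTab_range
  | succ n ih => exact validTab_compTab ht ih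

theorem isTab_one : IsTab 1 (List.range 24) := by
  intro x hx
  rw [Equiv.Perm.one_apply, List.getD_eq_getElem _ _ (by simpa using hx), List.getElem_range]

theorem IsTab.pow {g : Equiv.Perm GolayPt} {t : List ℕ} (ht : IsTab g t)
    (hv : validTab t = true) (n : ℕ) : IsTab (g ^ n) (powTab t n) := by
  induction n with
  | zero =>
    rw [pow_zero]
    exact isTab_one
  | succ n ih =>
    rw [pow_succ']
    exact ht.mul ih (validTab_powTab hv n)

theorem IsTab.ext {g g' : Equiv.Perm GolayPt} {t : List ℕ} (h : IsTab g t) (h' : IsTab g' t) :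
    g = g' := by
  ext p
  rw [← gPt_gIdx p, h _ (gIdx_lt p), h' _ (gIdx_lt p)]

theorem isTab_permOfTabs {t s : List ℕ} (h : isInvPair t s = true) : IsTab (permOfTabs t s) t :=
  fun x hx => permOfTabs_gPt h x hx

theorem isTab_permOfTabs_inv {t s : List ℕ} (h : isInvPair t s = true) :
    IsTab (permOfTabs t s)⁻¹ s := by
  intro x hx
  change (permOfTabs t s).symm (gPt x) = _
  rw [permOfTabs_symm_apply h, tabFun, gIdx_gPt x hx]

theorem validTab_of_isInvPair {t s : List ℕ} (h : isInvPair t s = true) :
    validTab t = true ∧ validTab s = true := by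
  unfold validTab
  rw [List.all_eq_true, List.all_eq_true]
  constructor <;> intro i hi <;> rw [List.mem_range] at hi <;> rw [decide_eq_true_eq]
  · exact (isInvPair_spec h i hi).1
  · exact (isInvPair_spec h i hi).2.1

/-- number of fixed indices of a table -/
def fixCount (t : List ℕ) : ℕ := ((List.range 24).filter fun i => t.getD i 0 == i).length

theorem IsTab.card_fixed {g : Equiv.Perm GolayPt} {t : List ℕ} (ht : IsTab g t)
    (hv : validTab t = true) :
    (Finset.univ.filter fun p => g p = p).card = fixCount t := by
  unfold fixCount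
  rw [← List.toFinset_card_of_nodup (List.nodup_range.filter _)]
  apply Finset.card_bij (fun p _ => gIdx p)
  · intro p hp
    rw [Finset.mem_filter] at hp
    rw [List.mem_toFinset, List.mem_filter, List.mem_range, beq_iff_eq]
    refine ⟨gIdx_lt p, ?_⟩
    have := ht _ (gIdx_lt p)
    rw [gPt_gIdx, hp.2] at this
    have h2 := congrArg gIdx this
    rw [gIdx_gPt _ (validTab_spec hv _ (gIdx_lt p))] at h2
    exact h2.symm
  · intro a _ b _ hab
    exact gIdx_injective hab
  · intro i hi
    rw [List.mem_toFinset, List.mem_filter, List.mem_range, beq_iff_eq] at hi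
    refine ⟨gPt i, ?_, gIdx_gPt i hi.1⟩
    rw [Finset.mem_filter]
    refine ⟨Finset.mem_univ _, ?_⟩
    rw [ht i hi.1, hi.2]

/-- conjugating a tabled element by a table permutation -/
theorem conj_eq_of_tables {g : Equiv.Perm GolayPt} {tab k kinv target targetInv : List ℕ}
    (hk : isInvPair k kinv = true) (htab : IsTab g tab) (hv : validTab tab = true)
    (hT : isInvPair target targetInv = true)
    (hconj : compTab k (compTab tab kinv) = target) :
    permOfTabs k kinv * g * (permOfTabs k kinv)⁻¹ = permOfTabs target targetInv := by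
  have hvk := validTab_of_isInvPair hk
  have h1 : IsTab (g * (permOfTabs k kinv)⁻¹) (compTab tab kinv) :=
    htab.mul (isTab_permOfTabs_inv hk) hvk.2
  have h2 : IsTab (permOfTabs k kinv * (g * (permOfTabs k kinv)⁻¹)) (compTab k (compTab tab kinv)) :=
    (isTab_permOfTabs hk).mul h1 (validTab_compTab hv hvk.2)
  rw [hconj, ← mul_assoc] at h2
  exact h2.ext (isTab_permOfTabs hT)

end Cfsg.Agent.Helper92
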