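import Cfsg.Agent.Helper92.PermTab
import Cfsg.Agent.Helper8.Golay

/-!
Octads with five fixed points are invariant; a certificate checker showing that an element of
`Cfsg.M24` fixing a given set of points pointwise is the identity.
-/

set_option autoImplicit false

namespace Cfsg.Agent.Helper92

open Cfsg Cfsg.Agent.Helper27 Cfsg.Agent.Helper7
open scoped Pointwise

/-- `g` fixes every point of the set with mask `F` -/
def FixesMask (g : Equiv.Perm GolayPt) (F : ℕ) : Prop := ∀ p ∈ setOf F, g p = p

theorem setOf_and (a b : ℕ) : setOf (a &&& b) = setOf a ∩ setOf b := by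
  ext p
  simp only [mem_setOf, Finset.mem_inter, Nat.testBit_and, Bool.and_eq_true]

theorem setOf_or (a b : ℕ) : setOf (a ||| b) = setOf a ∪ setOf b := by
  ext p
  simp only [mem_setOf, Finset.mem_union, Nat.testBit_or, Bool.or_eq_true]

theorem hammingNorm_eq_card_support (w : GolayPt → ZMod 2) : hammingNorm w = (support₂ w).card := rfl

/-- An octad five of whose points are fixed by `g ∈ M24` is mapped to itself. -/
theorem octad_smul_eq {g : Equiv.Perm GolayPt} (hg : g ∈ M24) {F o : ℕ} (hF : FixesMask g F)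
    (ho : o < 2 ^ 24) (hcode : isCode o = true) (h8 : popc 24 o = 8)
    (h5 : 5 ≤ popc 24 (o &&& F)) : g • setOf o = setOf o := by
  have hw : wordOf o ∈ golayCode := (wordOf_mem_golayCode_iff ho).2 hcode
  have hw' : permL g (wordOf o) ∈ golayCode := permL_mem_of_mem_M24 hg hw
  have hs : g • setOf o = support₂ (permL g (wordOf o)) := by
    rw [← support₂_wordOf, smul_support₂]
  by_contra hne
  have hne' : wordOf o + permL g (wordOf o) ≠ 0 := by
    intro h0
    apply hne
    have : permL g (wordOf o) = wordOf o := by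
      have h1 : ∀ a b : ZMod 2, a + b = 0 → b = a := by decide
      funext p
      exact h1 _ _ (congrFun h0 p)
    rw [hs, this, support₂_wordOf]
  have h8' := eight_le_weight _ (golayCode.add_mem hw hw') hne'
  rw [hammingNorm_eq_card_support, Cfsg.Agent.Helper8.support₂_add, support₂_wordOf, ← hs] at h8'
  have hcard := Cfsg.Agent.Helper8.card_symmDiff_add (setOf o) (g • setOf o)
  have hA : (setOf o).card = 8 := by rw [card_setOf, h8]
  have hA' : (g • setOf o).card = 8 := by rw [Finset.card_smul_finset, hA]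
  have hI : setOf (o &&& F) ⊆ setOf o ∩ g • setOf o := by
    intro p hp
    rw [setOf_and, Finset.mem_inter] at hp
    rw [Finset.mem_inter]
    refine ⟨hp.1, ?_⟩
    rw [Finset.mem_smul_finset]
    exact ⟨p, hp.1, hF p hp.2⟩
  have hI' := Finset.card_le_card hI
  rw [card_setOf] at hI'
  omega

theorem mem_of_smul_eq {g : Equiv.Perm GolayPt} {A : Finset GolayPt} (h : g • A = A) {p : GolayPt}
    (hp : p ∈ A) : g p ∈ A := by
  rw [← h]
  exact Finset.smul_mem_smul_finset hp

/-- one step of the closure certificate -/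
def stepOK (F o1 o2 r : ℕ) : Bool :=
  decide (o1 < 2 ^ 24) && decide (o2 < 2 ^ 24) && isCode o1 && isCode o2 &&
    (popc 24 o1 == 8) && (popc 24 o2 == 8) && decide (5 ≤ popc 24 (o1 &&& F)) &&
    decide (5 ≤ popc 24 (o2 &&& F)) && (popc 24 r == 1) &&
    ((o1 &&& o2) == (r ||| (o1 &&& o2 &&& F)))

theorem fixes_step {g : Equiv.Perm GolayPt} (hg : g ∈ M24) {F o1 o2 r : ℕ} (hF : FixesMask g F)
    (h : stepOK F o1 o2 r = true) : FixesMask g (F ||| r) := by
  unfold stepOK at h
  simp only [Bool.and_eq_true, decide_eq_true_eq, beq_iff_eq] at h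
  obtain ⟨⟨⟨⟨⟨⟨⟨⟨⟨ho1, ho2⟩, hc1⟩, hc2⟩, h81⟩, h82⟩, h51⟩, h52⟩, hr⟩, hinter⟩ := h
  have inv1 := octad_smul_eq hg hF ho1 hc1 h81 h51
  have inv2 := octad_smul_eq hg hF ho2 hc2 h82 h52
  intro p hp
  rw [setOf_or, Finset.mem_union] at hp
  rcases hp with hp | hp
  · exact hF p hp
  · -- p is the unique point of r
    have hpi : p ∈ setOf (o1 &&& o2) := by
      rw [hinter, setOf_or, Finset.mem_union]; exact Or.inl hp
    rw [setOf_and, Finset.mem_inter] at hpi
    have hgp : g p ∈ setOf (o1 &&& o2) := by
      rw [setOf_and, Finset.mem_inter]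
      exact ⟨mem_of_smul_eq inv1 hpi.1, mem_of_smul_eq inv2 hpi.2⟩
    rw [hinter, setOf_or, Finset.mem_union] at hgp
    rcases hgp with hgp | hgp
    · have hcard : (setOf r).card ≤ 1 := by rw [card_setOf, hr]
      exact Finset.card_le_one.1 hcard _ hgp _ hp
    · rw [setOf_and, Finset.mem_inter] at hgp
      have := hF (g p) hgp.2
      exact g.injective this

/-- the closure certificate: a list of steps `(o1, o2, r)` ending with all points fixed -/
def closureOK : ℕ → List (ℕ × ℕ × ℕ) → Bool
  | F, [] => F == 16777215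
  | F, (o1, o2, r) :: rest => stepOK F o1 o2 r && closureOK (F ||| r) rest

theorem setOf_all : setOf 16777215 = Finset.univ := by
  ext p
  simp only [mem_setOf, Finset.mem_univ, iff_true]
  have : ∀ i < 24, Nat.testBit 16777215 i = true := by decide
  exact this _ (gIdx_lt p)

theorem eq_one_of_closureOK {g : Equiv.Perm GolayPt} (hg : g ∈ M24) (F : ℕ)
    (steps : List (ℕ × ℕ × ℕ)) (hF : FixesMask g F) (h : closureOK F steps = true) : g = 1 := by
  induction steps generalizing F with
  | nil =>
    simp only [closureOK, beq_iff_eq] at h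
    subst h
    refine Equiv.ext fun p => ?_
    rw [Equiv.Perm.one_apply]
    exact hF p (by rw [setOf_all]; exact Finset.mem_univ p)
  | cons s rest ih =>
    obtain ⟨o1, o2, r⟩ := s
    simp only [closureOK, Bool.and_eq_true] at h
    exact ih (F ||| r) (fixes_step hg hF h.1) h.2

/-- masks of a list of indices -/
def maskOfList (l : List ℕ) : ℕ := l.foldr (fun i acc => acc ||| 2 ^ i) 0

theorem fixesMask_of_forall {g : Equiv.Perm GolayPt} (F : ℕ)
    (h : ∀ i < 24, F.testBit i = true → g (gPt i) = gPt i) : FixesMask g F := by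
  intro p hp
  rw [mem_setOf] at hp
  have := h (gIdx p) (gIdx_lt p) hp
  rwa [gPt_gIdx] at this

end Cfsg.Agent.Helper92
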