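import Cfsg.Agent.Helper92.M24Chain

/-!
Transitivity certificates for a subgroup `K` of the permutations of the 24 points, acting on an
invariant set of points (given by a mask): explicit coset representatives (as tables) for a chain of
point stabilizers, with a kernel-friendly checker.
-/

set_option autoImplicit false

namespace Cfsg.Agent.Helper92

open Cfsg Cfsg.Agent.Helper27 Cfsg.Agent.Helper7

section
variable (K : Subgroup (Equiv.Perm GolayPt)) (chk : List ℕ → List ℕ → Bool)

/-- all tables pass the test `chk` and fix the indices in `fixed`, and the images of `b` cover all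
indices of `orb` outside `fixed` -/
def levelOKg (orb : ℕ) (fixed : List ℕ) (b : ℕ) (tabs : List (List ℕ × List ℕ)) : Bool :=
  (tabs.all fun ts => isInvPair ts.1 ts.2 && chk ts.1 ts.2 &&
      fixed.all fun j => ts.1.getD j 0 == j) &&
    (List.range 24).all fun y =>
      !orb.testBit y || fixed.contains y || tabs.any fun ts => ts.1.getD b 0 == y

variable {K chk}

theorem level_spec_g (hchk : ∀ t s, isInvPair t s = true → chk t s = true → permOfTabs t s ∈ K)
    {orb : ℕ} {fixed : List ℕ} {b : ℕ} {tabs : List (List ℕ × List ℕ)}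
    (h : levelOKg chk orb fixed b tabs = true) (hb : b < 24) (hfixed : ∀ j ∈ fixed, j < 24)
    (y : ℕ) (hy : y < 24) (hyo : orb.testBit y = true) (hyf : y ∉ fixed) :
    ∃ u ∈ K, (∀ j ∈ fixed, u (gPt j) = gPt j) ∧ u (gPt b) = gPt y := by
  unfold levelOKg at h
  rw [Bool.and_eq_true, List.all_eq_true, List.all_eq_true] at h
  obtain ⟨h1, h2⟩ := h
  have h3 := h2 y (List.mem_range.2 hy)
  rw [Bool.or_eq_true, Bool.or_eq_true, List.contains_iff_mem, List.any_eq_true] at h3
  rcases h3 with (h3 | h3) | ⟨ts, hts, h3⟩
  · rw [hyo] at h3; simp at h3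
  · exact absurd h3 hyf
  · have h4 := h1 ts hts
    simp only [Bool.and_eq_true, List.all_eq_true, beq_iff_eq] at h4 h3
    obtain ⟨⟨hinv, hc⟩, hfix⟩ := h4
    refine ⟨permOfTabs ts.1 ts.2, hchk _ _ hinv hc, ?_, ?_⟩
    · intro j hj
      rw [permOfTabs_gPt hinv j (hfixed j hj), hfix j hj]
    · rw [permOfTabs_gPt hinv b hb, h3]

variable (chk)

/-- a chain of levels -/
def chainOKg (orb : ℕ) : List ℕ → List ℕ → List (List (List ℕ × List ℕ)) → Bool
  | _, [], [] => true
  | fixed, b :: bs, tabs :: tabss =>
    decide (b < 24) && levelOKg chk orb fixed b tabs && chainOKg orb (fixed ++ [b]) bs tabss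
  | _, _, _ => false

variable {chk}

theorem chain_extend_g (hchk : ∀ t s, isInvPair t s = true → chk t s = true → permOfTabs t s ∈ K)
    {orb : ℕ} (horb : ∀ u ∈ K, ∀ p, orb.testBit (gIdx p) = true → orb.testBit (gIdx (u p)) = true)
    (bs : List ℕ) : ∀ (fixed : List ℕ) (tabss : List (List (List ℕ × List ℕ)))
    (_ : chainOKg chk orb fixed bs tabss = true) (_ : ∀ j ∈ fixed, j < 24)
    (L : List (GolayPt × ℕ)) (_ : L.map Prod.snd = fixed) (h : Equiv.Perm GolayPt) (_ : h ∈ K)
    (_ : Sends h L) (cs : List GolayPt) (_ : cs.length = bs.length)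
    (_ : ∀ c ∈ cs, orb.testBit (gIdx c) = true)
    (_ : (L.map Prod.fst ++ cs).Nodup),
    ∃ h' ∈ K, Sends h' (L ++ cs.zip bs) := by
  induction bs with
  | nil =>
    intro fixed tabss _ _ L _ h hM hs cs hlen _ _
    have : cs = [] := List.length_eq_zero_iff.1 hlen
    subst this
    exact ⟨h, hM, by simpa using hs⟩
  | cons b bs ih =>
    intro fixed tabss hOK hfix L hL h hM hs cs hlen hcs hnd
    cases cs with
    | nil => simp at hlen
    | cons c cs =>
      cases tabss with
      | nil => simp [chainOKg] at hOK
      | cons tabs tabss =>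
        simp only [chainOKg, Bool.and_eq_true, decide_eq_true_eq] at hOK
        obtain ⟨⟨hb, hlev⟩, hrest⟩ := hOK
        have hy : gIdx (h c) ∉ fixed := by
          intro hmem
          rw [← hL, List.mem_map] at hmem
          obtain ⟨cb, hcb, hcb2⟩ := hmem
          have h1 : h cb.1 = h c := by
            rw [hs cb hcb, hcb2, gPt_gIdx]
          have h2 : cb.1 = c := h.injective h1
          rw [List.nodup_append] at hnd
          have h3 : cb.1 ∈ L.map Prod.fst := List.mem_map.2 ⟨cb, hcb, rfl⟩
          exact hnd.2.2 cb.1 h3 c (List.mem_cons_self) h2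
        have hyo : orb.testBit (gIdx (h c)) = true := horb h hM c (hcs c List.mem_cons_self)
        obtain ⟨u, huM, hufix, hub⟩ := level_spec_g hchk hlev hb hfix (gIdx (h c)) (gIdx_lt _) hyo hy
        rw [gPt_gIdx] at hub
        have hinvfix : ∀ j ∈ fixed, u⁻¹ (gPt j) = gPt j := by
          intro j hj
          rw [Equiv.Perm.inv_eq_iff_eq]
          exact (hufix j hj).symm
        have hs' : Sends (u⁻¹ * h) (L ++ [(c, b)]) := by
          intro cb hcb
          rw [List.mem_append] at hcb
          rcases hcb with hcb | hcb
          · rw [Equiv.Perm.mul_apply, hs cb hcb]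
            apply hinvfix
            rw [← hL]
            exact List.mem_map.2 ⟨cb, hcb, rfl⟩
          · rw [List.mem_singleton] at hcb
            subst hcb
            rw [Equiv.Perm.mul_apply, Equiv.Perm.inv_eq_iff_eq]
            exact hub.symm
        have hfix' : ∀ j ∈ fixed ++ [b], j < 24 := by
          intro j hj
          rw [List.mem_append, List.mem_singleton] at hj
          rcases hj with hj | hj
          · exact hfix j hj
          · rw [hj]; exact hb
        have hL' : (L ++ [(c, b)]).map Prod.snd = fixed ++ [b] := by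
          rw [List.map_append, hL]; rfl
        have hnd' : ((L ++ [(c, b)]).map Prod.fst ++ cs).Nodup := by
          rw [List.map_append, List.append_assoc]
          exact hnd
        have hlen' : cs.length = bs.length := by simpa using hlen
        obtain ⟨h', hM', hs''⟩ := ih (fixed ++ [b]) tabss hrest hfix' (L ++ [(c, b)]) hL'
          (u⁻¹ * h) (K.mul_mem (K.inv_mem huM) hM) hs' cs hlen'
          (fun c' hc' => hcs c' (List.mem_cons_of_mem _ hc')) hnd'
        refine ⟨h', hM', ?_⟩
        rw [List.zip_cons_cons, ← List.singleton_append, ← List.append_assoc]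
        exact hs''

/-- Multiple transitivity of `K` on the set with mask `orb` from a chain certificate: any list of
distinct points of the set can be moved to the base points. -/
theorem exists_sends_of_chainOKg
    (hchk : ∀ t s, isInvPair t s = true → chk t s = true → permOfTabs t s ∈ K)
    {orb : ℕ} (horb : ∀ u ∈ K, ∀ p, orb.testBit (gIdx p) = true → orb.testBit (gIdx (u p)) = true)
    {bs : List ℕ} {tabss : List (List (List ℕ × List ℕ))}
    (hOK : chainOKg chk orb [] bs tabss = true) (cs : List GolayPt) (hlen : cs.length = bs.length)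
    (hcs : ∀ c ∈ cs, orb.testBit (gIdx c) = true)
    (hnd : cs.Nodup) : ∃ h ∈ K, Sends h (cs.zip bs) := by
  have := chain_extend_g hchk horb bs [] tabss hOK (by simp) [] rfl 1 K.one_mem
    (by intro cb hcb; simp at hcb) cs hlen hcs (by simpa using hnd)
  simpa using this

end

end Cfsg.Agent.Helper92
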