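import Cfsg.Agent.Helper92.LeechCharCoord
import Cfsg.Agent.Helper93.SelfDualCode

/-!
# Conway's characterisation of the rank-24 lattice, part B1: the binary code of a `LeechLike` lattice

For a sublattice `Λ` of `ℤ^24` with the properties `LeechLike`, the vectors `4 t` of `Λ` are those
with `∑ t` even, and the even vectors of `Λ` modulo 4 define a binary linear code `codeC Λ` which is
doubly even with minimum weight at least 8.
-/

set_option autoImplicit false

namespace Cfsg.Agent.Helper92.LeechChar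

open Cfsg

theorem dotInt_single_right' (y : Fin 24 → ℤ) (i : Fin 24) (a : ℤ) :
    dotInt y (Pi.single i a) = a * y i := by
  classical
  unfold dotInt
  rw [Finset.sum_eq_single i]
  · rw [Pi.single_eq_same, mul_comm]
  · intro j _ hj
    rw [Pi.single_eq_of_ne hj, mul_zero]
  · intro h
    exact absurd (Finset.mem_univ i) h

theorem dotInt_add_right' (y a b : Fin 24 → ℤ) : dotInt y (a + b) = dotInt y a + dotInt y b := by
  unfold dotInt
  rw [← Finset.sum_add_distrib]
  refine Finset.sum_congr rfl fun i _ => ?_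
  rw [Pi.add_apply]
  ring

theorem sqNorm_single' (i : Fin 24) (a : ℤ) : sqNorm (Pi.single i a : Fin 24 → ℤ) = a ^ 2 := by
  classical
  unfold sqNorm
  rw [Finset.sum_eq_single i]
  · rw [Pi.single_eq_same]
  · intro j _ hj
    rw [Pi.single_eq_of_ne hj]
    norm_num
  · intro h
    exact absurd (Finset.mem_univ i) h

section
variable {Λ : AddSubgroup (Fin 24 → ℤ)}

/-- all coordinates of a vector of `Λ` have the same parity -/
theorem parity (h : LeechLike Λ) {y : Fin 24 → ℤ} (hy : y ∈ Λ) (i j : Fin 24) :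
    (2 : ℤ) ∣ y i - y j := by
  by_cases hij : i = j
  · subst hij
    simp
  · have h1 := h.dot8 y hy _ (h.pair_mem i j hij (-4) (Or.inr rfl))
    rw [dotInt_add_right', dotInt_single_right', dotInt_single_right'] at h1
    omega

theorem single8_mem (h : LeechLike Λ) (i : Fin 24) : (Pi.single i 8 : Fin 24 → ℤ) ∈ Λ := by
  obtain ⟨j, hj⟩ : ∃ j : Fin 24, i ≠ j := by
    by_cases h0 : i = 0
    · exact ⟨1, by rw [h0]; decide⟩
    · exact ⟨0, h0⟩
  have h1 := Λ.add_mem (h.pair_mem i j hj 4 (Or.inl rfl)) (h.pair_mem i j hj (-4) (Or.inr rfl))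
  have e : (Pi.single i 4 + Pi.single j 4 + (Pi.single i 4 + Pi.single j (-4)) : Fin 24 → ℤ) =
      Pi.single i 8 := by
    funext k
    simp only [Pi.add_apply, Pi.single_apply]
    split_ifs <;> norm_num
  rw [e] at h1
  exact h1

theorem diff_mem (h : LeechLike Λ) (i : Fin 24) :
    (Pi.single i 4 - Pi.single 0 4 : Fin 24 → ℤ) ∈ Λ := by
  by_cases h0 : i = 0
  · rw [h0, sub_self]
    exact Λ.zero_mem
  · have := h.pair_mem i 0 h0 (-4) (Or.inr rfl)
    rw [Pi.single_neg, ← sub_eq_add_neg] at this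
    exact this

/-- the vectors `4 t` with `∑ t` even lie in `Λ` -/
theorem four_mem (h : LeechLike Λ) (t : Fin 24 → ℤ) (ht : (2 : ℤ) ∣ ∑ i, t i) :
    (4 : ℤ) • t ∈ Λ := by
  classical
  obtain ⟨s, hs⟩ := ht
  have e : (4 : ℤ) • t = ∑ i, t i • (Pi.single i 4 - Pi.single 0 4 : Fin 24 → ℤ) +
      s • (Pi.single 0 8 : Fin 24 → ℤ) := by
    funext k
    rw [Pi.add_apply, Finset.sum_apply]
    simp only [Pi.smul_apply, Pi.sub_apply, smul_eq_mul, Pi.single_apply, mul_sub]
    rw [Finset.sum_sub_distrib]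
    simp only [mul_ite, mul_zero]
    rw [Finset.sum_ite_eq Finset.univ k, if_pos (Finset.mem_univ k)]
    by_cases hk : k = 0
    · subst hk
      simp only [if_true]
      have : ∑ x : Fin 24, t x * 4 = 4 * ∑ x, t x := by
        rw [Finset.mul_sum]
        exact Finset.sum_congr rfl fun i _ => mul_comm _ _
      rw [this, hs]
      ring
    · simp only [if_neg hk]
      simp
      ring
  rw [e]
  apply Λ.add_mem
  · apply Λ.sum_mem
    intro i _
    exact Λ.zsmul_mem (diff_mem h i) _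
  · exact Λ.zsmul_mem (single8_mem h 0) _

theorem single4_not_mem (h : LeechLike Λ) (i : Fin 24) : (Pi.single i 4 : Fin 24 → ℤ) ∉ Λ := by
  intro hm
  have hne : (Pi.single i 4 : Fin 24 → ℤ) ≠ 0 := by
    intro h0
    have := congrFun h0 i
    rw [Pi.single_eq_same] at this
    norm_num at this
  have := h.norm32 _ hm hne
  rw [sqNorm_single'] at this
  norm_num at this

theorem four_mem_iff (h : LeechLike Λ) (t : Fin 24 → ℤ) :
    (4 : ℤ) • t ∈ Λ ↔ (2 : ℤ) ∣ ∑ i, t i := by
  classical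
  constructor
  · intro hm
    by_contra hodd
    have h1 : (2 : ℤ) ∣ ∑ i, (t - (Pi.single 0 1 : Fin 24 → ℤ)) i := by
      simp only [Pi.sub_apply]
      rw [Finset.sum_sub_distrib, Finset.sum_pi_single' (0 : Fin 24) (1 : ℤ) Finset.univ,
        if_pos (Finset.mem_univ _)]
      omega
    have h2 := Λ.sub_mem hm (four_mem h _ h1)
    have e : (4 : ℤ) • t - (4 : ℤ) • (t - Pi.single 0 1) = (Pi.single 0 4 : Fin 24 → ℤ) := by
      funext k
      simp only [Pi.sub_apply, Pi.smul_apply, smul_eq_mul, Pi.single_apply]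
      split_ifs <;> ring
    rw [e] at h2
    exact single4_not_mem h 0 h2
  · exact four_mem h t

end

/-- the lift of a binary word to a vector with entries 0 and 2 -/
def tw (w : Fin 24 → ZMod 2) : Fin 24 → ℤ := fun i => 2 * ((w i).val : ℤ)

theorem tw_zero : tw 0 = 0 := by
  funext i
  simp [tw]

theorem zmod2_val_add (a b : ZMod 2) :
    (2 : ℤ) * ((a + b).val : ℤ) = 2 * (a.val : ℤ) + 2 * (b.val : ℤ) - 4 * ((a.val : ℤ) * (b.val : ℤ)) := by
  revert a b
  decide

theorem tw_add (v w : Fin 24 → ZMod 2) :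
    tw (v + w) = tw v + tw w - (4 : ℤ) • (fun i => ((v i).val : ℤ) * ((w i).val : ℤ)) := by
  funext i
  simp only [tw, Pi.add_apply, Pi.sub_apply, Pi.smul_apply, smul_eq_mul]
  exact zmod2_val_add (v i) (w i)

/-- the binary code of the even vectors modulo 4 -/
def codeC (Λ : AddSubgroup (Fin 24 → ℤ)) : Submodule (ZMod 2) (Fin 24 → ZMod 2) where
  carrier := {w | ∃ t : Fin 24 → ℤ, tw w + (4 : ℤ) • t ∈ Λ}
  zero_mem' := ⟨0, by rw [tw_zero, smul_zero, add_zero]; exact Λ.zero_mem⟩
  add_mem' := by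
    rintro v w ⟨t, ht⟩ ⟨t', ht'⟩
    refine ⟨t + t' + (fun i => ((v i).val : ℤ) * ((w i).val : ℤ)), ?_⟩
    have := Λ.add_mem ht ht'
    have e : tw (v + w) + (4 : ℤ) • (t + t' + fun i => ((v i).val : ℤ) * ((w i).val : ℤ)) =
        tw v + (4 : ℤ) • t + (tw w + (4 : ℤ) • t') := by
      rw [tw_add, smul_add, smul_add]
      abel
    rw [e]
    exact this
  smul_mem' := by
    intro c w hw
    have hc : c = 0 ∨ c = 1 := by
      revert c
      decide
    rcases hc with rfl | rfl
    · rw [zero_smul]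
      exact ⟨0, by rw [tw_zero, smul_zero, add_zero]; exact Λ.zero_mem⟩
    · rw [one_smul]
      exact hw

theorem mem_codeC (Λ : AddSubgroup (Fin 24 → ℤ)) (w : Fin 24 → ZMod 2) :
    w ∈ codeC Λ ↔ ∃ t : Fin 24 → ℤ, tw w + (4 : ℤ) • t ∈ Λ := Iff.rfl

theorem zmod2_sq (a : ZMod 2) : ((2 : ℤ) * (a.val : ℤ)) ^ 2 = 4 * (if a ≠ 0 then 1 else 0 : ℕ) := by
  revert a
  decide

theorem sqNorm_tw (w : Fin 24 → ZMod 2) : sqNorm (tw w) = 4 * (hammingNorm w : ℤ) := by
  unfold sqNorm tw
  rw [Cfsg.Agent.Helper93.wt_eq_sum, Nat.cast_sum, Finset.mul_sum]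
  exact Finset.sum_congr rfl fun i _ => zmod2_sq (w i)

theorem tw_apply_of_ne {w : Fin 24 → ZMod 2} {i : Fin 24} (hi : w i ≠ 0) : tw w i = 2 := by
  have h : ∀ a : ZMod 2, a ≠ 0 → (2 : ℤ) * (a.val : ℤ) = 2 := by decide
  exact h (w i) hi

section
variable {Λ : AddSubgroup (Fin 24 → ℤ)}

/-- nonzero words of the code have weight divisible by 4 and at least 8 -/
theorem weight_codeC (h : LeechLike Λ) {w : Fin 24 → ZMod 2} (hw : w ∈ codeC Λ) (hw0 : w ≠ 0) :
    4 ∣ hammingNorm w ∧ 8 ≤ hammingNorm w := by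
  classical
  obtain ⟨t, ht⟩ := hw
  obtain ⟨i0, hi0⟩ : ∃ i, w i ≠ 0 := by
    by_contra hcon
    push Not at hcon
    exact hw0 (funext hcon)
  -- a vector of `Λ` with sum of squares `4 wt(w)`
  have key : ∃ y ∈ Λ, y ≠ 0 ∧ sqNorm y = 4 * (hammingNorm w : ℤ) := by
    by_cases hpar : (2 : ℤ) ∣ ∑ i, t i
    · refine ⟨tw w, ?_, ?_, sqNorm_tw w⟩
      · have := Λ.sub_mem ht (four_mem h t hpar)
        rwa [add_sub_cancel_right] at this
      · intro h0
        have := congrFun h0 i0
        rw [tw_apply_of_ne hi0] at this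
        norm_num at this
    · have hpar' : (2 : ℤ) ∣ ∑ i, (t + (Pi.single i0 1 : Fin 24 → ℤ)) i := by
        simp only [Pi.add_apply]
        rw [Finset.sum_add_distrib, Finset.sum_pi_single' i0 (1 : ℤ) Finset.univ,
          if_pos (Finset.mem_univ _)]
        omega
      have hm := Λ.sub_mem ht (four_mem h _ hpar')
      have e : tw w + (4 : ℤ) • t - (4 : ℤ) • (t + Pi.single i0 1) = tw w + Pi.single i0 (-4) := by
        funext k
        simp only [Pi.sub_apply, Pi.add_apply, Pi.smul_apply, smul_eq_mul, Pi.single_apply]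
        split_ifs <;> ring
      rw [e] at hm
      refine ⟨_, hm, ?_, ?_⟩
      · intro h0
        have := congrFun h0 i0
        rw [Pi.add_apply, tw_apply_of_ne hi0, Pi.single_eq_same] at this
        norm_num at this
      · rw [sqNorm_add', sqNorm_tw, sqNorm_single', dotInt_single_right', tw_apply_of_ne hi0]
        ring
  obtain ⟨y, hy, hy0, hyn⟩ := key
  have h16 := h.norm16 y hy
  have h32 := h.norm32 y hy hy0
  rw [hyn] at h16 h32
  constructor
  · have : (4 : ℤ) ∣ (hammingNorm w : ℤ) := by omega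
    exact_mod_cast this
  · omega

/-- the code is doubly even -/
theorem codeC_four_dvd (h : LeechLike Λ) : ∀ w ∈ codeC Λ, 4 ∣ hammingNorm w := by
  intro w hw
  by_cases hw0 : w = 0
  · rw [hw0, hammingNorm_zero]
    exact dvd_zero 4
  · exact (weight_codeC h hw hw0).1

theorem codeC_ne_four (h : LeechLike Λ) : ∀ w ∈ codeC Λ, hammingNorm w ≠ 4 := by
  intro w hw
  by_cases hw0 : w = 0
  · rw [hw0, hammingNorm_zero]
    norm_num
  · have := (weight_codeC h hw hw0).2
    omega

/-- the code is self-orthogonal -/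
theorem codeC_orth (h : LeechLike Λ) : ∀ v ∈ codeC Λ, ∀ w ∈ codeC Λ, ∑ i, v i * w i = 0 := by
  intro v hv w hw
  have h1 := Cfsg.Agent.Helper93.wt_add_add v w
  have h2 := codeC_four_dvd h v hv
  have h3 := codeC_four_dvd h w hw
  have h4 := codeC_four_dvd h (v + w) ((codeC Λ).add_mem hv hw)
  rw [← Cfsg.Agent.Helper93.inter_card_cast]
  have : Even ((Finset.univ.filter fun i => v i ≠ 0) ∩ (Finset.univ.filter fun i => w i ≠ 0)).card := by
    rw [Nat.even_iff]
    omega
  exact (ZMod.natCast_eq_zero_iff_even).mpr this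

end

end Cfsg.Agent.Helper92.LeechChar
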