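import Cfsg.Agent.Helper92.LeechCharFrame
import Cfsg.Prelude.Def_Sporadic_a

/-!
# Conway's characterisation of the rank-24 lattice, part A': the coordinate lattice

The image `Λ` of `ℤ^24` under the frame coordinates is a sublattice of `ℤ^24` containing all
`4 e_i ± 4 e_j`, with inner products divisible by 8, sums of squares divisible by 16 and at least
32 on nonzero vectors, and with 196560 vectors of sum of squares 32 (`LeechLike`).
-/

set_option autoImplicit false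

namespace Cfsg.Agent.Helper92.LeechChar

open Matrix Cfsg

/-- the properties of the coordinate lattice -/
structure LeechLike (Λ : AddSubgroup (Fin 24 → ℤ)) : Prop where
  pair_mem : ∀ i j : Fin 24, i ≠ j → ∀ t : ℤ, (t = 4 ∨ t = -4) →
    (Pi.single i 4 + Pi.single j t : Fin 24 → ℤ) ∈ Λ
  dot8 : ∀ y ∈ Λ, ∀ y' ∈ Λ, (8 : ℤ) ∣ dotInt y y'
  norm16 : ∀ y ∈ Λ, (16 : ℤ) ∣ sqNorm y
  norm32 : ∀ y ∈ Λ, y ≠ 0 → 32 ≤ sqNorm y
  count : {y : Fin 24 → ℤ | y ∈ Λ ∧ sqNorm y = 32}.ncard = 196560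

theorem sqNorm_add' {α : Type*} [Fintype α] (x y : α → ℤ) :
    sqNorm (x + y) = sqNorm x + sqNorm y + 2 * dotInt x y := by
  unfold sqNorm dotInt
  rw [Finset.mul_sum, ← Finset.sum_add_distrib, ← Finset.sum_add_distrib]
  refine Finset.sum_congr rfl fun i _ => ?_
  rw [Pi.add_apply]
  ring

theorem sqNorm_eq_zero' {α : Type*} [Fintype α] {x : α → ℤ} (h : sqNorm x = 0) : x = 0 := by
  unfold sqNorm at h
  funext i
  have := (Finset.sum_eq_zero_iff_of_nonneg (fun i _ => sq_nonneg (x i))).mp h i (Finset.mem_univ i)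
  exact pow_eq_zero_iff (by norm_num) |>.mp this

theorem exists_coord (B : Matrix (Fin 24) (Fin 24) ℤ) (hsymm : B.IsSymm)
    (hpos : ∀ x : Fin 24 → ℤ, x ≠ 0 → 0 < x ⬝ᵥ (B *ᵥ x))
    (heven : ∀ x : Fin 24 → ℤ, (2 : ℤ) ∣ x ⬝ᵥ (B *ᵥ x))
    (h2 : ∀ x : Fin 24 → ℤ, x ⬝ᵥ (B *ᵥ x) ≠ 2)
    (h4 : {x : Fin 24 → ℤ | x ⬝ᵥ (B *ᵥ x) = 4}.ncard = 196560)
    (h6 : {x : Fin 24 → ℤ | x ⬝ᵥ (B *ᵥ x) = 6}.ncard = 16773120)
    (h8 : {x : Fin 24 → ℤ | x ⬝ᵥ (B *ᵥ x) = 8}.ncard = 398034000) :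
    ∃ φ : (Fin 24 → ℤ) →+ (Fin 24 → ℤ), Function.Injective φ ∧
      (∀ x, sqNorm (φ x) = 8 * (x ⬝ᵥ (B *ᵥ x))) ∧ LeechLike (AddMonoidHom.range φ) := by
  classical
  obtain ⟨f, hf8, hforth, hfcong⟩ := exists_frame B hsymm hpos heven h2 h4 h6 h8
  let φ : (Fin 24 → ℤ) →+ (Fin 24 → ℤ) :=
    AddMonoidHom.mk' (fun x i => bf B (f i) x) (by
      intro x y
      funext i
      simp only [Pi.add_apply]
      exact bf_add_right B (f i) x y)
  have hφ : ∀ x i, φ x i = bf B (f i) x := fun x i => rfl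
  have hN : ∀ x, sqNorm (φ x) = 8 * (x ⬝ᵥ (B *ᵥ x)) := by
    intro x
    unfold sqNorm
    simp only [hφ]
    exact gram_frame B f hf8 hforth x
  have hq : ∀ x y : Fin 24 → ℤ, bf B (x + y) (x + y) = bf B x x + bf B y y + 2 * bf B x y := by
    intro x y
    rw [bf_add_left, bf_add_right, bf_add_right, bf_symm B hsymm y x]
    ring
  have hdot : ∀ x y, dotInt (φ x) (φ y) = 8 * bf B x y := by
    intro x y
    have h1 := sqNorm_add' (φ x) (φ y)
    rw [← map_add, hN, hN, hN] at h1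
    have h3 := hq x y
    unfold bf at h3 ⊢
    linarith
  have hinj : Function.Injective φ := by
    rw [injective_iff_map_eq_zero]
    intro x hx
    by_contra hx0
    have h1 := hN x
    rw [hx] at h1
    have h3 : sqNorm (0 : Fin 24 → ℤ) = 0 := by
      unfold sqNorm
      simp
    rw [h3] at h1
    have := hpos x hx0
    omega
  have hφf : ∀ j, φ (f j) = Pi.single j 8 := by
    intro j
    funext i
    rw [hφ]
    by_cases hij : i = j
    · subst hij
      rw [hf8, Pi.single_eq_same]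
    · rw [hforth i j hij, Pi.single_eq_of_ne hij]
  have hqpos : ∀ x : Fin 24 → ℤ, x ≠ 0 → 4 ≤ x ⬝ᵥ (B *ᵥ x) := by
    intro x hx
    have h1 := hpos x hx
    have h3 := heven x
    have h5 := h2 x
    omega
  refine ⟨φ, hinj, hN, ?_, ?_, ?_, ?_, ?_⟩
  · -- the vectors 4 e_i ± 4 e_j
    intro i j hij t ht
    choose z hz using hfcong i j
    have hzeq : f i - f j = (2 : ℤ) • z := by
      funext k
      rw [hz k, Pi.smul_apply, smul_eq_mul]
    have h1 : ∀ k, 2 * φ z k = (Pi.single i 8 - Pi.single j 8 : Fin 24 → ℤ) k := by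
      intro k
      have : φ ((2 : ℤ) • z) = (2 : ℤ) • φ z := map_zsmul φ 2 z
      have h3 : φ (f i - f j) = φ (f i) - φ (f j) := map_sub φ _ _
      rw [hzeq, this, hφf, hφf] at h3
      have h5 := congrFun h3 k
      rw [Pi.smul_apply, smul_eq_mul] at h5
      exact h5
    have hφz : φ z = Pi.single i 4 + Pi.single j (-4) := by
      funext k
      have h3 := h1 k
      simp only [Pi.sub_apply, Pi.add_apply, Pi.single_apply] at h3 ⊢
      split_ifs at h3 ⊢ <;> omega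
    rcases ht with rfl | rfl
    · refine ⟨z + f j, ?_⟩
      rw [map_add, hφz, hφf]
      funext k
      simp only [Pi.add_apply, Pi.single_apply]
      split_ifs <;> omega
    · exact ⟨z, hφz⟩
  · rintro y ⟨x, rfl⟩ y' ⟨x', rfl⟩
    rw [hdot]
    exact Dvd.intro _ rfl
  · rintro y ⟨x, rfl⟩
    rw [hN]
    obtain ⟨k, hk⟩ := heven x
    rw [hk]
    exact ⟨k, by ring⟩
  · rintro y ⟨x, rfl⟩ hy
    rw [hN]
    have hx : x ≠ 0 := by
      intro h
      apply hy
      rw [h, map_zero]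
    have := hqpos x hx
    omega
  · have himg : {y : Fin 24 → ℤ | y ∈ AddMonoidHom.range φ ∧ sqNorm y = 32} =
        φ '' {x : Fin 24 → ℤ | x ⬝ᵥ (B *ᵥ x) = 4} := by
      ext y
      simp only [Set.mem_ofPred_eq, Set.mem_image]
      constructor
      · rintro ⟨⟨x, rfl⟩, hy⟩
        rw [hN] at hy
        exact ⟨x, by omega, rfl⟩
      · rintro ⟨x, hx, rfl⟩
        exact ⟨⟨x, rfl⟩, by rw [hN, hx]; norm_num⟩
    rw [himg, Set.ncard_image_of_injective _ hinj, h4]

end Cfsg.Agent.Helper92.LeechChar
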