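import Cfsg.Agent.Helper92.LeechCharShape

/-!
# Conway's characterisation, part C: the code has dimension 12

Counting the 196560 vectors of sum of squares 32 of a `LeechLike` lattice: at most `24 |C|` odd
ones, at most 2304 with all entries divisible by 4, at most `128 A₈` others, and `A₈ ≤ 759`.
Together with `|C| ≤ 2 ^ 12` (self-orthogonality) this forces `dim C = 12`.
-/

set_option autoImplicit false

namespace Cfsg.Agent.Helper92.LeechChar

open Cfsg Module

theorem selfOrth_finrank_le {n : ℕ} (C : Submodule (ZMod 2) (Fin n → ZMod 2))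
    (horth : ∀ v ∈ C, ∀ w ∈ C, ∑ i, v i * w i = 0) :
    2 * finrank (ZMod 2) C ≤ n := by
  classical
  let b := Pi.basisFun (ZMod 2) (Fin n)
  have hdual : ∀ v c : Fin n → ZMod 2, b.toDual v c = ∑ i, v i * c i := by
    intro v c
    have hc : c = ∑ i, c i • b i := by
      funext j
      simp [b, Finset.sum_apply, Pi.single_apply]
    conv_lhs => rw [hc]
    rw [map_sum]
    refine Finset.sum_congr rfl fun i _ => ?_
    rw [map_smul, Basis.toDual_apply_left, smul_eq_mul, mul_comm]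
    simp [b]
  have hle : C.map b.toDual ≤ C.dualAnnihilator := by
    rintro _ ⟨v, hv, rfl⟩
    rw [Submodule.mem_dualAnnihilator]
    intro c hc
    rw [hdual]
    exact horth v hv c hc
  have h1 : finrank (ZMod 2) (C.map b.toDual) = finrank (ZMod 2) C :=
    (Submodule.equivMapOfInjective b.toDual b.toDual_injective C).finrank_eq.symm
  have h2 := Submodule.finrank_mono hle
  have h3 := Subspace.finrank_add_finrank_dualAnnihilator_eq C
  have h4 : finrank (ZMod 2) (Fin n → ZMod 2) = n := by simp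
  omega

section
variable {Λ : AddSubgroup (Fin 24 → ℤ)}

/-- the odd vectors of sum of squares 32 -/
theorem odd_bound (_h : LeechLike Λ) :
    {y : Fin 24 → ℤ | y ∈ Λ ∧ sqNorm y = 32 ∧ ∀ i, ¬ (2 : ℤ) ∣ y i}.ncard ≤
      24 * Nat.card (codeC Λ) := by
  classical
  by_cases hne : {y : Fin 24 → ℤ | y ∈ Λ ∧ sqNorm y = 32 ∧ ∀ i, ¬ (2 : ℤ) ∣ y i}.Nonempty
  swap
  · rw [Set.not_nonempty_iff_eq_empty.mp hne, Set.ncard_empty]
    exact Nat.zero_le _
  obtain ⟨y0, hy0, -, hodd0⟩ := hne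
  let Ψ : Fin 24 × codeC Λ → (Fin 24 → ℤ) := fun p j =>
    if j = p.1 then (if (y0 j + tw p.2.1 j) % 4 = 3 then 3 else -3)
    else (if (y0 j + tw p.2.1 j) % 4 = 1 then 1 else -1)
  have hsub : {y : Fin 24 → ℤ | y ∈ Λ ∧ sqNorm y = 32 ∧ ∀ i, ¬ (2 : ℤ) ∣ y i} ⊆ Set.range Ψ := by
    rintro y ⟨hy, hn, hodd⟩
    obtain ⟨i, hi, hrest⟩ := odd_shape y hodd hn
    have hev : ∀ j, (2 : ℤ) ∣ (y - y0) j := by
      intro j
      have h1 := hodd j
      have h2 := hodd0 j
      rw [Pi.sub_apply]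
      omega
    refine ⟨(i, ⟨rho (y - y0), rho_mem (Λ.sub_mem hy hy0) hev⟩), ?_⟩
    funext j
    show (if j = i then (if (y0 j + tw (rho (y - y0)) j) % 4 = 3 then 3 else -3)
      else (if (y0 j + tw (rho (y - y0)) j) % 4 = 1 then 1 else -1)) = y j
    rw [tw_rho, Pi.sub_apply]
    have h1 := hodd j
    have h2 := hodd0 j
    have h3 := hrest j
    by_cases hj : j = i
    · rw [if_pos hj]
      rw [← hj] at hi
      split_ifs <;> omega
    · rw [if_neg hj]
      have h4 := h3 hj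
      split_ifs <;> omega
  calc {y : Fin 24 → ℤ | y ∈ Λ ∧ sqNorm y = 32 ∧ ∀ i, ¬ (2 : ℤ) ∣ y i}.ncard
      ≤ (Set.range Ψ).ncard := Set.ncard_le_ncard hsub (Set.finite_range Ψ)
    _ ≤ Nat.card (Fin 24 × codeC Λ) := by
        rw [← Set.image_univ]
        refine (Set.ncard_image_le Set.finite_univ).trans ?_
        rw [Set.ncard_univ]
    _ = 24 * Nat.card (codeC Λ) := by rw [Nat.card_prod, Nat.card_fin]

/-- the vectors of sum of squares 32 with all entries divisible by 4 -/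
theorem four_bound :
    {y : Fin 24 → ℤ | sqNorm y = 32 ∧ ∀ i, (4 : ℤ) ∣ y i}.ncard ≤ 2304 := by
  classical
  let Φ : (Fin 24 × Fin 24) × (Bool × Bool) → (Fin 24 → ℤ) := fun q =>
    Pi.single q.1.1 (if q.2.1 then 4 else -4) + Pi.single q.1.2 (if q.2.2 then 4 else -4)
  have hsub : {y : Fin 24 → ℤ | sqNorm y = 32 ∧ ∀ i, (4 : ℤ) ∣ y i} ⊆ Set.range Φ := by
    rintro y ⟨hn, h4⟩
    obtain ⟨i, j, -, a, b, ha, hb, rfl⟩ := four_shape y h4 hn
    refine ⟨((i, j), (decide (a = 4), decide (b = 4))), ?_⟩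
    show Pi.single i (if decide (a = 4) then 4 else -4) +
      Pi.single j (if decide (b = 4) then 4 else -4) = _
    rcases ha with rfl | rfl <;> rcases hb with rfl | rfl <;> simp
  calc {y : Fin 24 → ℤ | sqNorm y = 32 ∧ ∀ i, (4 : ℤ) ∣ y i}.ncard
      ≤ (Set.range Φ).ncard := Set.ncard_le_ncard hsub (Set.finite_range Φ)
    _ ≤ Nat.card ((Fin 24 × Fin 24) × (Bool × Bool)) := by
        rw [← Set.image_univ]
        refine (Set.ncard_image_le Set.finite_univ).trans ?_
        rw [Set.ncard_univ]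
    _ = 2304 := by
        rw [Nat.card_prod, Nat.card_prod, Nat.card_prod, Nat.card_fin, Nat.card_eq_fintype_card,
          Fintype.card_bool]

/-- support of a word -/
def supp (w : Fin 24 → ZMod 2) : Finset (Fin 24) := Finset.univ.filter fun i => w i ≠ 0

theorem mem_supp (w : Fin 24 → ZMod 2) (i : Fin 24) : i ∈ supp w ↔ w i ≠ 0 := by
  unfold supp
  rw [Finset.mem_filter]
  exact ⟨fun h => h.2, fun h => ⟨Finset.mem_univ i, h⟩⟩

theorem card_supp (w : Fin 24 → ZMod 2) : (supp w).card = hammingNorm w := rfl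

/-- a chosen point of the support -/
noncomputable def piv (w : Fin 24 → ZMod 2) : Fin 24 :=
  if h : ∃ i, w i ≠ 0 then h.choose else 0

theorem piv_mem {w : Fin 24 → ZMod 2} (hw : w ≠ 0) : w (piv w) ≠ 0 := by
  have h : ∃ i, w i ≠ 0 := by
    by_contra hcon
    push Not at hcon
    exact hw (funext hcon)
  unfold piv
  rw [dif_pos h]
  exact h.choose_spec

/-- the words of weight 8 -/
noncomputable def O8 (Λ : AddSubgroup (Fin 24 → ℤ)) : Finset (Fin 24 → ZMod 2) := by
  classical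
  exact Finset.univ.filter fun w => w ∈ codeC Λ ∧ hammingNorm w = 8

theorem mem_O8 (w : Fin 24 → ZMod 2) : w ∈ O8 Λ ↔ w ∈ codeC Λ ∧ hammingNorm w = 8 := by
  classical
  unfold O8
  rw [Finset.mem_filter]
  exact ⟨fun h => h.2, fun h => ⟨Finset.mem_univ w, h⟩⟩

/-- the even vectors of sum of squares 32 with an entry not divisible by 4 -/
theorem two_bound (h : LeechLike Λ) :
    {y : Fin 24 → ℤ | y ∈ Λ ∧ sqNorm y = 32 ∧ (∀ i, (2 : ℤ) ∣ y i) ∧ ¬ ∀ i, (4 : ℤ) ∣ y i}.ncard ≤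
      128 * (O8 Λ).card := by
  classical
  let neg : (Fin 24 → ℤ) → Finset (Fin 24) := fun y => Finset.univ.filter fun i => y i < 0
  let f : (Fin 24 → ℤ) → (Fin 24 → ZMod 2) × Finset (Fin 24) := fun y =>
    (rho y, (neg y).erase (piv (rho y)))
  let T : Finset ((Fin 24 → ZMod 2) × Finset (Fin 24)) :=
    (O8 Λ).biUnion fun w => ((supp w).erase (piv w)).powerset.image fun S => (w, S)
  have hT : T.card ≤ 128 * (O8 Λ).card := by
    refine Finset.card_biUnion_le.trans ?_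
    rw [mul_comm]
    refine (Finset.sum_le_card_nsmul _ _ 128 ?_).trans (le_of_eq (smul_eq_mul _ _))
    intro w hw
    refine Finset.card_image_le.trans ?_
    rw [Finset.card_powerset]
    have hw8 := ((mem_O8 w).mp hw).2
    have hw0 : w ≠ 0 := by
      rintro rfl
      rw [hammingNorm_zero] at hw8
      norm_num at hw8
    rw [Finset.card_erase_of_mem ((mem_supp w _).mpr (piv_mem hw0)), card_supp, hw8]
    norm_num
  have hmaps : ∀ y ∈ {y : Fin 24 → ℤ | y ∈ Λ ∧ sqNorm y = 32 ∧ (∀ i, (2 : ℤ) ∣ y i) ∧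
      ¬ ∀ i, (4 : ℤ) ∣ y i}, f y ∈ (T : Set _) := by
    rintro y ⟨hy, hn, hev, hn4⟩
    obtain ⟨h8, hsh⟩ := two_shape h hy hev hn4 hn
    rw [Finset.mem_coe, Finset.mem_biUnion]
    refine ⟨rho y, (mem_O8 _).mpr ⟨rho_mem hy hev, h8⟩, ?_⟩
    rw [Finset.mem_image]
    refine ⟨(neg y).erase (piv (rho y)), ?_, rfl⟩
    rw [Finset.mem_powerset]
    intro i hi
    rw [Finset.mem_erase] at hi ⊢
    refine ⟨hi.1, (mem_supp _ _).mpr fun h0 => ?_⟩
    have h1 := (hsh i).2 h0
    have h2 : y i < 0 := (Finset.mem_filter.mp hi.2).2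
    omega
  have hinj : Set.InjOn f {y : Fin 24 → ℤ | y ∈ Λ ∧ sqNorm y = 32 ∧ (∀ i, (2 : ℤ) ∣ y i) ∧
      ¬ ∀ i, (4 : ℤ) ∣ y i} := by
    rintro y ⟨hy, hn, hev, hn4⟩ y' ⟨hy', hn', hev', hn4'⟩ hff
    obtain ⟨h8, hsh⟩ := two_shape h hy hev hn4 hn
    obtain ⟨h8', hsh'⟩ := two_shape h hy' hev' hn4' hn'
    have hr : rho y = rho y' := congrArg Prod.fst hff
    have hS : (neg y).erase (piv (rho y)) = (neg y').erase (piv (rho y')) := congrArg Prod.snd hff
    rw [← hr] at hS hsh'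
    have hw0 : rho y ≠ 0 := by
      intro h0
      rw [h0, hammingNorm_zero] at h8
      norm_num at h8
    have hagree : ∀ i, i ≠ piv (rho y) → y i = y' i := by
      intro i hi
      by_cases hwi : rho y i = 0
      · rw [(hsh i).2 hwi, (hsh' i).2 hwi]
      · have h1 := (hsh i).1 hwi
        have h2 := (hsh' i).1 hwi
        have h3 : i ∈ (neg y).erase (piv (rho y)) ↔ i ∈ (neg y').erase (piv (rho y)) := by rw [hS]
        rw [Finset.mem_erase, Finset.mem_erase] at h3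
        have h4 : y i < 0 ↔ y' i < 0 := by
          constructor
          · intro hlt
            exact (Finset.mem_filter.mp (h3.mp ⟨hi, Finset.mem_filter.mpr ⟨Finset.mem_univ i, hlt⟩⟩).2).2
          · intro hlt
            exact (Finset.mem_filter.mp (h3.mpr ⟨hi, Finset.mem_filter.mpr ⟨Finset.mem_univ i, hlt⟩⟩).2).2
        omega
    by_cases hp : y (piv (rho y)) = y' (piv (rho y))
    · funext i
      by_cases hi : i = piv (rho y)
      · rw [hi]; exact hp
      · exact hagree i hi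
    · exfalso
      have h1 := (hsh _).1 (piv_mem hw0)
      have h2 := (hsh' _).1 (piv_mem hw0)
      have hcase : y (piv (rho y)) - y' (piv (rho y)) = 4 ∨ y' (piv (rho y)) - y (piv (rho y)) = 4 := by
        omega
      rcases hcase with hc | hc
      · have hm := Λ.sub_mem hy hy'
        have e : y - y' = Pi.single (piv (rho y)) 4 := by
          funext i
          rw [Pi.sub_apply]
          by_cases hi : i = piv (rho y)
          · rw [hi, Pi.single_eq_same]; exact hc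
          · rw [Pi.single_eq_of_ne hi, hagree i hi, sub_self]
        rw [e] at hm
        exact single4_not_mem h _ hm
      · have hm := Λ.sub_mem hy' hy
        have e : y' - y = Pi.single (piv (rho y)) 4 := by
          funext i
          rw [Pi.sub_apply]
          by_cases hi : i = piv (rho y)
          · rw [hi, Pi.single_eq_same]; exact hc
          · rw [Pi.single_eq_of_ne hi, hagree i hi, sub_self]
        rw [e] at hm
        exact single4_not_mem h _ hm
  calc _ ≤ (T : Set ((Fin 24 → ZMod 2) × Finset (Fin 24))).ncard :=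
        Set.ncard_le_ncard_of_injOn f hmaps hinj (Finset.finite_toSet T)
    _ = T.card := Set.ncard_coe_finset T
    _ ≤ 128 * (O8 Λ).card := hT

/-- at most 759 words of weight 8 -/
theorem card_O8_le (h : LeechLike Λ) : (O8 Λ).card ≤ 759 := by
  classical
  have hdisj : ((O8 Λ : Finset (Fin 24 → ZMod 2)) : Set (Fin 24 → ZMod 2)).PairwiseDisjoint
      fun w => (supp w).powersetCard 5 := by
    intro w hw w' hw' hne
    rw [Function.onFun, Finset.disjoint_left]
    intro S hS hS'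
    rw [Finset.mem_powersetCard] at hS hS'
    obtain ⟨hwC, hw8⟩ := (mem_O8 w).mp hw
    obtain ⟨hwC', hw8'⟩ := (mem_O8 w').mp hw'
    have h5 : 5 ≤ (supp w ∩ supp w').card := by
      rw [← hS.2]
      exact Finset.card_le_card (Finset.subset_inter hS.1 hS'.1)
    have h1 := Cfsg.Agent.Helper93.wt_add_add w w'
    have hsum0 : w + w' ≠ 0 := by
      intro h0
      apply hne
      have : w = -w' := eq_neg_of_add_eq_zero_left h0
      rw [this]
      funext i
      rw [Pi.neg_apply]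
      exact ZMod.neg_eq_self_mod_two (w' i)
    have h2 := (weight_codeC h ((codeC Λ).add_mem hwC hwC') hsum0).2
    have h3 : (supp w ∩ supp w').card =
        ((Finset.univ.filter fun i => w i ≠ 0) ∩ (Finset.univ.filter fun i => w' i ≠ 0)).card := rfl
    omega
  have hcard := Finset.card_biUnion hdisj
  have hsub : (O8 Λ).biUnion (fun w => (supp w).powersetCard 5) ⊆
      (Finset.univ : Finset (Fin 24)).powersetCard 5 := by
    intro S hS
    rw [Finset.mem_biUnion] at hS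
    obtain ⟨w, -, hS⟩ := hS
    rw [Finset.mem_powersetCard] at hS ⊢
    exact ⟨Finset.subset_univ S, hS.2⟩
  have hle := Finset.card_le_card hsub
  rw [hcard, Finset.card_powersetCard, Finset.card_univ, Fintype.card_fin] at hle
  have h56 : ∑ w ∈ O8 Λ, ((supp w).powersetCard 5).card = (O8 Λ).card * 56 := by
    rw [Finset.sum_const_nat]
    intro w hw
    rw [Finset.card_powersetCard, card_supp, ((mem_O8 w).mp hw).2]
    rfl
  rw [h56] at hle
  have : Nat.choose 24 5 = 42504 := by decide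
  omega

/-- the count, split into the three kinds of vectors -/
theorem count_split (h : LeechLike Λ) :
    196560 ≤ {y : Fin 24 → ℤ | y ∈ Λ ∧ sqNorm y = 32 ∧ ∀ i, ¬ (2 : ℤ) ∣ y i}.ncard + 99456 := by
  classical
  have hfin : {y : Fin 24 → ℤ | y ∈ Λ ∧ sqNorm y = 32}.Finite :=
    Set.finite_of_ncard_ne_zero (by rw [h.count]; norm_num)
  have hsub : {y : Fin 24 → ℤ | y ∈ Λ ∧ sqNorm y = 32} ⊆
      ({y : Fin 24 → ℤ | y ∈ Λ ∧ sqNorm y = 32 ∧ ∀ i, ¬ (2 : ℤ) ∣ y i} ∪
        {y : Fin 24 → ℤ | sqNorm y = 32 ∧ ∀ i, (4 : ℤ) ∣ y i}) ∪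
        {y : Fin 24 → ℤ | y ∈ Λ ∧ sqNorm y = 32 ∧ (∀ i, (2 : ℤ) ∣ y i) ∧ ¬ ∀ i, (4 : ℤ) ∣ y i} := by
    rintro y ⟨hy, hn⟩
    by_cases h0 : (2 : ℤ) ∣ y 0
    · have hev : ∀ i, (2 : ℤ) ∣ y i := by
        intro i
        have := parity h hy i 0
        omega
      by_cases h4 : ∀ i, (4 : ℤ) ∣ y i
      · exact Or.inl (Or.inr ⟨hn, h4⟩)
      · exact Or.inr ⟨hy, hn, hev, h4⟩
    · have hodd : ∀ i, ¬ (2 : ℤ) ∣ y i := by
        intro i
        have := parity h hy i 0
        omega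
      exact Or.inl (Or.inl ⟨hy, hn, hodd⟩)
  have hfin1 : {y : Fin 24 → ℤ | y ∈ Λ ∧ sqNorm y = 32 ∧ ∀ i, ¬ (2 : ℤ) ∣ y i}.Finite :=
    hfin.subset fun y hy => ⟨hy.1, hy.2.1⟩
  have hfin3 : {y : Fin 24 → ℤ | y ∈ Λ ∧ sqNorm y = 32 ∧ (∀ i, (2 : ℤ) ∣ y i) ∧
      ¬ ∀ i, (4 : ℤ) ∣ y i}.Finite := hfin.subset fun y hy => ⟨hy.1, hy.2.1⟩
  have hfin2 : {y : Fin 24 → ℤ | sqNorm y = 32 ∧ ∀ i, (4 : ℤ) ∣ y i}.Finite := by
    refine (Set.finite_range (fun q : (Fin 24 × Fin 24) × (Bool × Bool) =>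
      (Pi.single q.1.1 (if q.2.1 then 4 else -4) + Pi.single q.1.2 (if q.2.2 then 4 else -4) :
        Fin 24 → ℤ))).subset ?_
    rintro y ⟨hn, h4⟩
    obtain ⟨i, j, -, a, b, ha, hb, rfl⟩ := four_shape y h4 hn
    refine ⟨((i, j), (decide (a = 4), decide (b = 4))), ?_⟩
    show Pi.single i (if decide (a = 4) then 4 else -4) +
      Pi.single j (if decide (b = 4) then 4 else -4) = _
    rcases ha with rfl | rfl <;> rcases hb with rfl | rfl <;> simp
  have h1 := Set.ncard_le_ncard hsub ((hfin1.union hfin2).union hfin3)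
  have h2 := Set.ncard_union_le
    ({y : Fin 24 → ℤ | y ∈ Λ ∧ sqNorm y = 32 ∧ ∀ i, ¬ (2 : ℤ) ∣ y i} ∪
        {y : Fin 24 → ℤ | sqNorm y = 32 ∧ ∀ i, (4 : ℤ) ∣ y i})
    {y : Fin 24 → ℤ | y ∈ Λ ∧ sqNorm y = 32 ∧ (∀ i, (2 : ℤ) ∣ y i) ∧ ¬ ∀ i, (4 : ℤ) ∣ y i}
  have h3 := Set.ncard_union_le
    {y : Fin 24 → ℤ | y ∈ Λ ∧ sqNorm y = 32 ∧ ∀ i, ¬ (2 : ℤ) ∣ y i}
    {y : Fin 24 → ℤ | sqNorm y = 32 ∧ ∀ i, (4 : ℤ) ∣ y i}
  have h5 := four_bound
  have h6 := two_bound h
  have h7 := card_O8_le h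
  rw [h.count] at h1
  omega

/-- the code has 4096 words -/
theorem finrank_codeC (h : LeechLike Λ) : finrank (ZMod 2) (codeC Λ) = 12 := by
  classical
  have hle : 2 * finrank (ZMod 2) (codeC Λ) ≤ 24 := selfOrth_finrank_le (codeC Λ) (codeC_orth h)
  have hcard : Nat.card (codeC Λ) = 2 ^ finrank (ZMod 2) (codeC Λ) := by
    rw [Module.natCard_eq_pow_finrank (K := ZMod 2) (V := codeC Λ), Nat.card_zmod]
  have h1 := count_split h
  have h4 := odd_bound h
  have hbig : 4046 ≤ Nat.card (codeC Λ) := by omega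
  rw [hcard] at hbig
  by_contra hne
  have hlt : finrank (ZMod 2) (codeC Λ) ≤ 11 := by omega
  have := Nat.pow_le_pow_right (show 0 < 2 by norm_num) hlt
  omega

/-- an odd vector exists -/
theorem exists_odd (h : LeechLike Λ) :
    ∃ y0 ∈ Λ, sqNorm y0 = 32 ∧ ∀ i, ¬ (2 : ℤ) ∣ y0 i := by
  by_contra hcon
  have hempty : {y : Fin 24 → ℤ | y ∈ Λ ∧ sqNorm y = 32 ∧ ∀ i, ¬ (2 : ℤ) ∣ y i} = ∅ := by
    rw [Set.eq_empty_iff_forall_notMem]
    rintro y ⟨hy, hn, hodd⟩
    exact hcon ⟨y, hy, hn, hodd⟩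
  have h1 := count_split h
  rw [hempty, Set.ncard_empty] at h1
  omega

end

end Cfsg.Agent.Helper92.LeechChar
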