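import Cfsg.Agent.S0375
import Cfsg.Agent.S0394
import Cfsg.Agent.S1567
import Cfsg.Agent.Helper92.LeechCharCount

/-!
# Conway's characterisation, part D: identification with the Leech lattice

A `LeechLike` lattice has a code of dimension 12, which is the Golay code after relabelling the
coordinates by `GolayPt`; after a change of signs of the coordinates (so that one odd vector becomes
congruent to 1 modulo 4 everywhere) the lattice lies in `leechLattice`, and fills it because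
`leechLattice` is generated by its 196560 shortest vectors.
-/

set_option autoImplicit false

namespace Cfsg.Agent.Helper92.LeechChar

open Cfsg

section
variable {Λ : AddSubgroup (Fin 24 → ℤ)}

/-- residue classes modulo 4 of an even vector are words of the code -/
theorem res_mem (h1 : (1 : Fin 24 → ZMod 2) ∈ codeC Λ) {z : Fin 24 → ℤ} (hz : z ∈ Λ)
    (hev : ∀ i, (2 : ℤ) ∣ z i) (c : ℤ) :
    (fun i => if z i % 4 = c then (1 : ZMod 2) else 0) ∈ codeC Λ := by
  have hr := rho_mem hz hev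
  have hz2 : ∀ a : ZMod 2, a ≠ 0 → a = 1 := by decide
  have hrho : ∀ i, rho z i = if z i % 4 = 2 then (1 : ZMod 2) else 0 := by
    intro i
    have h2 := hev i
    by_cases h4 : z i % 4 = 2
    · rw [if_pos h4]
      have : rho z i ≠ 0 := (rho_ne_zero_iff hev i).mpr (by omega)
      exact hz2 _ this
    · rw [if_neg h4]
      by_contra hne
      exact (rho_ne_zero_iff hev i).mp hne (by omega)
  by_cases hc2 : c = 2
  · subst hc2
    have e : (fun i => if z i % 4 = 2 then (1 : ZMod 2) else 0) = rho z := by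
      funext i
      exact (hrho i).symm
    rw [e]
    exact hr
  by_cases hc0 : c = 0
  · subst hc0
    have e : (fun i => if z i % 4 = 0 then (1 : ZMod 2) else 0) = 1 + rho z := by
      funext i
      rw [Pi.add_apply, Pi.one_apply, hrho i]
      have h2 := hev i
      by_cases h4 : z i % 4 = 2
      · rw [if_pos h4, if_neg (by omega)]
        decide
      · rw [if_neg h4, if_pos (by omega), add_zero]
    rw [e]
    exact (codeC Λ).add_mem h1 hr
  · have e : (fun i => if z i % 4 = c then (1 : ZMod 2) else 0) = 0 := by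
      funext i
      have h2 := hev i
      rw [if_neg (by omega)]
      rfl
    rw [e]
    exact (codeC Λ).zero_mem

/-- the sign making an odd entry congruent to 1 modulo 4 -/
def eps (y0 : Fin 24 → ℤ) (i : Fin 24) : ℤ := if y0 i % 4 = 1 then 1 else -1

theorem eps_cases (y0 : Fin 24 → ℤ) (i : Fin 24) : eps y0 i = 1 ∨ eps y0 i = -1 := by
  unfold eps
  split_ifs
  · exact Or.inl rfl
  · exact Or.inr rfl

theorem eps_sq (y0 : Fin 24 → ℤ) (i : Fin 24) : eps y0 i * eps y0 i = 1 := by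
  rcases eps_cases y0 i with h | h <;> rw [h] <;> norm_num

/-- classes modulo 4 of the sign-normalised vector -/
theorem cls_mem (h : LeechLike Λ) (h1 : (1 : Fin 24 → ZMod 2) ∈ codeC Λ) {y0 : Fin 24 → ℤ}
    (hy0 : y0 ∈ Λ) (hodd0 : ∀ i, ¬ (2 : ℤ) ∣ y0 i) {y : Fin 24 → ℤ} (hy : y ∈ Λ) (k : ℤ) :
    (fun i => if (eps y0 i * y i) % 4 = k % 4 then (1 : ZMod 2) else 0) ∈ codeC Λ := by
  by_cases h0 : (2 : ℤ) ∣ y 0
  · have hev : ∀ i, (2 : ℤ) ∣ y i := by
      intro i
      have := parity h hy i 0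
      omega
    have e : (fun i => if (eps y0 i * y i) % 4 = k % 4 then (1 : ZMod 2) else 0) =
        fun i => if y i % 4 = k % 4 then (1 : ZMod 2) else 0 := by
      funext i
      have h2 := hev i
      have : (eps y0 i * y i) % 4 = y i % 4 := by
        rcases eps_cases y0 i with he | he <;> rw [he] <;> omega
      rw [this]
    rw [e]
    exact res_mem h1 hy hev _
  · have hodd : ∀ i, ¬ (2 : ℤ) ∣ y i := by
      intro i
      have := parity h hy i 0
      omega
    have hev : ∀ i, (2 : ℤ) ∣ (y - y0) i := by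
      intro i
      have h2 := hodd i
      have h3 := hodd0 i
      rw [Pi.sub_apply]
      omega
    have e : (fun i => if (eps y0 i * y i) % 4 = k % 4 then (1 : ZMod 2) else 0) =
        fun i => if (y - y0) i % 4 = (k - 1) % 4 then (1 : ZMod 2) else 0 := by
      funext i
      have h2 := hodd i
      have h3 := hodd0 i
      refine if_congr ?_ rfl rfl
      rw [Pi.sub_apply]
      unfold eps
      split_ifs with hc
      · omega
      · omega
    rw [e]
    exact res_mem h1 (Λ.sub_mem hy hy0) hev _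

end

/-- the relabelling with signs -/
def Tmap (e : Fin 24 ≃ GolayPt) (y0 : Fin 24 → ℤ) : (Fin 24 → ℤ) →+ (GolayPt → ℤ) where
  toFun y p := eps y0 (e.symm p) * y (e.symm p)
  map_zero' := by
    funext p
    simp
  map_add' := by
    intro y y'
    funext p
    simp [mul_add]

theorem Tmap_apply (e : Fin 24 ≃ GolayPt) (y0 y : Fin 24 → ℤ) (p : GolayPt) :
    Tmap e y0 y p = eps y0 (e.symm p) * y (e.symm p) := rfl

theorem Tmap_injective (e : Fin 24 ≃ GolayPt) (y0 : Fin 24 → ℤ) :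
    Function.Injective (Tmap e y0) := by
  intro y y' hyy
  funext i
  have := congrFun hyy (e i)
  rw [Tmap_apply, Tmap_apply, e.symm_apply_apply] at this
  rcases eps_cases y0 i with he | he <;> rw [he] at this <;> linarith

theorem sum_Tmap (e : Fin 24 ≃ GolayPt) (y0 y : Fin 24 → ℤ) :
    ∑ p, Tmap e y0 y p = ∑ i, eps y0 i * y i := by
  simp only [Tmap_apply]
  exact Equiv.sum_comp e.symm (fun i => eps y0 i * y i)

theorem sqNorm_Tmap (e : Fin 24 ≃ GolayPt) (y0 y : Fin 24 → ℤ) :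
    sqNorm (Tmap e y0 y) = sqNorm y := by
  unfold sqNorm
  simp only [Tmap_apply]
  rw [Equiv.sum_comp e.symm (fun i => (eps y0 i * y i) ^ 2)]
  refine Finset.sum_congr rfl fun i _ => ?_
  rw [mul_pow, pow_two (eps y0 i), eps_sq, one_mul]

theorem sum_eps {y0 : Fin 24 → ℤ} {i0 : Fin 24} (hi0 : y0 i0 = 3 ∨ y0 i0 = -3)
    (hrest : ∀ j, j ≠ i0 → (y0 j = 1 ∨ y0 j = -1)) (y : Fin 24 → ℤ) :
    ∑ i, eps y0 i * y i = dotInt y y0 + 4 * (eps y0 i0 * y i0) := by
  classical
  unfold dotInt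
  have hterm : ∀ i, eps y0 i * y i =
      y i * y0 i + (if i = i0 then 4 * (eps y0 i0 * y i0) else 0) := by
    intro i
    by_cases hi : i = i0
    · subst hi
      rw [if_pos rfl]
      unfold eps
      rcases hi0 with h3 | h3 <;> rw [h3] <;> norm_num <;> ring
    · rw [if_neg hi, add_zero]
      unfold eps
      rcases hrest i hi with h1 | h1 <;> rw [h1] <;> norm_num
  rw [Finset.sum_congr rfl fun i _ => hterm i, Finset.sum_add_distrib,
    Finset.sum_ite_eq' Finset.univ i0, if_pos (Finset.mem_univ _)]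

section
variable {Λ : AddSubgroup (Fin 24 → ℤ)}

theorem Tmap_mem_leechSet (h : LeechLike Λ) (e : Fin 24 ≃ GolayPt)
    (he : ∀ w : GolayPt → ZMod 2, w ∈ golayCode ↔ (fun i => w (e i)) ∈ codeC Λ)
    {y0 : Fin 24 → ℤ} (hy0 : y0 ∈ Λ) (hn0 : sqNorm y0 = 32) (hodd0 : ∀ i, ¬ (2 : ℤ) ∣ y0 i)
    {y : Fin 24 → ℤ} (hy : y ∈ Λ) : Tmap e y0 y ∈ leechSet := by
  classical
  have h1 : (1 : Fin 24 → ZMod 2) ∈ codeC Λ := by
    have : (1 : GolayPt → ZMod 2) ∈ golayCode := Submodule.subset_span (Or.inr rfl)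
    exact (he 1).mp this
  obtain ⟨i0, hi0, hrest⟩ := odd_shape y0 hodd0 hn0
  refine ⟨y 0, ?_, ?_, ?_⟩
  · intro p
    rw [Tmap_apply]
    have := parity h hy (e.symm p) 0
    unfold Int.ModEq
    rcases eps_cases y0 (e.symm p) with hε | hε <;> rw [hε] <;> omega
  · rw [sum_Tmap, sum_eps hi0 hrest]
    have h8 := h.dot8 y hy y0 hy0
    have hp := parity h hy i0 0
    unfold Int.ModEq
    rcases eps_cases y0 i0 with hε | hε <;> rw [hε] <;> omega
  · intro k
    unfold supports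
    rw [Set.mem_image]
    refine ⟨fun p => if (Tmap e y0 y p) % 4 = k % 4 then (1 : ZMod 2) else 0, ?_, ?_⟩
    · rw [SetLike.mem_coe, he]
      have e2 : (fun i => (fun p => if (Tmap e y0 y p) % 4 = k % 4 then (1 : ZMod 2) else 0) (e i)) =
          fun i => if (eps y0 i * y i) % 4 = k % 4 then (1 : ZMod 2) else 0 := by
        funext i
        simp only [Tmap_apply, Equiv.symm_apply_apply]
      rw [e2]
      exact cls_mem h h1 hy0 hodd0 hy k
    · unfold support₂
      refine Finset.filter_congr fun p _ => ?_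
      show (if (Tmap e y0 y p) % 4 = k % 4 then (1 : ZMod 2) else 0) ≠ 0 ↔ _
      by_cases hc : (Tmap e y0 y p) % 4 = k % 4
      · rw [if_pos hc]
        exact ⟨fun _ => hc, fun _ => one_ne_zero⟩
      · rw [if_neg hc]
        exact ⟨fun h' => absurd rfl h', fun h' => absurd h' hc⟩

/-- the relabelled lattice is the Leech lattice -/
theorem map_Tmap_eq (h : LeechLike Λ) (e : Fin 24 ≃ GolayPt)
    (he : ∀ w : GolayPt → ZMod 2, w ∈ golayCode ↔ (fun i => w (e i)) ∈ codeC Λ)
    {y0 : Fin 24 → ℤ} (hy0 : y0 ∈ Λ) (hn0 : sqNorm y0 = 32) (hodd0 : ∀ i, ¬ (2 : ℤ) ∣ y0 i) :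
    Λ.map (Tmap e y0) = leechLattice := by
  have hmem : ∀ y ∈ Λ, Tmap e y0 y ∈ leechLattice := fun y hy =>
    AddSubgroup.subset_closure (Tmap_mem_leechSet h e he hy0 hn0 hodd0 hy)
  apply le_antisymm
  · rintro _ ⟨y, hy, rfl⟩
    exact hmem y hy
  · have himg : Tmap e y0 '' {y : Fin 24 → ℤ | y ∈ Λ ∧ sqNorm y = 32} ⊆
        {x : GolayPt → ℤ | x ∈ leechLattice ∧ sqNorm x = 32} := by
      rintro _ ⟨y, ⟨hy, hn⟩, rfl⟩
      exact ⟨hmem y hy, by rw [sqNorm_Tmap]; exact hn⟩
    have hfin : {x : GolayPt → ℤ | x ∈ leechLattice ∧ sqNorm x = 32}.Finite :=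
      Set.finite_of_ncard_ne_zero (by rw [Cfsg.Agent.S0394.result]; norm_num)
    have hcard : {x : GolayPt → ℤ | x ∈ leechLattice ∧ sqNorm x = 32}.ncard ≤
        (Tmap e y0 '' {y : Fin 24 → ℤ | y ∈ Λ ∧ sqNorm y = 32}).ncard := by
      rw [Set.ncard_image_of_injective _ (Tmap_injective e y0), h.count, Cfsg.Agent.S0394.result]
    have heq := Set.eq_of_subset_of_ncard_le himg hcard hfin
    have hcl := Cfsg.Agent.S1567.result
    rw [← hcl, AddSubgroup.closure_le]
    intro x hx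
    rw [← heq] at hx
    obtain ⟨y, ⟨hy, -⟩, rfl⟩ := hx
    exact ⟨y, hy, rfl⟩

end

open Matrix in
/-- Conway's characterisation of the Leech lattice -/
theorem leech_char (B : Matrix (Fin 24) (Fin 24) ℤ) (hsymm : B.IsSymm)
    (hpos : ∀ x : Fin 24 → ℤ, x ≠ 0 → 0 < x ⬝ᵥ (B *ᵥ x))
    (heven : ∀ x : Fin 24 → ℤ, (2 : ℤ) ∣ x ⬝ᵥ (B *ᵥ x))
    (h2 : ∀ x : Fin 24 → ℤ, x ⬝ᵥ (B *ᵥ x) ≠ 2)
    (h4 : {x : Fin 24 → ℤ | x ⬝ᵥ (B *ᵥ x) = 4}.ncard = 196560)
    (h6 : {x : Fin 24 → ℤ | x ⬝ᵥ (B *ᵥ x) = 6}.ncard = 16773120)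
    (h8 : {x : Fin 24 → ℤ | x ⬝ᵥ (B *ᵥ x) = 8}.ncard = 398034000) :
    ∃ f : (Fin 24 → ℤ) ≃+ leechLattice, ∀ x : Fin 24 → ℤ,
      sqNorm ((f x : leechLattice) : GolayPt → ℤ) = 8 * (x ⬝ᵥ (B *ᵥ x)) := by
  obtain ⟨φ, hinj, hN, hL⟩ := exists_coord B hsymm hpos heven h2 h4 h6 h8
  have hdim := finrank_codeC hL
  obtain ⟨e, he⟩ := Cfsg.Agent.S0375.result (codeC (AddMonoidHom.range φ)) hdim (codeC_orth hL)
    (codeC_four_dvd hL) (codeC_ne_four hL)
  obtain ⟨y0, hy0, hn0, hodd0⟩ := exists_odd hL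
  have hmap := map_Tmap_eq hL e he hy0 hn0 hodd0
  have hmem : ∀ x, (Tmap e y0).comp φ x ∈ leechLattice := by
    intro x
    rw [← hmap]
    exact ⟨φ x, ⟨x, rfl⟩, rfl⟩
  let g : (Fin 24 → ℤ) →+ leechLattice := ((Tmap e y0).comp φ).codRestrict leechLattice hmem
  have hg : ∀ x, ((g x : leechLattice) : GolayPt → ℤ) = Tmap e y0 (φ x) := fun x => rfl
  have hbij : Function.Bijective g := by
    constructor
    · intro x x' hxx
      have := congrArg (fun z : leechLattice => (z : GolayPt → ℤ)) hxx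
      simp only [hg] at this
      exact hinj (Tmap_injective e y0 this)
    · rintro ⟨z, hz⟩
      rw [← hmap] at hz
      obtain ⟨y, ⟨x, rfl⟩, hyz⟩ := hz
      exact ⟨x, Subtype.ext hyz⟩
  refine ⟨AddEquiv.ofBijective g hbij, fun x => ?_⟩
  show sqNorm ((g x : leechLattice) : GolayPt → ℤ) = _
  rw [hg, sqNorm_Tmap, hN]

end Cfsg.Agent.Helper92.LeechChar
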