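import Mathlib
import Cfsg.Agent.S1587
import Cfsg.Agent.S1588

/-!
# Conway's characterisation of the rank-24 lattice, part A: a frame and its coordinates

For an even positive definite form `B` on `ℤ^24` without vectors of norm 2 and with the vector
counts of the rank-24 lattice, there are 24 pairwise orthogonal vectors `f i` of norm 8, congruent
to each other modulo 2.  In the coordinates `x ↦ (b(f i, x))_i` the sum of squares is `8 q(x)`.
-/

set_option autoImplicit false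

namespace Cfsg.Agent.Helper92.LeechChar

open Matrix Cfsg

section
variable (B : Matrix (Fin 24) (Fin 24) ℤ)

/-- the bilinear form -/
def bf (x y : Fin 24 → ℤ) : ℤ := x ⬝ᵥ (B *ᵥ y)

theorem bf_add_right (x y z : Fin 24 → ℤ) : bf B x (y + z) = bf B x y + bf B x z := by
  unfold bf
  rw [Matrix.mulVec_add, dotProduct_add]

theorem bf_add_left (x y z : Fin 24 → ℤ) : bf B (x + y) z = bf B x z + bf B y z := by
  unfold bf
  rw [add_dotProduct]

theorem bf_sub_left (x y z : Fin 24 → ℤ) : bf B (x - y) z = bf B x z - bf B y z := by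
  unfold bf
  rw [sub_dotProduct]

theorem bf_smul_left (a : ℤ) (x z : Fin 24 → ℤ) : bf B (a • x) z = a * bf B x z := by
  unfold bf
  rw [smul_dotProduct, smul_eq_mul]

theorem bf_zero_right (x : Fin 24 → ℤ) : bf B x 0 = 0 := by
  unfold bf
  rw [Matrix.mulVec_zero, dotProduct_zero]

theorem bf_symm (hsymm : B.IsSymm) (x y : Fin 24 → ℤ) : bf B x y = bf B y x :=
  Cfsg.Agent.S1588.form_symm B hsymm x y

/-- the frame -/
theorem exists_frame (hsymm : B.IsSymm)
    (hpos : ∀ x : Fin 24 → ℤ, x ≠ 0 → 0 < x ⬝ᵥ (B *ᵥ x))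
    (heven : ∀ x : Fin 24 → ℤ, (2 : ℤ) ∣ x ⬝ᵥ (B *ᵥ x))
    (h2 : ∀ x : Fin 24 → ℤ, x ⬝ᵥ (B *ᵥ x) ≠ 2)
    (h4 : {x : Fin 24 → ℤ | x ⬝ᵥ (B *ᵥ x) = 4}.ncard = 196560)
    (h6 : {x : Fin 24 → ℤ | x ⬝ᵥ (B *ᵥ x) = 6}.ncard = 16773120)
    (h8 : {x : Fin 24 → ℤ | x ⬝ᵥ (B *ᵥ x) = 8}.ncard = 398034000) :
    ∃ f : Fin 24 → (Fin 24 → ℤ), (∀ i, bf B (f i) (f i) = 8) ∧
      (∀ i j, i ≠ j → bf B (f i) (f j) = 0) ∧ ∀ i j k, (2 : ℤ) ∣ (f i - f j) k := by
  classical
  obtain ⟨x0, hx0⟩ : {x : Fin 24 → ℤ | x ⬝ᵥ (B *ᵥ x) = 8}.Nonempty :=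
    Set.nonempty_of_ncard_ne_zero (by rw [h8]; norm_num)
  have hx0' : x0 ⬝ᵥ (B *ᵥ x0) = 8 := hx0
  have hS := Cfsg.Agent.S1588.result B hsymm hpos heven h2 h4 h6 h8 x0 hx0'
  have hfin : {y : Fin 24 → ℤ | y ⬝ᵥ (B *ᵥ y) = 8 ∧ ∀ i, (2 : ℤ) ∣ (x0 - y) i}.Finite :=
    Set.finite_of_ncard_ne_zero (by rw [hS]; norm_num)
  set F := hfin.toFinset with hF
  have hmem : ∀ v, v ∈ F ↔ v ⬝ᵥ (B *ᵥ v) = 8 ∧ ∀ i, (2 : ℤ) ∣ (x0 - v) i := fun v => by
    rw [hF, Set.Finite.mem_toFinset]; rfl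
  have hcard : F.card = 48 := by rw [hF, ← Set.ncard_eq_toFinset_card _ hfin, hS]
  have hcong : ∀ u ∈ F, ∀ v ∈ F, ∀ i, (2 : ℤ) ∣ (u - v) i := by
    intro u hu v hv i
    have h1 := ((hmem u).mp hu).2 i
    have h3 := ((hmem v).mp hv).2 i
    rw [Pi.sub_apply] at h1 h3 ⊢
    omega
  have hpair : ∀ u ∈ F, ∀ v ∈ F, v = u ∨ v = -u ∨ u ⬝ᵥ (B *ᵥ v) = 0 := by
    intro u hu v hv
    exact Cfsg.Agent.S1587.result B hsymm hpos heven h2 u v ((hmem u).mp hu).1 ((hmem v).mp hv).1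
      (hcong u hu v hv)
  have h0 : ∀ v ∈ F, v ≠ 0 := by
    intro v hv hv0
    have := ((hmem v).mp hv).1
    rw [hv0, zero_dotProduct] at this
    norm_num at this
  have hsplit := Finset.card_filter_add_card_filter_not (s := F) (p := fun v => 0 < toLex v)
  have h1 : (F.filter fun v => 0 < toLex v).card ≤ 24 := by
    apply Cfsg.Agent.S1588.orth_card_le B hpos
    · intro v hv; exact h0 v (Finset.mem_filter.mp hv).1
    · intro u hu v hv huv
      rw [Finset.mem_filter] at hu hv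
      rcases hpair u hu.1 v hv.1 with h' | h' | h'
      · exact absurd h'.symm huv
      · exfalso
        have := hv.2
        rw [h', toLex_neg, neg_pos] at this
        exact lt_asymm hu.2 this
      · exact h'
  have h3 : (F.filter fun v => ¬ 0 < toLex v).card ≤ 24 := by
    apply Cfsg.Agent.S1588.orth_card_le B hpos
    · intro v hv; exact h0 v (Finset.mem_filter.mp hv).1
    · intro u hu v hv huv
      rw [Finset.mem_filter] at hu hv
      rcases hpair u hu.1 v hv.1 with h' | h' | h'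
      · exact absurd h'.symm huv
      · exfalso
        have hu0 : toLex u ≠ 0 := fun h0' => h0 u hu.1 (by simpa using h0')
        have hult : toLex u < 0 := lt_of_le_of_ne (not_lt.mp hu.2) hu0
        apply hv.2
        rw [h', toLex_neg, neg_pos]
        exact hult
      · exact h'
  have h24 : (F.filter fun v => 0 < toLex v).card = 24 := by omega
  let P : Finset (Fin 24 → ℤ) := F.filter (fun v : Fin 24 → ℤ => 0 < toLex v)
  have hmP : ∀ v, v ∈ P → v ∈ F ∧ 0 < toLex v := by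
    intro v hv
    simp only [P, Finset.mem_filter] at hv
    exact hv
  let e : P ≃ Fin 24 := Finset.equivFinOfCardEq h24
  refine ⟨fun i => ((e.symm i : P) : Fin 24 → ℤ), fun i => ?_, fun i j hij => ?_, fun i j k => ?_⟩
  · have hm := hmP _ (e.symm i).2
    exact ((hmem _).mp hm.1).1
  · have hmi := hmP _ (e.symm i).2
    have hmj := hmP _ (e.symm j).2
    have hne : ((e.symm i : P) : Fin 24 → ℤ) ≠ ((e.symm j : P) : Fin 24 → ℤ) := by
      intro h
      exact hij (e.symm.injective (Subtype.ext h))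
    rcases hpair _ hmi.1 _ hmj.1 with h' | h' | h'
    · exact absurd h'.symm hne
    · exfalso
      have := hmj.2
      rw [h', toLex_neg, neg_pos] at this
      exact lt_asymm hmi.2 this
    · exact h'
  · have hmi := hmP _ (e.symm i).2
    have hmj := hmP _ (e.symm j).2
    exact hcong _ hmi.1 _ hmj.1 k

/-- the Gram identity for an orthogonal frame of norm 8 -/
theorem gram_frame (f : Fin 24 → (Fin 24 → ℤ))
    (h8 : ∀ i, bf B (f i) (f i) = 8) (horth : ∀ i j, i ≠ j → bf B (f i) (f j) = 0)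
    (x : Fin 24 → ℤ) : ∑ i, (bf B (f i) x) ^ 2 = 8 * bf B x x := by
  classical
  set F : Matrix (Fin 24) (Fin 24) ℤ := Matrix.of f with hFdef
  have hrow : ∀ (i : Fin 24) (v : Fin 24 → ℤ), (F *ᵥ v) i = f i ⬝ᵥ v := fun i v => rfl
  -- F B Fᵀ = 8
  have hG : F * B * Fᵀ = (8 : ℤ) • (1 : Matrix (Fin 24) (Fin 24) ℤ) := by
    ext i j
    have e1 : (F * B * Fᵀ) i j = bf B (f i) (f j) := by
      rw [Matrix.mul_assoc, Matrix.mul_apply]
      unfold bf
      unfold dotProduct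
      refine Finset.sum_congr rfl fun k _ => ?_
      congr 1
    rw [e1, Matrix.smul_apply, Matrix.one_apply]
    by_cases hij : i = j
    · subst hij
      rw [h8, if_pos rfl, smul_eq_mul, mul_one]
    · rw [horth i j hij, if_neg hij, smul_zero]
  -- pass to the rationals to commute
  have hG' : Fᵀ * (F * B) = (8 : ℤ) • (1 : Matrix (Fin 24) (Fin 24) ℤ) := by
    let r := (Int.castRingHom ℚ).mapMatrix (m := Fin 24)
    have hinj : Function.Injective r := by
      intro M N h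
      ext i j
      have := congrFun (congrFun h i) j
      simpa [r] using this
    apply hinj
    have hr8 : r ((8 : ℤ) • (1 : Matrix (Fin 24) (Fin 24) ℤ)) =
        (8 : ℚ) • (1 : Matrix (Fin 24) (Fin 24) ℚ) := by
      rw [map_zsmul, map_one, ← Int.cast_smul_eq_zsmul ℚ]
      norm_num
    have h1 : r (F * B) * r Fᵀ = (8 : ℚ) • (1 : Matrix (Fin 24) (Fin 24) ℚ) := by
      rw [← map_mul, hG, hr8]
    have h2 : r (F * B) * ((8 : ℚ)⁻¹ • r Fᵀ) = 1 := by
      rw [Matrix.mul_smul, h1, smul_smul]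
      norm_num
    have h3 := mul_eq_one_comm.mp h2
    rw [Matrix.smul_mul] at h3
    have h4 : r Fᵀ * r (F * B) = (8 : ℚ) • (1 : Matrix (Fin 24) (Fin 24) ℚ) := by
      rw [← h3, smul_smul]
      norm_num
    rw [map_mul, h4, hr8]
  -- the sum of squares
  have e2 : ∑ i, (bf B (f i) x) ^ 2 = (F *ᵥ (B *ᵥ x)) ⬝ᵥ (F *ᵥ (B *ᵥ x)) := by
    unfold dotProduct
    refine Finset.sum_congr rfl fun i _ => ?_
    rw [hrow]
    unfold bf
    ring
  have e3 : (F *ᵥ (B *ᵥ x)) ᵥ* F = (8 : ℤ) • x := by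
    rw [← Matrix.mulVec_transpose, Matrix.mulVec_mulVec, Matrix.mulVec_mulVec, Matrix.mul_assoc, hG',
      Matrix.smul_mulVec, Matrix.one_mulVec]
  rw [e2, Matrix.dotProduct_mulVec, e3, smul_dotProduct, smul_eq_mul]
  rfl

end

end Cfsg.Agent.Helper92.LeechChar
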