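import Cfsg.Agent.Helper92.LeechCharCode

/-!
# Conway's characterisation, part B2: shapes of the vectors of sum of squares 32

Integer vectors of length 24 with sum of squares 32: all entries odd (one `±3`, the others `±1`),
all entries divisible by 4 (two entries `±4`), and the even vectors of a `LeechLike` lattice with an
entry not divisible by 4 (eight entries `±2` on a word of the code).
-/

set_option autoImplicit false

namespace Cfsg.Agent.Helper92.LeechChar

open Cfsg

theorem sum_erase_sq (y : Fin 24 → ℤ) (i : Fin 24) :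
    sqNorm y = y i ^ 2 + ∑ j ∈ Finset.univ.erase i, y j ^ 2 := by
  unfold sqNorm
  exact (Finset.add_sum_erase _ (fun j => y j ^ 2) (Finset.mem_univ i)).symm

theorem odd_sq_ge {a : ℤ} (h : ¬ (2 : ℤ) ∣ a) : 1 ≤ a ^ 2 := by
  have : a ≠ 0 := by
    rintro rfl
    exact h (dvd_zero 2)
  have h0 : 0 < a ^ 2 := by positivity
  linarith

theorem odd_sq_cases {a : ℤ} (h : ¬ (2 : ℤ) ∣ a) : a = 1 ∨ a = -1 ∨ 9 ≤ a ^ 2 := by
  by_cases h1 : a = 1
  · exact Or.inl h1
  by_cases h2 : a = -1
  · exact Or.inr (Or.inl h2)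
  right; right
  have h3 : 3 ≤ a ∨ a ≤ -3 := by omega
  rcases h3 with h3 | h3 <;> nlinarith

/-- all entries odd -/
theorem odd_shape (y : Fin 24 → ℤ) (hodd : ∀ i, ¬ (2 : ℤ) ∣ y i) (hn : sqNorm y = 32) :
    ∃ i, (y i = 3 ∨ y i = -3) ∧ ∀ j, j ≠ i → (y j = 1 ∨ y j = -1) := by
  classical
  -- some entry has square at least 9
  obtain ⟨i, hi⟩ : ∃ i, 9 ≤ y i ^ 2 := by
    by_contra hcon
    push Not at hcon
    have hall : ∀ i, y i ^ 2 = 1 := by
      intro i
      rcases odd_sq_cases (hodd i) with h | h | h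
      · rw [h]; norm_num
      · rw [h]; norm_num
      · exact absurd h (not_le.mpr (hcon i))
    unfold sqNorm at hn
    rw [Finset.sum_congr rfl fun i _ => hall i] at hn
    simp at hn
  have h1 := sum_erase_sq y i
  rw [hn] at h1
  have hcard : (Finset.univ.erase i : Finset (Fin 24)).card = 23 := by
    rw [Finset.card_erase_of_mem (Finset.mem_univ i)]
    simp
  have hlow : (23 : ℤ) ≤ ∑ j ∈ Finset.univ.erase i, y j ^ 2 := by
    have := Finset.card_nsmul_le_sum (Finset.univ.erase i) (fun j => y j ^ 2) 1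
      (fun j _ => odd_sq_ge (hodd j))
    rw [hcard] at this
    simpa using this
  have hi9 : y i ^ 2 = 9 := by omega
  have hrest : ∑ j ∈ Finset.univ.erase i, y j ^ 2 = 23 := by omega
  refine ⟨i, ?_, ?_⟩
  · have h3 : (y i - 3) * (y i + 3) = 0 := by ring_nf; omega
    rcases mul_eq_zero.mp h3 with h | h
    · left; omega
    · right; omega
  · intro j hj
    have hjm : j ∈ Finset.univ.erase i := Finset.mem_erase.mpr ⟨hj, Finset.mem_univ j⟩
    have h4 := Finset.add_sum_erase (Finset.univ.erase i) (fun j => y j ^ 2) hjm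
    rw [hrest] at h4
    have hcard2 : ((Finset.univ.erase i).erase j : Finset (Fin 24)).card = 22 := by
      rw [Finset.card_erase_of_mem hjm, hcard]
    have hlow2 : (22 : ℤ) ≤ ∑ k ∈ (Finset.univ.erase i).erase j, y k ^ 2 := by
      have := Finset.card_nsmul_le_sum ((Finset.univ.erase i).erase j) (fun j => y j ^ 2) 1
        (fun j _ => odd_sq_ge (hodd j))
      rw [hcard2] at this
      simpa using this
    rcases odd_sq_cases (hodd j) with h | h | h
    · exact Or.inl h
    · exact Or.inr h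
    · omega

/-- all entries divisible by 4 -/
theorem four_shape (y : Fin 24 → ℤ) (h4 : ∀ i, (4 : ℤ) ∣ y i) (hn : sqNorm y = 32) :
    ∃ i j : Fin 24, i < j ∧ ∃ a b : ℤ, (a = 4 ∨ a = -4) ∧ (b = 4 ∨ b = -4) ∧
      y = Pi.single i a + Pi.single j b := by
  classical
  have hsq : ∀ i, y i = 0 ∨ y i = 4 ∨ y i = -4 ∨ 64 ≤ y i ^ 2 := by
    intro i
    obtain ⟨k, hk⟩ := h4 i
    by_cases h0 : k = 0
    · left; rw [hk, h0]; norm_num
    by_cases h1 : k = 1
    · right; left; rw [hk, h1]; norm_num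
    by_cases h2 : k = -1
    · right; right; left; rw [hk, h2]; norm_num
    right; right; right
    have h3 : 2 ≤ k ∨ k ≤ -2 := by omega
    rw [hk]
    rcases h3 with h3 | h3 <;> nlinarith
  have hnonneg : ∀ (s : Finset (Fin 24)), (0 : ℤ) ≤ ∑ j ∈ s, y j ^ 2 :=
    fun s => Finset.sum_nonneg fun j _ => sq_nonneg (y j)
  -- a first nonzero entry
  obtain ⟨i, hi⟩ : ∃ i, y i ≠ 0 := by
    by_contra hcon
    push Not at hcon
    unfold sqNorm at hn
    rw [Finset.sum_congr rfl fun i _ => by rw [hcon i]] at hn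
    simp at hn
  have h1 := sum_erase_sq y i
  rw [hn] at h1
  have hr1 := hnonneg (Finset.univ.erase i)
  have hi4 : y i = 4 ∨ y i = -4 := by
    rcases hsq i with h | h | h | h
    · exact absurd h hi
    · exact Or.inl h
    · exact Or.inr h
    · omega
  have hi16 : y i ^ 2 = 16 := by rcases hi4 with h | h <;> rw [h] <;> norm_num
  have hrest : ∑ j ∈ Finset.univ.erase i, y j ^ 2 = 16 := by omega
  -- a second nonzero entry
  obtain ⟨j, hjm, hj⟩ : ∃ j ∈ Finset.univ.erase i, y j ≠ 0 := by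
    by_contra hcon
    push Not at hcon
    rw [Finset.sum_congr rfl fun j hj => by rw [hcon j hj]] at hrest
    simp at hrest
  have h2 := Finset.add_sum_erase (Finset.univ.erase i) (fun j => y j ^ 2) hjm
  rw [hrest] at h2
  have hr2 := hnonneg ((Finset.univ.erase i).erase j)
  have hj4 : y j = 4 ∨ y j = -4 := by
    rcases hsq j with h | h | h | h
    · exact absurd h hj
    · exact Or.inl h
    · exact Or.inr h
    · omega
  have hj16 : y j ^ 2 = 16 := by rcases hj4 with h | h <;> rw [h] <;> norm_num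
  have hrest2 : ∑ k ∈ (Finset.univ.erase i).erase j, y k ^ 2 = 0 := by omega
  have hzero : ∀ k, k ≠ i → k ≠ j → y k = 0 := by
    intro k hki hkj
    have hkm : k ∈ (Finset.univ.erase i).erase j :=
      Finset.mem_erase.mpr ⟨hkj, Finset.mem_erase.mpr ⟨hki, Finset.mem_univ k⟩⟩
    have := (Finset.sum_eq_zero_iff_of_nonneg (fun k _ => sq_nonneg (y k))).mp hrest2 k hkm
    exact pow_eq_zero_iff (by norm_num) |>.mp this
  have hij : j ≠ i := (Finset.mem_erase.mp hjm).1
  have hy : y = Pi.single i (y i) + Pi.single j (y j) := by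
    funext k
    simp only [Pi.add_apply, Pi.single_apply]
    by_cases hki : k = i
    · subst hki
      rw [if_pos rfl, if_neg (Ne.symm hij), add_zero]
    · by_cases hkj : k = j
      · subst hkj
        rw [if_neg hki, if_pos rfl, zero_add]
      · rw [if_neg hki, if_neg hkj, hzero k hki hkj, add_zero]
  rcases lt_or_gt_of_ne hij with hlt | hlt
  · exact ⟨j, i, hlt, y j, y i, hj4, hi4, hy.trans (add_comm _ _)⟩
  · exact ⟨i, j, hlt, y i, y j, hi4, hj4, hy⟩

/-- the word of an even vector -/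
def rho (y : Fin 24 → ℤ) : Fin 24 → ZMod 2 := fun i => ((y i / 2 : ℤ) : ZMod 2)

theorem tw_rho (y : Fin 24 → ℤ) (i : Fin 24) : tw (rho y) i = 2 * ((y i / 2) % 2) := by
  unfold tw rho
  rw [ZMod.val_intCast]
  rfl

theorem rho_ne_zero_iff {y : Fin 24 → ℤ} (hev : ∀ i, (2 : ℤ) ∣ y i) (i : Fin 24) :
    rho y i ≠ 0 ↔ ¬ (4 : ℤ) ∣ y i := by
  unfold rho
  rw [Ne, ZMod.intCast_zmod_eq_zero_iff_dvd]
  have := hev i
  constructor
  · intro h h4
    apply h
    omega
  · intro h h2
    apply h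
    omega

theorem rho_mem {Λ : AddSubgroup (Fin 24 → ℤ)} {y : Fin 24 → ℤ} (hy : y ∈ Λ)
    (hev : ∀ i, (2 : ℤ) ∣ y i) : rho y ∈ codeC Λ := by
  refine ⟨fun i => y i / 4, ?_⟩
  have e : tw (rho y) + (4 : ℤ) • (fun i => y i / 4) = y := by
    funext i
    rw [Pi.add_apply, tw_rho, Pi.smul_apply, smul_eq_mul]
    have := hev i
    omega
  rw [e]
  exact hy

theorem even_sq_ge {a : ℤ} (h2 : (2 : ℤ) ∣ a) (h4 : ¬ (4 : ℤ) ∣ a) : 4 ≤ a ^ 2 := by
  have h3 : 2 ≤ a ∨ a ≤ -2 := by omega
  rcases h3 with h3 | h3 <;> nlinarith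

/-- even vectors with an entry not divisible by 4 -/
theorem two_shape {Λ : AddSubgroup (Fin 24 → ℤ)} (h : LeechLike Λ) {y : Fin 24 → ℤ} (hy : y ∈ Λ)
    (hev : ∀ i, (2 : ℤ) ∣ y i) (hn4 : ¬ ∀ i, (4 : ℤ) ∣ y i) (hn : sqNorm y = 32) :
    hammingNorm (rho y) = 8 ∧ ∀ i, (rho y i ≠ 0 → (y i = 2 ∨ y i = -2)) ∧
      (rho y i = 0 → y i = 0) := by
  classical
  have hw := rho_mem hy hev
  have hw0 : rho y ≠ 0 := by
    intro h0
    apply hn4
    intro i
    by_contra hi
    exact (rho_ne_zero_iff hev i).mpr hi (congrFun h0 i)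
  obtain ⟨-, h8⟩ := weight_codeC h hw hw0
  -- termwise comparison
  have hterm : ∀ i, (4 : ℤ) * (if rho y i ≠ 0 then 1 else 0 : ℕ) ≤ y i ^ 2 := by
    intro i
    by_cases hi : rho y i ≠ 0
    · rw [if_pos hi]
      have := even_sq_ge (hev i) ((rho_ne_zero_iff hev i).mp hi)
      simpa using this
    · rw [if_neg hi]
      simpa using sq_nonneg (y i)
  have hsum : ∑ i, (y i ^ 2 - (4 : ℤ) * (if rho y i ≠ 0 then 1 else 0 : ℕ)) =
      32 - 4 * (hammingNorm (rho y) : ℤ) := by
    rw [Finset.sum_sub_distrib, ← Finset.mul_sum, Cfsg.Agent.Helper93.wt_eq_sum, Nat.cast_sum]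
    unfold sqNorm at hn
    rw [hn]
  have hnonneg : ∀ i ∈ (Finset.univ : Finset (Fin 24)),
      (0 : ℤ) ≤ y i ^ 2 - (4 : ℤ) * (if rho y i ≠ 0 then 1 else 0 : ℕ) := by
    intro i _
    have := hterm i
    omega
  have hge := Finset.sum_nonneg hnonneg
  rw [hsum] at hge
  have hwt : hammingNorm (rho y) = 8 := by omega
  rw [hwt] at hsum
  have hz := (Finset.sum_eq_zero_iff_of_nonneg hnonneg).mp (by rw [hsum]; norm_num)
  refine ⟨hwt, fun i => ⟨fun hi => ?_, fun hi => ?_⟩⟩
  · have := hz i (Finset.mem_univ i)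
    rw [if_pos hi] at this
    have h4 : y i ^ 2 = 4 := by
      simp at this
      omega
    have h3 : (y i - 2) * (y i + 2) = 0 := by ring_nf; omega
    rcases mul_eq_zero.mp h3 with h' | h'
    · left; omega
    · right; omega
  · have := hz i (Finset.mem_univ i)
    rw [if_neg (not_not.mpr hi)] at this
    simpa using this

end Cfsg.Agent.Helper92.LeechChar
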