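import Mathlib
import Cfsg.Agent.Helper92.LeechIndex

set_option autoImplicit false

namespace Cfsg.Agent.Helper92

open Cfsg

/-- the subgroup `{0, 1}` of the binary vectors -/
def subZ : AddSubgroup FV where
  carrier := {w | w = 0 ∨ w = 1}
  add_mem' := by
    rintro a b (rfl | rfl) (rfl | rfl)
    · left; simp
    · right; simp
    · right; simp
    · left; exact CharTwo.add_self_eq_zero _
  zero_mem' := Or.inl rfl
  neg_mem' := by
    rintro a (rfl | rfl)
    · left; simp
    · right; exact CharTwo.neg_eq _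

theorem mem_subZ (w : FV) : w ∈ subZ ↔ w = 0 ∨ w = 1 := Iff.rfl

theorem one_ne_zero_FV : (1 : FV) ≠ 0 := by
  intro h
  have := congrFun h none
  revert this
  decide

theorem card_subZ : Nat.card subZ = 2 := by
  rw [Nat.card_eq_two_iff]
  refine ⟨⟨0, Or.inl rfl⟩, ⟨1, Or.inr rfl⟩, ?_, ?_⟩
  · intro h
    exact one_ne_zero_FV (congrArg Subtype.val h).symm
  · apply Set.eq_univ_of_forall
    rintro ⟨w, rfl | rfl⟩
    · left; rfl
    · right; rfl

theorem subZ_le : subZ ≤ golayCode.toAddSubgroup := by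
  rintro w (rfl | rfl)
  · exact golayCode.zero_mem
  · exact Cfsg.Agent.Helper7.one_mem_golayCode

theorem relIndex_subZ : subZ.relIndex golayCode.toAddSubgroup = 2 ^ 11 := by
  have h := AddSubgroup.relIndex_mul_relIndex (⊥ : AddSubgroup FV) subZ golayCode.toAddSubgroup
    bot_le subZ_le
  rw [AddSubgroup.relIndex_bot_left, AddSubgroup.relIndex_bot_left, card_subZ] at h
  have hc : Nat.card golayCode.toAddSubgroup = 4096 := Cfsg.Agent.Helper27.card_golayCode
  rw [hc] at h
  have : (4096 : ℕ) = 2 * 2 ^ 11 := by norm_num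
  rw [this] at h
  exact Nat.eq_of_mul_eq_mul_left (by norm_num) h

theorem map_red_latE : latE.map red = golayCode.toAddSubgroup := by
  apply le_antisymm
  · rintro _ ⟨y, hy, rfl⟩
    exact ((mem_latE y).1 hy).2
  · intro c hc
    refine ⟨fun i => ((c i).val : ℤ), ?_, ?_⟩
    · have hred : red (fun i => ((c i).val : ℤ)) = c := by
        ext i
        rw [red_apply]
        simp
      rw [SetLike.mem_coe, mem_latE, hred]
      refine ⟨?_, hc⟩
      have hs : support₂ c ∈ supports (golayCode : Set FV) := ⟨c, hc, rfl⟩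
      obtain ⟨d, hd⟩ := four_dvd_card_of_mem_supports hs
      have hval : ∀ i, ((c i).val : ℤ) = if c i ≠ 0 then 1 else 0 := by
        intro i
        generalize c i = a
        revert a
        decide
      simp only [hval]
      rw [Finset.sum_boole]
      have hf : (Finset.univ.filter fun i => c i ≠ 0) = support₂ c := by
        ext i
        rw [Finset.mem_filter, Cfsg.Agent.Helper7.mem_support₂]
        simp
      rw [hf, hd]
      push_cast
      omega
    · ext i
      rw [red_apply]
      simp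

/-- vectors of `latE` that are constant mod 2 -/
def latA : AddSubgroup ZV := subZ.comap red ⊓ latE

theorem relIndex_latA : latA.relIndex latE = 2 ^ 11 := by
  unfold latA
  rw [AddSubgroup.inf_relIndex_right, AddSubgroup.relIndex_comap, map_red_latE, relIndex_subZ]

/-- a subgroup of the lattice of index `2 ^ 12` on which the norm is divisible by 32 -/
def lamA : AddSubgroup ZV := latA.map dbl

theorem lamA_le_lam0 : lamA ≤ lam0 := AddSubgroup.map_mono inf_le_right

theorem lamA_le : lamA ≤ leechLattice := le_trans lamA_le_lam0 lam0_le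

theorem relIndex_lamA : lamA.relIndex leechLattice = 2 ^ 12 := by
  rw [← AddSubgroup.relIndex_mul_relIndex lamA lam0 leechLattice lamA_le_lam0 lam0_le,
    relIndex_lam0]
  unfold lamA lam0
  rw [AddSubgroup.relIndex_map_map_of_injective _ _ dbl_injective, relIndex_latA]
  norm_num

theorem two_smul_mem_lamA {v : ZV} (hv : v ∈ leechLattice) : (2 : ℤ) • v ∈ lamA := by
  rw [mem_leechLattice_iff] at hv
  obtain ⟨m, h1, h2, h3⟩ := hv
  refine ⟨v, ?_, ?_⟩
  · have hpar : ∀ i, v i % 2 = m % 2 := fun i => by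
      have := h1 i
      simpa only [Int.ModEq] using this
    have hred : red v = 0 ∨ red v = 1 := by
      have hm : m % 2 = 0 ∨ m % 2 = 1 := by omega
      rcases hm with hm | hm
      · left
        ext i
        rw [Pi.zero_apply, red_apply_eq_zero_iff, hpar i, hm]
      · right
        ext i
        have : red v i ≠ 0 := by
          rw [Ne, red_apply_eq_zero_iff, hpar i, hm]
          decide
        rw [Pi.one_apply]
        generalize red v i = a at this
        revert a
        decide
    rw [SetLike.mem_coe]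
    unfold latA
    rw [AddSubgroup.mem_inf, AddSubgroup.mem_comap, mem_subZ, mem_latE]
    refine ⟨hred, ?_, ?_⟩
    · simp only [Int.ModEq] at h2
      omega
    · exact subZ_le hred
  · ext i
    rw [dbl_apply]
    simp

theorem sq_aux_even (a : ℤ) (h : a % 2 = 0) : (32 : ℤ) ∣ (2 * a) ^ 2 - 8 * a := by
  obtain ⟨k, rfl⟩ : ∃ k, a = 2 * k := ⟨a / 2, by omega⟩
  have h2 : (2 : ℤ) ∣ k * (k - 1) := by
    have : k % 2 = 0 ∨ k % 2 = 1 := by omega
    rcases this with h | h
    · exact Dvd.dvd.mul_right (by omega) _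
    · exact Dvd.dvd.mul_left (by omega) _
  obtain ⟨t, ht⟩ := h2
  refine ⟨t, ?_⟩
  have : (2 * (2 * k)) ^ 2 - 8 * (2 * k) = 16 * (k * (k - 1)) := by ring
  rw [this, ht]
  ring

theorem sq_aux_odd (a : ℤ) (h : a % 2 = 1) : (32 : ℤ) ∣ (2 * a) ^ 2 - 4 := by
  obtain ⟨k, rfl⟩ : ∃ k, a = 2 * k + 1 := ⟨a / 2, by omega⟩
  have h2 : (2 : ℤ) ∣ k * (k + 1) := by
    have : k % 2 = 0 ∨ k % 2 = 1 := by omega
    rcases this with h | h
    · exact Dvd.dvd.mul_right (by omega) _
    · exact Dvd.dvd.mul_left (by omega) _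
  obtain ⟨t, ht⟩ := h2
  refine ⟨t, ?_⟩
  have : (2 * (2 * k + 1)) ^ 2 - 4 = 16 * (k * (k + 1)) := by ring
  rw [this, ht]
  ring

theorem thirtytwo_dvd_sqNorm_of_mem_lamA {v : ZV} (hv : v ∈ lamA) : (32 : ℤ) ∣ sqNorm v := by
  obtain ⟨y, hy, rfl⟩ := hv
  rw [SetLike.mem_coe] at hy
  unfold latA at hy
  rw [AddSubgroup.mem_inf, AddSubgroup.mem_comap, mem_subZ, mem_latE] at hy
  obtain ⟨hred, hsum, -⟩ := hy
  unfold sqNorm
  rcases hred with hred | hred
  · have hpar : ∀ i, y i % 2 = 0 := fun i => by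
      have := congrFun hred i
      rwa [Pi.zero_apply, red_apply_eq_zero_iff] at this
    have hd : (32 : ℤ) ∣ ∑ i, ((2 * y i) ^ 2 - 8 * y i) :=
      Finset.dvd_sum (fun i _ => sq_aux_even _ (hpar i))
    rw [Finset.sum_sub_distrib, ← Finset.mul_sum] at hd
    simp only [dbl_apply]
    obtain ⟨d, hd⟩ := hd
    obtain ⟨t, ht⟩ : ∃ t, ∑ i, y i = 4 * t := ⟨(∑ i, y i) / 4, by omega⟩
    rw [ht] at hd
    exact ⟨d + t, by linarith⟩
  · have hpar : ∀ i, y i % 2 = 1 := fun i => by
      have := congrFun hred i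
      have h0 : red y i ≠ 0 := by
        rw [this, Pi.one_apply]
        decide
      rw [Ne, red_apply_eq_zero_iff] at h0
      omega
    have hd : (32 : ℤ) ∣ ∑ i, ((2 * y i) ^ 2 - 4) :=
      Finset.dvd_sum (fun i _ => sq_aux_odd _ (hpar i))
    rw [Finset.sum_sub_distrib] at hd
    simp only [Finset.sum_const, Finset.card_univ, card_golayPt, nsmul_eq_mul] at hd
    simp only [dbl_apply]
    obtain ⟨d, hd⟩ := hd
    exact ⟨d + 3, by push_cast at hd; linarith⟩

end Cfsg.Agent.Helper92
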