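import Mathlib

/-!
# Generic lemmas on normalisers / centralisers of cyclic subgroups and transport by conjugation
-/

set_option autoImplicit false

namespace Cfsg.Agent.Helper92

/-- `g` normalises `⟨s⟩` as soon as it conjugates `s` and `g⁻¹` conjugates `s` into `⟨s⟩` -/
theorem mem_normalizer_zpowers {G : Type*} [Group G] {g s : G} {j j' : ℕ}
    (h1 : g * s = s ^ j * g) (h2 : g⁻¹ * s = s ^ j' * g⁻¹) :
    g ∈ Subgroup.normalizer (Subgroup.zpowers s : Set G) := by
  have e1 : g * s * g⁻¹ = s ^ j := by rw [h1]; group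
  have e2 : g⁻¹ * s * g = s ^ j' := by rw [h2]; group
  rw [Subgroup.mem_set_normalizer_iff]
  intro h
  constructor
  · intro hh
    obtain ⟨i, rfl⟩ := Subgroup.mem_zpowers_iff.1 hh
    have : g * s ^ i * g⁻¹ = (s ^ j) ^ i := by rw [← e1, conj_zpow]
    rw [SetLike.mem_coe, this]
    exact Subgroup.zpow_mem _ (Subgroup.pow_mem _ (Subgroup.mem_zpowers s) j) i
  · intro hh
    obtain ⟨i, hi⟩ := Subgroup.mem_zpowers_iff.1 hh
    have : h = (s ^ j') ^ i := by
      rw [← e2]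
      have h3 := conj_zpow (a := g⁻¹) (b := s) (i := i)
      rw [inv_inv] at h3
      rw [h3, hi]
      group
    rw [SetLike.mem_coe, this]
    exact Subgroup.zpow_mem _ (Subgroup.pow_mem _ (Subgroup.mem_zpowers s) j') i

/-- `g` centralises `⟨s⟩` as soon as it commutes with `s` -/
theorem mem_centralizer_zpowers {G : Type*} [Group G] {g s : G} (h : g * s = s * g) :
    g ∈ Subgroup.centralizer (Subgroup.zpowers s : Set G) := by
  rw [Subgroup.mem_centralizer_iff]
  intro x hx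
  obtain ⟨i, rfl⟩ := Subgroup.mem_zpowers_iff.1 hx
  have hc : Commute s g := h.symm
  exact (hc.zpow_left i).eq

/-- an element normalising `⟨s⟩` (with `s` of prime order `p`) conjugates `s` to `s ^ j` with
`0 < j < p` -/
theorem exists_pow_of_mem_normalizer {G : Type*} [Group G] {n s : G} {p : ℕ} (hp : 0 < p)
    (hs : orderOf s = p) (hs1 : s ≠ 1)
    (hn : n ∈ Subgroup.normalizer (Subgroup.zpowers s : Set G)) :
    ∃ j : ℕ, 0 < j ∧ j < p ∧ n * s = s ^ j * n := by
  have h1 : n * s * n⁻¹ ∈ Subgroup.zpowers s :=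
    (Subgroup.mem_set_normalizer_iff.1 hn s).1 (Subgroup.mem_zpowers s)
  obtain ⟨k, hk⟩ := Subgroup.mem_zpowers_iff.1 h1
  have h2 : s ^ (k % (p : ℤ)) = s ^ k := by rw [← hs, zpow_mod_orderOf]
  have hp' : (0 : ℤ) < p := by exact_mod_cast hp
  have hnn : 0 ≤ k % (p : ℤ) := Int.emod_nonneg _ (ne_of_gt hp')
  have hlt : k % (p : ℤ) < p := Int.emod_lt_of_pos _ hp'
  obtain ⟨j, hj⟩ : ∃ j : ℕ, k % (p : ℤ) = j := ⟨(k % (p : ℤ)).toNat, (Int.toNat_of_nonneg hnn).symm⟩
  have hjp : j < p := by rw [hj] at hlt; exact_mod_cast hlt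
  have h3 : s ^ j = n * s * n⁻¹ := by rw [← hk, ← h2, hj, zpow_natCast]
  have hj0 : j ≠ 0 := by
    rintro rfl
    rw [pow_zero] at h3
    apply hs1
    have : s = n⁻¹ * (n * s * n⁻¹) * n := by group
    rw [this, ← h3]
    group
  refine ⟨j, Nat.pos_of_ne_zero hj0, hjp, ?_⟩
  rw [h3]
  group

/-- transport of normalisers and centralisers along a conjugation -/
theorem conj_transport {G : Type*} [Group G] {S S0 : Subgroup G} {g : G}
    (h : ∀ x, x ∈ S ↔ g * x * g⁻¹ ∈ S0) :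
    (∀ n, n ∈ Subgroup.normalizer (S : Set G) ↔
      g * n * g⁻¹ ∈ Subgroup.normalizer (S0 : Set G)) ∧
    (∀ c, c ∈ Subgroup.centralizer (S : Set G) ↔
      g * c * g⁻¹ ∈ Subgroup.centralizer (S0 : Set G)) := by
  have h' : ∀ y, y ∈ S0 ↔ g⁻¹ * y * g ∈ S := by
    intro y
    rw [h]
    have : g * (g⁻¹ * y * g) * g⁻¹ = y := by group
    rw [this]
  constructor
  · intro n
    simp only [Subgroup.mem_set_normalizer_iff, SetLike.mem_coe]
    constructor
    · intro hn y
      rw [h' y, h' (g * n * g⁻¹ * y * (g * n * g⁻¹)⁻¹), hn (g⁻¹ * y * g)]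
      have : g⁻¹ * (g * n * g⁻¹ * y * (g * n * g⁻¹)⁻¹) * g = n * (g⁻¹ * y * g) * n⁻¹ := by group
      rw [this]
    · intro hn x
      rw [h x, h (n * x * n⁻¹), hn (g * x * g⁻¹)]
      have : g * n * g⁻¹ * (g * x * g⁻¹) * (g * n * g⁻¹)⁻¹ = g * (n * x * n⁻¹) * g⁻¹ := by group
      rw [this]
  · intro c
    simp only [Subgroup.mem_centralizer_iff, SetLike.mem_coe]
    constructor
    · intro hc y hy
      have := hc (g⁻¹ * y * g) ((h' y).1 hy)
      calc y * (g * c * g⁻¹) = g * ((g⁻¹ * y * g) * c) * g⁻¹ := by group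
        _ = g * (c * (g⁻¹ * y * g)) * g⁻¹ := by rw [this]
        _ = g * c * g⁻¹ * y := by group
    · intro hc x hx
      have := hc (g * x * g⁻¹) ((h x).1 hx)
      calc x * c = g⁻¹ * ((g * x * g⁻¹) * (g * c * g⁻¹)) * g := by group
        _ = g⁻¹ * ((g * c * g⁻¹) * (g * x * g⁻¹)) * g := by rw [this]
        _ = c * x := by group

/-- conjugation as an equivalence of subtypes -/
def conjEquiv {G : Type*} [Group G] (g : G) {p q : G → Prop}
    (h : ∀ x, p x ↔ q (g * x * g⁻¹)) : {x // p x} ≃ {x // q x} where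
  toFun x := ⟨g * x.1 * g⁻¹, (h x.1).1 x.2⟩
  invFun y := ⟨g⁻¹ * y.1 * g, (h _).2 (by
    have : g * (g⁻¹ * y.1 * g) * g⁻¹ = y.1 := by group
    rw [this]; exact y.2)⟩
  left_inv x := by
    apply Subtype.ext
    show g⁻¹ * (g * x.1 * g⁻¹) * g = x.1
    group
  right_inv y := by
    apply Subtype.ext
    show g * (g⁻¹ * y.1 * g) * g⁻¹ = y.1
    group

end Cfsg.Agent.Helper92
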