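import Mathlib
import Cfsg.Prelude.Def_Sporadic_a

/-!
# Transport of Steiner systems along bijections; `SetSystemIso` is an equivalence relation
-/

set_option autoImplicit false

namespace Cfsg.Agent.Helper92

open Cfsg

section

variable {α β γ : Type*} [DecidableEq α] [DecidableEq β] [DecidableEq γ]

/-- the family `B` transported along `e` -/
def mapSys (e : α ≃ β) (B : Set (Finset α)) : Set (Finset β) := (fun b : Finset α => b.image e) '' B

theorem image_symm_image (e : α ≃ β) (b : Finset α) : (b.image e).image e.symm = b := by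
  rw [Finset.image_image]
  simp

theorem image_image_symm (e : α ≃ β) (b : Finset β) : (b.image e.symm).image e = b := by
  rw [Finset.image_image]
  simp

theorem mapSys_symm_mapSys (e : α ≃ β) (B : Set (Finset α)) : mapSys e.symm (mapSys e B) = B := by
  ext b
  simp only [mapSys, Set.mem_image]
  constructor
  · rintro ⟨_, ⟨c, hc, rfl⟩, rfl⟩
    rwa [image_symm_image]
  · intro hb
    exact ⟨b.image e, ⟨b, hb, rfl⟩, image_symm_image e b⟩

theorem mapSys_trans (e : α ≃ β) (f : β ≃ γ) (B : Set (Finset α)) :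
    mapSys (e.trans f) B = mapSys f (mapSys e B) := by
  ext b
  simp only [mapSys, Set.mem_image]
  constructor
  · rintro ⟨c, hc, rfl⟩
    refine ⟨c.image e, ⟨c, hc, rfl⟩, ?_⟩
    rw [Finset.image_image]
    rfl
  · rintro ⟨_, ⟨c, hc, rfl⟩, rfl⟩
    refine ⟨c, hc, ?_⟩
    rw [Finset.image_image]
    rfl

theorem setSystemIso_iff {B : Set (Finset α)} {B' : Set (Finset β)} :
    SetSystemIso B B' ↔ ∃ e : α ≃ β, mapSys e B = B' := Iff.rfl

theorem SetSystemIso.symm' {B : Set (Finset α)} {B' : Set (Finset β)} (h : SetSystemIso B B') :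
    SetSystemIso B' B := by
  obtain ⟨e, he⟩ := h
  refine ⟨e.symm, ?_⟩
  have := mapSys_symm_mapSys e B
  unfold mapSys at this
  rw [he] at this
  exact this

theorem SetSystemIso.trans' {B : Set (Finset α)} {B' : Set (Finset β)} {B'' : Set (Finset γ)}
    (h : SetSystemIso B B') (h' : SetSystemIso B' B'') : SetSystemIso B B'' := by
  obtain ⟨e, he⟩ := h
  obtain ⟨f, hf⟩ := h'
  refine ⟨e.trans f, ?_⟩
  have := mapSys_trans e f B
  unfold mapSys at this
  rw [this, he, hf]

/-- transport of a Steiner system -/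
theorem IsSteinerSystem.mapSys {t k : ℕ} {B : Set (Finset α)} (hB : IsSteinerSystem t k B)
    (e : α ≃ β) : IsSteinerSystem t k (mapSys e B) := by
  refine ⟨?_, ?_⟩
  · rintro _ ⟨b, hb, rfl⟩
    rw [Finset.card_image_of_injective _ e.injective]
    exact hB.1 b hb
  · intro s hs
    have hs' : (s.image e.symm).card = t := by
      rw [Finset.card_image_of_injective _ e.symm.injective, hs]
    obtain ⟨b, ⟨hb, hsb⟩, huniq⟩ := hB.2 _ hs'
    refine ⟨b.image e, ⟨⟨b, hb, rfl⟩, ?_⟩, ?_⟩
    · have := Finset.image_subset_image (f := e) hsb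
      rwa [image_image_symm] at this
    · rintro _ ⟨⟨c, hc, rfl⟩, hsc⟩
      have h1 : s.image e.symm ⊆ c := by
        have := Finset.image_subset_image (f := e.symm) hsc
        rwa [image_symm_image] at this
      rw [huniq c ⟨hc, h1⟩]

end

end Cfsg.Agent.Helper92
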