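import Mathlib
import Cfsg.Prelude.Def_Sporadic_a
import Cfsg.Agent.Helper92.SteinerIso

/-!
# Extension of a set system on `V` by the extra point of `Option V`
-/

set_option autoImplicit false

namespace Cfsg.Agent.Helper92

open Cfsg

section

variable {V : Type*} [DecidableEq V]

/-- extension of a family of subsets of `V` by the extra point -/
def extNone (B : Set (Finset V)) : Set (Finset (Option V)) :=
  (fun b : Finset V => Finset.insertNone b) '' B

theorem insertNone_injective_gen :
    Function.Injective (fun b : Finset V => Finset.insertNone b) :=
  fun _ _ h => Finset.insertNone.injective h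

theorem extNone_injective : Function.Injective (extNone (V := V)) := by
  intro B B' h
  unfold extNone at h
  exact (Set.image_injective.2 insertNone_injective_gen) h

theorem insertNone_inter_gen (b c : Finset V) :
    Finset.insertNone b ∩ Finset.insertNone c = Finset.insertNone (b ∩ c) := by
  ext p
  cases p with
  | none => simp
  | some x => simp

theorem some_removeNone_gen {σ : Equiv.Perm (Option V)} (h : σ none = none) (x : V) :
    some (Equiv.removeNone σ x) = σ (some x) := by
  apply Equiv.removeNone_some
  have hne : σ (some x) ≠ none := by
    intro hcon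
    rw [← h] at hcon
    exact Option.some_ne_none x (σ.injective hcon)
  exact Option.ne_none_iff_exists'.1 hne

theorem optionCongr_removeNone_gen {g : Equiv.Perm (Option V)} (h : g none = none) :
    Equiv.optionCongr (Equiv.removeNone g) = g := by
  ext p : 1
  cases p with
  | none => rw [h]; rfl
  | some x => rw [← some_removeNone_gen h]; rfl

theorem image_insertNone_gen {σ : Equiv.Perm (Option V)} (h : σ none = none) (b : Finset V) :
    (Finset.insertNone b).image σ = Finset.insertNone (b.image (Equiv.removeNone σ)) := by
  ext p
  rw [Finset.mem_image]
  cases p with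
  | none =>
    simp only [Finset.mem_insertNone, Option.mem_def, reduceCtorEq, false_imp_iff, implies_true,
      iff_true]
    exact ⟨none, by simp, h⟩
  | some y =>
    simp only [Finset.mem_insertNone, Option.mem_def, Option.some.injEq, forall_eq',
      Finset.mem_image]
    constructor
    · rintro ⟨q, hq, hqy⟩
      cases q with
      | none => rw [h] at hqy; exact absurd hqy (by simp)
      | some x =>
        refine ⟨x, hq x rfl, ?_⟩
        apply Option.some_injective
        rw [some_removeNone_gen h, hqy]
    · rintro ⟨x, hx, rfl⟩
      refine ⟨some x, ?_, (some_removeNone_gen h x).symm⟩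
      intro a ha
      rw [Option.some.injEq] at ha
      rw [← ha]
      exact hx

theorem mapSys_extNone {σ : Equiv.Perm (Option V)} (h : σ none = none) (B : Set (Finset V)) :
    mapSys σ (extNone B) = extNone (mapSys (Equiv.removeNone σ) B) := by
  ext o
  simp only [extNone, mapSys, Set.mem_image]
  constructor
  · rintro ⟨_, ⟨b, hb, rfl⟩, rfl⟩
    exact ⟨_, ⟨b, hb, rfl⟩, (image_insertNone_gen h b).symm⟩
  · rintro ⟨_, ⟨b, hb, rfl⟩, rfl⟩
    exact ⟨_, ⟨b, hb, rfl⟩, image_insertNone_gen h b⟩

/-- the members of a family through the extra point, with that point removed -/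
def derNone (T : Set (Finset (Option V))) : Set (Finset V) := {b | Finset.insertNone b ∈ T}

theorem extNone_derNone (T : Set (Finset (Option V))) :
    extNone (derNone T) = {o | o ∈ T ∧ none ∈ o} := by
  ext o
  simp only [extNone, derNone, Set.mem_image, Set.mem_setOf_eq]
  constructor
  · rintro ⟨b, hb, rfl⟩
    exact ⟨hb, by simp⟩
  · rintro ⟨ho, hn⟩
    have h1 : Finset.insertNone (Finset.eraseNone o) = o := by
      rw [Finset.insertNone_eraseNone, Finset.insert_eq_of_mem hn]
    exact ⟨Finset.eraseNone o, by rw [h1]; exact ho, h1⟩

end

end Cfsg.Agent.Helper92
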