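import Cfsg.Agent.Helper27.OutChain

/-!
All automorphisms are inner for a finite group `G` with elements `A` (of prime order `p`, `p ^ 2`
not dividing the order of `G`, self-centralising), `B` (normalising `⟨A⟩`, with centraliser
`⟨B⟩ × S`), `C` (normalising `⟨B⟩` and centralising `S`), when all automorphisms of
`M = ⟨A, B, C⟩` are inner, `G = ⟨M, S⟩`, and an automorphism fixing `M` pointwise and mapping `S`
to itself fixes `S` pointwise.
-/

set_option autoImplicit false

namespace Cfsg.Agent.Helper92.OutCo1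

open Cfsg.Agent.Helper27

/-- an automorphism fixing pointwise two subgroups that generate the group is trivial -/
theorem eq_one_of_fix_sup {G : Type*} [Group G] (M S : Subgroup G) (hgen : M ⊔ S = ⊤)
    (ψ : MulAut G) (hM : ∀ x ∈ M, ψ x = x) (hS : ∀ t ∈ S, ψ t = t) : ψ = 1 := by
  have hEq : Set.EqOn ((ψ : G ≃* G) : G →* G) (MonoidHom.id G)
      (Subgroup.closure ((M : Set G) ∪ (S : Set G))) := by
    apply MonoidHom.eqOn_closure
    rintro u (hu | hu)
    · exact hM u hu
    · exact hS u hu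
  ext u
  have hu : u ∈ Subgroup.closure ((M : Set G) ∪ (S : Set G)) := by
    rw [Subgroup.closure_union, Subgroup.closure_eq, Subgroup.closure_eq, hgen]
    trivial
  exact hEq hu

theorem commute_zpowers_of_commute {G : Type*} [Group G] {B t z : G} (h : t * B = B * t)
    (hz : z ∈ Subgroup.zpowers B) : t * z = z * t := by
  obtain ⟨n, rfl⟩ := Subgroup.mem_zpowers_iff.mp hz
  exact ((show Commute t B from h).zpow_right n).eq

theorem eq_one_of_pow_six {G : Type*} [Group G] {B z : G} (hco : Nat.Coprime (orderOf B) 6)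
    (hz : z ∈ Subgroup.zpowers B) (h6 : z ^ 6 = 1) : z = 1 := by
  have h1 : orderOf z ∣ 6 := orderOf_dvd_of_pow_eq_one h6
  have h2 : orderOf z ∣ orderOf B := orderOf_dvd_of_mem_zpowers hz
  have h3 : orderOf z ∣ Nat.gcd (orderOf B) 6 := Nat.dvd_gcd h2 h1
  rw [hco] at h3
  exact orderOf_eq_one_iff.mp (Nat.dvd_one.mp h3)

theorem inn_eq_top_of_chain_sym {G : Type*} [Group G] [Finite G] (p : ℕ) [Fact p.Prime]
    (A B C : G) (s k : ℕ) (M S : Subgroup G)
    (hoA : orderOf A = p) (hp2 : ¬ p ^ 2 ∣ Nat.card G)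
    (hcA : ∀ g : G, g * A = A * g → g ∈ Subgroup.zpowers A)
    (hBA : B * A * B⁻¹ = A ^ s)
    (hnA : ∀ z ∈ Subgroup.zpowers A, ∃ T ∈ Subgroup.zpowers A, T * (B * z) * T⁻¹ = B)
    (hcB : ∀ g : G, g * B = B * g → ∃ z ∈ Subgroup.zpowers B, ∃ t ∈ S, g = z * t)
    (hSB : ∀ t ∈ S, t * B = B * t)
    (hS6 : ∀ t ∈ S, t ^ 6 = 1)
    (hoB : Nat.Coprime (orderOf B) 6)
    (hSZ : ∀ z ∈ S, (∀ t ∈ S, z * t = t * z) → z = 1)
    (hCB : C * B * C⁻¹ = B ^ k)
    (hCS : ∀ t ∈ S, C * t = t * C)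
    (hM : M = Subgroup.closure ({A, B, C} : Set G))
    (hMinn : ∀ φ : MulAut M, ∃ m : M, ∀ x : M, φ x = m * x * m⁻¹)
    (hpin : ∀ ψ : MulAut G, (∀ x ∈ M, ψ x = x) → (∀ t ∈ S, ψ t ∈ S) → ∀ t ∈ S, ψ t = t)
    (hgen : M ⊔ S = ⊤) :
    (MulAut.conj : G →* MulAut G).range = ⊤ := by
  have hpp : p.Prime := Fact.out
  have hAM : A ∈ M := by rw [hM]; exact Subgroup.subset_closure (by simp)
  have hBM : B ∈ M := by rw [hM]; exact Subgroup.subset_closure (by simp)
  have hCM : C ∈ M := by rw [hM]; exact Subgroup.subset_closure (by simp)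
  -- an automorphism fixing `B` maps `S` into `S`
  have hSinv : ∀ ψ : MulAut G, ψ B = B → ∀ t ∈ S, ψ t ∈ S := by
    intro ψ hB t ht
    have h1 : ψ t * B = B * ψ t := by
      have := congrArg ψ (hSB t ht)
      rwa [map_mul, map_mul, hB] at this
    obtain ⟨z, hz, t', ht', e⟩ := hcB _ h1
    have h6 : (ψ t) ^ 6 = 1 := by rw [← map_pow, hS6 t ht, map_one]
    have hcomm : Commute z t' := (commute_zpowers_of_commute (hSB t' ht') hz).symm
    rw [e, hcomm.mul_pow, hS6 t' ht', mul_one] at h6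
    rw [e, eq_one_of_pow_six hoB hz h6, one_mul]
    exact ht'
  -- step 3
  have R3 : ∀ ψ : MulAut G, (∀ x ∈ M, ψ x = x) →
      ψ ∈ (MulAut.conj : G →* MulAut G).range := by
    intro ψ hfix
    have h1 := hSinv ψ (hfix B hBM)
    have h2 := hpin ψ hfix h1
    rw [eq_one_of_fix_sup M S hgen ψ hfix h2]
    exact Subgroup.one_mem _
  -- step 2
  have R2 : ∀ ψ : MulAut G, ψ A ∈ Subgroup.zpowers A → ψ B = B →
      ψ ∈ (MulAut.conj : G →* MulAut G).range := by
    intro ψ h1 h2
    have hSψ := hSinv ψ h2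
    -- `ψ` maps `S` onto `S`
    have hSsurj : ∀ u ∈ S, ∃ t ∈ S, ψ t = u := by
      intro u hu
      have hinj : Function.Injective (fun t : S => (⟨ψ t, hSψ t t.2⟩ : S)) := by
        intro t t' h
        have := congrArg Subtype.val h
        exact Subtype.ext (ψ.injective this)
      obtain ⟨t, ht⟩ := (Finite.injective_iff_surjective.mp hinj) ⟨u, hu⟩
      exact ⟨t, t.2, congrArg Subtype.val ht⟩
    have e1 : ψ C * B * (ψ C)⁻¹ = B ^ k := by
      have := congrArg ψ hCB
      rwa [map_mul, map_mul, map_inv, map_pow, h2] at this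
    have hZ : (C⁻¹ * ψ C) * B = B * (C⁻¹ * ψ C) := by
      have e2 : ψ C * B = B ^ k * ψ C := by rw [← e1]; group
      have e3 : C * B = B ^ k * C := by rw [← hCB]; group
      have e4 : C⁻¹ * B ^ k = B * C⁻¹ := by
        rw [inv_mul_eq_iff_eq_mul, ← mul_assoc, e3, mul_inv_cancel_right]
      rw [mul_assoc, e2, ← mul_assoc, e4, mul_assoc]
    obtain ⟨z, hz, t, ht, e⟩ := hcB _ hZ
    have hψC : ψ C = C * z * t := by rw [mul_assoc, ← e]; group
    have ht1 : t = 1 := by
      apply hSZ t ht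
      intro u hu
      obtain ⟨u', hu', rfl⟩ := hSsurj u hu
      have c1 : ψ C * ψ u' = ψ u' * ψ C := by
        rw [← map_mul, ← map_mul, hCS u' hu']
      have c2 : C * ψ u' = ψ u' * C := hCS _ (hSψ u' hu')
      have c3 : ψ u' * z = z * ψ u' := commute_zpowers_of_commute (hSB _ (hSψ u' hu')) hz
      have e5 : t = z⁻¹ * C⁻¹ * ψ C := by rw [hψC]; group
      rw [e5]
      calc z⁻¹ * C⁻¹ * ψ C * ψ u' = z⁻¹ * C⁻¹ * (ψ u' * ψ C) := by rw [mul_assoc, c1]
        _ = z⁻¹ * (C⁻¹ * ψ u') * ψ C := by group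
        _ = z⁻¹ * (ψ u' * C⁻¹) * ψ C := by
            have : C⁻¹ * ψ u' = ψ u' * C⁻¹ := by
              rw [inv_mul_eq_iff_eq_mul, ← mul_assoc, c2, mul_inv_cancel_right]
            rw [this]
        _ = (z⁻¹ * ψ u') * C⁻¹ * ψ C := by group
        _ = (ψ u' * z⁻¹) * C⁻¹ * ψ C := by
            have : z⁻¹ * ψ u' = ψ u' * z⁻¹ := by
              rw [inv_mul_eq_iff_eq_mul, ← mul_assoc, ← c3, mul_inv_cancel_right]
            rw [this]
        _ = ψ u' * (z⁻¹ * C⁻¹ * ψ C) := by group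
    rw [ht1, mul_one] at hψC
    have hzM : z ∈ M := (Subgroup.zpowers_le.mpr hBM) hz
    -- `ψ` maps `M` onto `M`
    have hMle : M.map (ψ : G ≃* G).toMonoidHom ≤ M := by
      rw [hM, MonoidHom.map_closure, Subgroup.closure_le, ← hM]
      rintro _ ⟨u, hu, rfl⟩
      rcases hu with rfl | rfl | hu
      · exact (Subgroup.zpowers_le.mpr hAM) h1
      · show ψ u ∈ M
        rw [h2]; exact hBM
      · rw [Set.mem_singleton_iff] at hu
        subst hu
        show ψ u ∈ M
        rw [hψC]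
        exact M.mul_mem hCM hzM
    have hMeq : M.map (ψ : G ≃* G).toMonoidHom = M := by
      apply Subgroup.eq_of_le_of_card_ge hMle
      rw [Subgroup.card_map_of_injective ψ.injective]
    let φ : MulAut M := ((ψ : G ≃* G).subgroupMap M).trans (MulEquiv.subgroupCongr hMeq)
    have hφ : ∀ x : M, ((φ x : M) : G) = ψ x := fun x => rfl
    obtain ⟨m, hm⟩ := hMinn φ
    apply mem_inn_of_mul_mem ((m : G)⁻¹)
    apply R3
    intro x hx
    rw [MulAut.mul_apply, MulAut.conj_apply]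
    have := congrArg Subtype.val (hm ⟨x, hx⟩)
    rw [hφ] at this
    simp only [Subgroup.coe_mul, Subgroup.coe_inv] at this
    rw [this]
    group
  -- step 1
  have R1 : ∀ ψ : MulAut G, ψ A ∈ Subgroup.zpowers A →
      ψ ∈ (MulAut.conj : G →* MulAut G).range := by
    intro ψ h1
    set x := ψ A with hx
    have hox : orderOf x = p := by rw [hx, MulEquiv.orderOf_eq, hoA]
    have hzp : Subgroup.zpowers x = Subgroup.zpowers A := by
      apply Subgroup.eq_of_le_of_card_ge (Subgroup.zpowers_le.mpr h1)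
      rw [Nat.card_zpowers, Nat.card_zpowers, hox, hoA]
    have hAx : A ∈ Subgroup.zpowers x := by rw [hzp]; exact Subgroup.mem_zpowers A
    have e0 : B * x * B⁻¹ = x ^ s := by
      obtain ⟨z, hz⟩ := Subgroup.mem_zpowers_iff.mp h1
      rw [← hz, ← conj_zpow, hBA, ← zpow_natCast, ← zpow_natCast, ← zpow_mul, ← zpow_mul,
        mul_comm]
    have e1 : ψ B * x * (ψ B)⁻¹ = x ^ s := by
      have := congrArg ψ hBA
      rwa [map_mul, map_mul, map_inv, map_pow] at this
    have hZx : (B⁻¹ * ψ B) * x = x * (B⁻¹ * ψ B) := by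
      have e2 : ψ B * x = x ^ s * ψ B := by rw [← e1]; group
      have e3 : B * x = x ^ s * B := by rw [← e0]; group
      have e4 : B⁻¹ * x ^ s = x * B⁻¹ := by
        rw [inv_mul_eq_iff_eq_mul, ← mul_assoc, e3, mul_inv_cancel_right]
      rw [mul_assoc, e2, ← mul_assoc, e4, mul_assoc]
    have hZ : (B⁻¹ * ψ B) * A = A * (B⁻¹ * ψ B) := by
      obtain ⟨z, hz⟩ := Subgroup.mem_zpowers_iff.mp hAx
      rw [← hz]
      exact ((show Commute (B⁻¹ * ψ B) x from hZx).zpow_right z).eq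
    have hZm := hcA _ hZ
    obtain ⟨T, hT, hTC⟩ := hnA _ hZm
    apply mem_inn_of_mul_mem T
    apply R2
    · rw [MulAut.mul_apply, MulAut.conj_apply, ← hx, commute_of_mem_zpowers hT h1,
        mul_inv_cancel_right]
      exact h1
    · rw [MulAut.mul_apply, MulAut.conj_apply]
      rw [mul_inv_cancel_left] at hTC
      exact hTC
  rw [eq_top_iff]
  intro φ _
  obtain ⟨g, hg⟩ := exists_conj_mem_zpowers p A hoA hp2 φ
  apply mem_inn_of_mul_mem g
  apply R1
  rw [MulAut.mul_apply, MulAut.conj_apply]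
  exact hg

end Cfsg.Agent.Helper92.OutCo1
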