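import Cfsg.Agent.Helper92.OutCo1Mono
import Cfsg.Agent.Helper8.Co0Order

/-!
The centraliser of the translation in the automorphism group of the rank-24 lattice.
-/

set_option autoImplicit false

namespace Cfsg.Agent.Helper92.OutCo1

open Cfsg Cfsg.Agent.Helper8 Cfsg.Agent.Helper27 Cfsg.Agent.Helper7 Cfsg.Agent.Helper92
  Cfsg.Agent.Helper92.Co1

theorem card_mem_of_mem_supports {c : Finset GolayPt}
    (hc : c ∈ supports (golayCode : Set (GolayPt → ZMod 2))) :
    c.card = 0 ∨ c.card = 8 ∨ c.card = 12 ∨ c.card = 16 ∨ c.card = 24 := by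
  obtain ⟨w, hw, rfl⟩ := hc
  exact weight_mem w hw

theorem symmDiff_empty_right (c : Finset GolayPt) : symmDiff c (∅ : Finset GolayPt) = c := by
  ext p
  simp [Finset.mem_symmDiff]

theorem symmDiff_empty_left (c : Finset GolayPt) : symmDiff (∅ : Finset GolayPt) c = c := by
  ext p
  simp [Finset.mem_symmDiff]

theorem sqNorm_vec8' (i : GolayPt) : sqNorm ((vec8 i : ↥leechLattice) : GolayPt → ℤ) = 64 := by
  rw [vec8_val]
  unfold sqNorm
  rw [Finset.sum_eq_single i]
  · simp
  · intro b _ hb
    rw [Pi.single_eq_of_ne hb]; ring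
  · intro h; exact absurd (Finset.mem_univ i) h

/-- a monomial automorphism commuting with a coordinate permutation -/
theorem actsAs_commute {g : ↥Co0} {σ : Equiv.Perm GolayPt} {c : Finset GolayPt} (hg : ActsAs g σ c)
    (τ : ↥M24) (h : g * permCo0 τ = permCo0 τ * g) :
    σ * (τ : Equiv.Perm GolayPt) = (τ : Equiv.Perm GolayPt) * σ ∧
      c.map (τ : Equiv.Perm GolayPt).toEmbedding = c := by
  have h1 := actsAs_mul hg (actsAs_permCo0 τ)
  have h2 := actsAs_mul (actsAs_permCo0 τ) hg
  rw [h] at h1
  have h3 := actsAs_inj h1 h2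
  rw [Finset.map_empty, symmDiff_empty_right, symmDiff_empty_left] at h3
  exact ⟨h3.1, h3.2.symm⟩

/-- the standard cross vector at the extra point is fixed by monomial elements fixing that point -/
theorem permCo0_smul_vec8 (τ : ↥M24) (i : GolayPt) : permCo0 τ • vec8 i = vec8 ((τ : Equiv.Perm GolayPt) i) := by
  apply Subtype.ext
  rw [actsAs_vec8 (actsAs_permCo0 τ) i, if_neg (Finset.notMem_empty _), vec8_val]

theorem trP_inv_some (t : ZMod 23) : (trP 1).symm (some t) = some (t - 1) := by
  rw [Equiv.symm_apply_eq, trP_some, sub_add_cancel]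

/-- a vector fixed by the translation is constant on the residues -/
theorem const_of_trP_fixed (y : GolayPt → ℤ) (h : signedPerm (trP 1) ∅ y = y) (t : ZMod 23) :
    y (some t) = y (some 0) := by
  have step : ∀ u : ZMod 23, y (some u) = y (some (u - 1)) := by
    intro u
    have := congrFun h (some u)
    rw [signedPerm_empty_apply, trP_inv_some] at this
    exact this.symm
  have key : ∀ n : ℕ, y (some ((n : ℕ) : ZMod 23)) = y (some 0) := by
    intro n
    induction n with
    | zero => rw [Nat.cast_zero]
    | succ n ih =>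
      rw [step, Nat.cast_succ, add_sub_cancel_right, ih]
  have := key t.val
  rwa [ZMod.natCast_zmod_val] at this

theorem arith_a (r q : ℤ) (h : r ^ 2 + 23 * q ^ 2 = 64) : q = 0 ∧ (r = 8 ∨ r = -8) := by
  have hq : q ^ 2 ≤ 2 := by nlinarith [sq_nonneg r]
  have hq1 : -1 ≤ q ∧ q ≤ 1 := by constructor <;> nlinarith
  have hr : r ^ 2 ≤ 64 := by nlinarith [sq_nonneg q]
  have hr1 : -8 ≤ r ∧ r ≤ 8 := by constructor <;> nlinarith
  obtain ⟨h1, h2⟩ := hq1
  obtain ⟨h3, h4⟩ := hr1
  interval_cases q <;> interval_cases r <;> simp_all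

/-- an automorphism commuting with the translation is monomial -/
theorem mem_monoSub_of_commute_a {g : ↥Co0} (h : g * permCo0 aP = permCo0 aP * g) :
    g ∈ monoSub := by
  rw [mem_monoSub, fixesCross_iff g none]
  set y := g • vec8 none with hy
  have hay : permCo0 aP • y = y := by
    rw [hy, ← mul_smul, ← h, mul_smul, permCo0_smul_vec8]
    rfl
  have hfix : signedPerm (trP 1) ∅ y.1 = y.1 := by
    have := congrArg (fun v : ↥leechLattice => (v : GolayPt → ℤ)) hay
    exact (actsAs_permCo0 aP y).symm.trans this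
  have hconst := const_of_trP_fixed y.1 hfix
  have hn : sqNorm y.1 = 64 := by rw [hy, co0_sqNorm, sqNorm_vec8']
  unfold sqNorm at hn
  rw [Fintype.sum_option] at hn
  have hsum : ∑ t : ZMod 23, (y.1 (some t)) ^ 2 = 23 * (y.1 (some 0)) ^ 2 := by
    rw [Finset.sum_congr rfl (fun t _ => by rw [hconst t])]
    rw [Finset.sum_const, Finset.card_univ, ZMod.card, nsmul_eq_mul]
    norm_num
  rw [hsum] at hn
  obtain ⟨hq, hr⟩ := arith_a _ _ hn
  refine ⟨none, y.1 none, hr, ?_⟩
  funext p
  cases p with
  | none => rw [Pi.single_eq_same]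
  | some t => rw [Pi.single_eq_of_ne (Option.some_ne_none t), hconst t, hq]

/-- an invariant set of sign changes under the translation is empty or everything -/
theorem eq_empty_or_univ_of_trP {c : Finset GolayPt}
    (hc : c ∈ supports (golayCode : Set (GolayPt → ZMod 2)))
    (hinv : c.map (trP 1).toEmbedding = c) : c = ∅ ∨ c = Finset.univ := by
  have hmem : ∀ p, p ∈ c ↔ trP 1 p ∈ c := by
    intro p
    constructor
    · intro hp
      rw [← hinv]
      exact Finset.mem_map_of_mem _ hp
    · intro hp
      rw [← hinv, Finset.mem_map_equiv] at hp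
      simpa using hp
  have hall : ∀ n : ℕ, (some ((n : ℕ) : ZMod 23) ∈ c ↔ some (0 : ZMod 23) ∈ c) := by
    intro n
    induction n with
    | zero => simp
    | succ n ih =>
      rw [← ih, hmem (some (n : ZMod 23)), trP_some, Nat.cast_succ]
  have hall' : ∀ t : ZMod 23, (some t ∈ c ↔ some (0 : ZMod 23) ∈ c) := by
    intro t
    have := hall t.val
    rwa [ZMod.natCast_zmod_val] at this
  have hcard := card_mem_of_mem_supports hc
  by_cases h0 : some (0 : ZMod 23) ∈ c
  · right
    have hsub : (Finset.univ : Finset (ZMod 23)).map ⟨some, Option.some_injective _⟩ ⊆ c := by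
      intro p hp
      rw [Finset.mem_map] at hp
      obtain ⟨t, -, rfl⟩ := hp
      exact (hall' t).mpr h0
    have h23 : 23 ≤ c.card := by
      have := Finset.card_le_card hsub
      rwa [Finset.card_map, Finset.card_univ, ZMod.card] at this
    have h24 : c.card = 24 := by omega
    apply Finset.eq_univ_of_card
    rw [h24]
    rfl
  · left
    have hsub : c ⊆ {none} := by
      intro p hp
      cases p with
      | none => simp
      | some t => exact absurd ((hall' t).mp hp) h0
    have h1 : c.card ≤ 1 := by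
      have := Finset.card_le_card hsub
      simpa using this
    have h0' : c.card = 0 := by omega
    exact Finset.card_eq_zero.mp h0'

/-- the centraliser of the translation: its powers and their negatives -/
theorem cent_a {g : ↥Co0} (h : g * permCo0 aP = permCo0 aP * g) :
    ∃ k : ℕ, g = permCo0 aP ^ k ∨ g = negCo0 * permCo0 aP ^ k := by
  obtain ⟨σ, hσ, c, hc, hg⟩ := exists_actsAs_of_mem_monoSub (mem_monoSub_of_commute_a h)
  obtain ⟨h1, h2⟩ := actsAs_commute hg aP h
  obtain ⟨b, hb⟩ := eq_trP_of_commute h1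
  have hpow : ActsAs (permCo0 aP ^ b.val) σ ∅ := by
    rw [← map_pow]
    have := actsAs_permCo0 (aP ^ b.val)
    rwa [Subgroup.coe_pow, show ((aP : ↥M24) : Equiv.Perm GolayPt) = trP 1 from rfl,
      ← trP_eq_pow, ← hb] at this
  refine ⟨b.val, ?_⟩
  rcases eq_empty_or_univ_of_trP hc h2 with rfl | rfl
  · left
    exact actsAs_unique hg hpow
  · right
    apply actsAs_unique hg
    have := actsAs_mul actsAs_negCo0 hpow
    rwa [Finset.map_empty, symmDiff_empty_right, one_mul] at this

end Cfsg.Agent.Helper92.OutCo1
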