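import Cfsg.Agent.Helper92.OutCo1CentA
import Cfsg.Agent.Helper8.Decomp48b

/-!
The centraliser of the multiplication `t ↦ 2 t` in the automorphism group of the rank-24 lattice:
the vectors of sum of squares 64 fixed by it.
-/

set_option autoImplicit false

namespace Cfsg.Agent.Helper92.OutCo1

open Cfsg Cfsg.Agent.Helper8 Cfsg.Agent.Helper27 Cfsg.Agent.Helper7 Cfsg.Agent.Helper92
  Cfsg.Agent.Helper92.Co1

/-! ### the four orbits of the multiplication -/

/-- the classes: the extra point, zero, the nonzero squares, the nonsquares -/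
def clsTab : List (Fin 4) :=
  [1, 2, 2, 2, 2, 3, 2, 3, 2, 2, 3, 3, 2, 2, 3, 3, 2, 3, 2, 3, 3, 3, 3, 0]

/-- the class of a point -/
def cls (p : GolayPt) : Fin 4 := clsTab.getD (gIdx p) 0

/-- representatives of the classes -/
def rep (j : Fin 4) : GolayPt :=
  if j = 0 then none else if j = 1 then some 0 else if j = 2 then some 1 else some (-1)

theorem exists_iterate_rep : ∀ p : GolayPt, ∃ k < 11, p = (⇑mu23)^[k] (rep (cls p)) := by
  decide +kernel

theorem cls_rep : ∀ j : Fin 4, cls (rep j) = j := by decide +kernel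

theorem sum_cls (H : Fin 4 → ℤ) :
    ∑ i : GolayPt, H (cls i) = H 0 + H 1 + 11 * H 2 + 11 * H 3 := by
  rw [Finset.sum_comp H cls]
  have himg : (Finset.univ : Finset GolayPt).image cls = Finset.univ := by decide +kernel
  rw [himg, Fin.sum_univ_four]
  have c0 : (Finset.univ.filter fun a : GolayPt => cls a = 0).card = 1 := by decide +kernel
  have c1 : (Finset.univ.filter fun a : GolayPt => cls a = 1).card = 1 := by decide +kernel
  have c2 : (Finset.univ.filter fun a : GolayPt => cls a = 2).card = 11 := by decide +kernel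
  have c3 : (Finset.univ.filter fun a : GolayPt => cls a = 3).card = 11 := by decide +kernel
  rw [c0, c1, c2, c3]
  simp only [one_smul, nsmul_eq_mul, Nat.cast_ofNat]

/-- a function invariant under the multiplication is a function of the class -/
theorem eq_of_mu23_invariant {α : Type*} (f : GolayPt → α) (h : ∀ p, f (mu23 p) = f p)
    (p : GolayPt) : f p = f (rep (cls p)) := by
  obtain ⟨k, -, hk⟩ := exists_iterate_rep p
  have key : ∀ (n : ℕ) (q : GolayPt), f ((⇑mu23)^[n] q) = f q := by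
    intro n
    induction n with
    | zero => intro q; rfl
    | succ n ih =>
      intro q
      rw [Function.iterate_succ_apply', h, ih]
  conv_lhs => rw [hk]
  exact key k _

/-! ### the fixed vectors of sum of squares 64 -/

/-- the twelve candidates -/
def L12 : List (ℤ × ℤ × ℤ × ℤ) :=
  [(8, 0, 0, 0), (-8, 0, 0, 0), (0, 8, 0, 0), (0, -8, 0, 0),
   (-4, 2, -2, 0), (4, -2, 2, 0), (-2, -4, 0, 2), (2, 4, 0, -2),
   (-4, -2, 2, 0), (4, 2, -2, 0), (2, -4, 0, -2), (-2, 4, 0, 2)]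

theorem classify12 : ∀ r ∈ Finset.Icc (-8 : ℤ) 8, ∀ x ∈ Finset.Icc (-8 : ℤ) 8,
    ∀ p ∈ Finset.Icc (-2 : ℤ) 2, ∀ q ∈ Finset.Icc (-2 : ℤ) 2,
      r ^ 2 + x ^ 2 + 11 * p ^ 2 + 11 * q ^ 2 = 64 →
      (-3 * r + x + 11 * p + 11 * q) % 8 = 0 → (2 * x + 22 * p) % 8 = 0 →
      (r, x, p, q) ∈ L12 := by
  decide +kernel

theorem classify12' (r x p q : ℤ) (hn : r ^ 2 + x ^ 2 + 11 * p ^ 2 + 11 * q ^ 2 = 64)
    (h1 : (8 : ℤ) ∣ -3 * r + x + 11 * p + 11 * q) (h2 : (8 : ℤ) ∣ 2 * x + 22 * p) :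
    (r, x, p, q) ∈ L12 := by
  have hr : r ^ 2 ≤ 64 := by nlinarith [sq_nonneg x, sq_nonneg p, sq_nonneg q]
  have hx : x ^ 2 ≤ 64 := by nlinarith [sq_nonneg r, sq_nonneg p, sq_nonneg q]
  have hp : p ^ 2 ≤ 5 := by nlinarith [sq_nonneg r, sq_nonneg x, sq_nonneg q]
  have hq : q ^ 2 ≤ 5 := by nlinarith [sq_nonneg r, sq_nonneg x, sq_nonneg p]
  apply classify12 r _ x _ p _ q _ hn (Int.emod_eq_zero_of_dvd h1) (Int.emod_eq_zero_of_dvd h2)
  · rw [Finset.mem_Icc]; constructor <;> nlinarith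
  · rw [Finset.mem_Icc]; constructor <;> nlinarith
  · rw [Finset.mem_Icc]; constructor <;> nlinarith
  · rw [Finset.mem_Icc]; constructor <;> nlinarith


/-- the dodecad of zero and the nonzero squares -/
def Q0 : Finset GolayPt := Helper27.setOf 340831

theorem Q0_mem : Q0 ∈ supports (golayCode : Set (GolayPt → ZMod 2)) :=
  setOf_mem_supports (by norm_num) (by decide +kernel)

theorem oddVec_cls : ∀ p, Cfsg.Agent.Helper92.oddVec p = (![-3, 1, 1, 1] : Fin 4 → ℤ) (cls p) := by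
  decide +kernel

theorem twoInd_cls : ∀ p, twoInd Q0 p = (![0, 2, 2, 0] : Fin 4 → ℤ) (cls p) := by
  decide +kernel

/-- the action of the multiplication on vectors -/
theorem bP_fixed_iff (y : ↥leechLattice) (h : permCo0 bP • y = y) (p : GolayPt) :
    y.1 (mu23 p) = y.1 p := by
  have h1 : ((permCo0 bP • y : ↥leechLattice) : GolayPt → ℤ) (mu23 p) = y.1 (mu23 p) := by rw [h]
  rw [actsAs_permCo0 bP y, signedPerm_empty_apply] at h1
  have e : ((bP : ↥M24) : Equiv.Perm GolayPt).symm (mu23 p) = p := Equiv.symm_apply_apply mu23 p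
  rw [e] at h1
  exact h1.symm

/-- the lattice vectors of sum of squares 64 fixed by the multiplication -/
theorem fixed_vec (y : ↥leechLattice) (hfix : permCo0 bP • y = y) (hn : sqNorm y.1 = 64) :
    ∃ Y : Fin 4 → ℤ, (Y 0, Y 1, Y 2, Y 3) ∈ L12 ∧ y.1 = fun p => Y (cls p) := by
  have hinv := bP_fixed_iff y hfix
  refine ⟨fun j => y.1 (rep j), ?_, funext (eq_of_mu23_invariant y.1 hinv)⟩
  set Y : Fin 4 → ℤ := fun j => y.1 (rep j) with hY
  have hf : ∀ p, y.1 p = Y (cls p) := eq_of_mu23_invariant y.1 hinv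
  have hnorm : Y 0 ^ 2 + Y 1 ^ 2 + 11 * Y 2 ^ 2 + 11 * Y 3 ^ 2 = 64 := by
    rw [← hn]
    unfold sqNorm
    rw [Finset.sum_congr rfl (fun p _ => by rw [hf p]), sum_cls fun j => Y j ^ 2]
  have hd1 : (8 : ℤ) ∣ -3 * Y 0 + Y 1 + 11 * Y 2 + 11 * Y 3 := by
    have := eight_dvd_dotInt y.2 oddVec_mem_lattice
    unfold dotInt at this
    rw [Finset.sum_congr rfl (fun p _ => by rw [hf p, oddVec_cls p]),
      sum_cls fun j => Y j * (![-3, 1, 1, 1] : Fin 4 → ℤ) j] at this
    simp only [Matrix.cons_val_zero, Matrix.cons_val_one, Matrix.cons_val] at this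
    convert this using 1
    ring
  have hd2 : (8 : ℤ) ∣ 2 * Y 1 + 22 * Y 2 := by
    have := eight_dvd_dotInt y.2 (twoInd_mem Q0_mem)
    unfold dotInt at this
    rw [Finset.sum_congr rfl (fun p _ => by rw [hf p, twoInd_cls p]),
      sum_cls fun j => Y j * (![0, 2, 2, 0] : Fin 4 → ℤ) j] at this
    simp only [Matrix.cons_val_zero, Matrix.cons_val_one, Matrix.cons_val] at this
    convert this using 1
    ring
  exact classify12' _ _ _ _ hnorm hd1 hd2

/-! ### the elements mapping `8 e_∞` to the candidates -/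

/-- the words of the elements of the centraliser that are products of a power of the element of
order three and a sign -/
def U6w : List (List Letter) := [[], nW, sW, sW ++ nW, sW ++ sW, sW ++ sW ++ nW]

theorem U6w_ok : ∀ w ∈ U6w, okW w = true ∧ eqW (w ++ bW) (bW ++ w) = true := by decide +kernel

theorem val_of_word (w : List Letter) (hw : okW w = true) (j : GolayPt) (Y : Fin 4 → ℤ)
    (hdec : ∀ p, vecOf (runW w (e8L (gIdx j))) p = Y (cls p)) :
    ((elt w • vec8 j : ↥leechLattice) : IVec) = fun p => Y (cls p) := by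
  rw [elt_smul_list hw _ _ (vec8_eq_vecOf j)]
  exact funext hdec

theorem fin4_eq (Y : Fin 4 → ℤ) (a b c d : ℤ) (h : (Y 0, Y 1, Y 2, Y 3) = (a, b, c, d)) :
    Y = ![a, b, c, d] := by
  simp only [Prod.mk.injEq] at h
  obtain ⟨h0, h1, h2, h3⟩ := h
  funext j
  fin_cases j
  · exact h0
  · exact h1
  · exact h2
  · exact h3

theorem exists_word_of_fixed (y : ↥leechLattice) (Y : Fin 4 → ℤ) (hY : (Y 0, Y 1, Y 2, Y 3) ∈ L12)
    (hy : y.1 = fun p => Y (cls p)) :
    ∃ w ∈ U6w, ∃ j : GolayPt, (j = none ∨ j = some 0) ∧ y = elt w • vec8 j := by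
  unfold L12 at hY
  simp only [List.mem_cons, List.mem_nil_iff, or_false] at hY
  rcases hY with h | h | h | h | h | h | h | h | h | h | h | h
  · refine ⟨[], List.Mem.head _, none, Or.inl rfl, Subtype.ext ?_⟩
    rw [hy, fin4_eq Y _ _ _ _ h]
    exact (val_of_word ([]) (by decide +kernel) (none) ![8, 0, 0, 0] (by decide +kernel)).symm
  · refine ⟨nW, List.Mem.tail _ (List.Mem.head _), none, Or.inl rfl, Subtype.ext ?_⟩
    rw [hy, fin4_eq Y _ _ _ _ h]
    exact (val_of_word (nW) (by decide +kernel) (none) ![-8, 0, 0, 0] (by decide +kernel)).symm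
  · refine ⟨[], List.Mem.head _, some 0, Or.inr rfl, Subtype.ext ?_⟩
    rw [hy, fin4_eq Y _ _ _ _ h]
    exact (val_of_word ([]) (by decide +kernel) (some 0) ![0, 8, 0, 0] (by decide +kernel)).symm
  · refine ⟨nW, List.Mem.tail _ (List.Mem.head _), some 0, Or.inr rfl, Subtype.ext ?_⟩
    rw [hy, fin4_eq Y _ _ _ _ h]
    exact (val_of_word (nW) (by decide +kernel) (some 0) ![0, -8, 0, 0] (by decide +kernel)).symm
  · refine ⟨sW, List.Mem.tail _ (List.Mem.tail _ (List.Mem.head _)), none, Or.inl rfl, Subtype.ext ?_⟩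
    rw [hy, fin4_eq Y _ _ _ _ h]
    exact (val_of_word (sW) (by decide +kernel) (none) ![-4, 2, -2, 0] (by decide +kernel)).symm
  · refine ⟨sW ++ nW, List.Mem.tail _ (List.Mem.tail _ (List.Mem.tail _ (List.Mem.head _))), none, Or.inl rfl, Subtype.ext ?_⟩
    rw [hy, fin4_eq Y _ _ _ _ h]
    exact (val_of_word (sW ++ nW) (by decide +kernel) (none) ![4, -2, 2, 0] (by decide +kernel)).symm
  · refine ⟨sW, List.Mem.tail _ (List.Mem.tail _ (List.Mem.head _)), some 0, Or.inr rfl, Subtype.ext ?_⟩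
    rw [hy, fin4_eq Y _ _ _ _ h]
    exact (val_of_word (sW) (by decide +kernel) (some 0) ![-2, -4, 0, 2] (by decide +kernel)).symm
  · refine ⟨sW ++ nW, List.Mem.tail _ (List.Mem.tail _ (List.Mem.tail _ (List.Mem.head _))), some 0, Or.inr rfl, Subtype.ext ?_⟩
    rw [hy, fin4_eq Y _ _ _ _ h]
    exact (val_of_word (sW ++ nW) (by decide +kernel) (some 0) ![2, 4, 0, -2] (by decide +kernel)).symm
  · refine ⟨sW ++ sW, List.Mem.tail _ (List.Mem.tail _ (List.Mem.tail _ (List.Mem.tail _ (List.Mem.head _)))), none, Or.inl rfl, Subtype.ext ?_⟩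
    rw [hy, fin4_eq Y _ _ _ _ h]
    exact (val_of_word (sW ++ sW) (by decide +kernel) (none) ![-4, -2, 2, 0] (by decide +kernel)).symm
  · refine ⟨sW ++ sW ++ nW, List.Mem.tail _ (List.Mem.tail _ (List.Mem.tail _ (List.Mem.tail _ (List.Mem.tail _ (List.Mem.head _))))), none, Or.inl rfl, Subtype.ext ?_⟩
    rw [hy, fin4_eq Y _ _ _ _ h]
    exact (val_of_word (sW ++ sW ++ nW) (by decide +kernel) (none) ![4, 2, -2, 0] (by decide +kernel)).symm
  · refine ⟨sW ++ sW, List.Mem.tail _ (List.Mem.tail _ (List.Mem.tail _ (List.Mem.tail _ (List.Mem.head _)))), some 0, Or.inr rfl, Subtype.ext ?_⟩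
    rw [hy, fin4_eq Y _ _ _ _ h]
    exact (val_of_word (sW ++ sW) (by decide +kernel) (some 0) ![2, -4, 0, -2] (by decide +kernel)).symm
  · refine ⟨sW ++ sW ++ nW, List.Mem.tail _ (List.Mem.tail _ (List.Mem.tail _ (List.Mem.tail _ (List.Mem.tail _ (List.Mem.head _))))), some 0, Or.inr rfl, Subtype.ext ?_⟩
    rw [hy, fin4_eq Y _ _ _ _ h]
    exact (val_of_word (sW ++ sW ++ nW) (by decide +kernel) (some 0) ![-2, 4, 0, 2] (by decide +kernel)).symm

end Cfsg.Agent.Helper92.OutCo1
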