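import Cfsg.Agent.Helper92.OutCo1CentB

/-!
The centraliser of the multiplication `t ↦ 2 t` in the automorphism group of the rank-24 lattice.
-/

set_option autoImplicit false

namespace Cfsg.Agent.Helper92.OutCo1

open Cfsg Cfsg.Agent.Helper8 Cfsg.Agent.Helper27 Cfsg.Agent.Helper7 Cfsg.Agent.Helper92
  Cfsg.Agent.Helper92.Co1

/-! ### code words invariant under the multiplication -/

/-- the union of the classes selected by `B` -/
def cset (B : Fin 4 → Bool) : Finset GolayPt := Finset.univ.filter fun p => B (cls p) = true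

theorem isCode_of_mem_supports {c : Finset GolayPt}
    (hc : c ∈ supports (golayCode : Set (GolayPt → ZMod 2))) :
    isCode (Helper27.maskOfSet c) = true := by
  rw [Helper27.mem_supports_iff] at hc
  rw [← Helper27.setOf_maskOfSet c, Helper27.indWord_setOf] at hc
  exact (wordOf_mem_golayCode_iff (Helper27.maskOfSet_lt c)).mp hc

theorem cset_code : ∀ B : Fin 4 → Bool, isCode (Helper27.maskOfSet (cset B)) = true → B 0 = false →
    cset B = ∅ ∨ cset B = Q0 := by
  decide +kernel

theorem eq_cset_of_invariant {c : Finset GolayPt}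
    (hinv : c.map (mu23 : Equiv.Perm GolayPt).toEmbedding = c) :
    c = cset fun j => decide (rep j ∈ c) := by
  have hmem : ∀ p, (mu23 p ∈ c) = (p ∈ c) := by
    intro p
    apply propext
    constructor
    · intro hp
      rw [← hinv, Finset.mem_map_equiv] at hp
      simpa using hp
    · intro hp
      rw [← hinv]
      exact Finset.mem_map_of_mem _ hp
  have h := eq_of_mu23_invariant (fun p => p ∈ c) hmem
  ext p
  unfold cset
  rw [Finset.mem_filter, decide_eq_true_eq]
  simp only [Finset.mem_univ, true_and]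
  rw [h p]

theorem invariant_supports {c : Finset GolayPt}
    (hc : c ∈ supports (golayCode : Set (GolayPt → ZMod 2)))
    (hinv : c.map (mu23 : Equiv.Perm GolayPt).toEmbedding = c) (hn : none ∉ c) :
    c = ∅ ∨ c = Q0 := by
  have e := eq_cset_of_invariant hinv
  have h1 := isCode_of_mem_supports hc
  rw [e] at h1
  have h0 : (fun j : Fin 4 => decide (rep j ∈ c)) 0 = false := by
    show decide (rep 0 ∈ c) = false
    rw [decide_eq_false_iff_not]
    exact hn
  have := cset_code _ h1 h0
  rwa [← e] at this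

/-! ### the monomial elements of the centraliser -/

theorem actsAs_elt_eW : ActsAs (elt eW) 1 Q0 := actsAs_elt_S eW_ok

theorem mu23_pow_none (k : ℕ) : (mu23 ^ k) none = none := by
  induction k with
  | zero => rfl
  | succ k ih => rw [pow_succ, Equiv.Perm.mul_apply, show mu23 none = none from rfl, ih]

/-- a monomial automorphism commuting with the multiplication -/
theorem mono_cent_b {h : ↥Co0} {σ : Equiv.Perm GolayPt} {c : Finset GolayPt} (hσ : σ ∈ M24)
    (hc : c ∈ supports (golayCode : Set (GolayPt → ZMod 2))) (hh : ActsAs h σ c)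
    (hcomm : h * permCo0 bP = permCo0 bP * h) :
    ∃ k : ℕ, σ = mu23 ^ k ∧ ActsAs (permCo0 bP ^ k) σ ∅ ∧
      c.map (mu23 : Equiv.Perm GolayPt).toEmbedding = c := by
  obtain ⟨h1, h2⟩ := actsAs_commute hh bP hcomm
  have hQ := mem_Q23_of_commute hσ h1
  obtain ⟨k, -, hk⟩ := exists_lt_pow_of_mem_zpowers (n := 11) (by norm_num) mu23_pow_eleven hQ
  refine ⟨k, hk, ?_, h2⟩
  rw [← map_pow]
  have := actsAs_permCo0 (bP ^ k)
  rwa [Subgroup.coe_pow, show ((bP : ↥M24) : Equiv.Perm GolayPt) = mu23 from rfl, ← hk] at this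

/-- an automorphism fixing `8 e_∞` and commuting with the multiplication -/
theorem cent_b_fix {h : ↥Co0} (hfix : h • vec8 none = vec8 none)
    (hcomm : h * permCo0 bP = permCo0 bP * h) :
    ∃ k : ℕ, h = permCo0 bP ^ k ∨ h = elt eW * permCo0 bP ^ k := by
  have hm : h ∈ monoSub := by
    rw [mem_monoSub, fixesCross_iff h none, hfix]
    exact ⟨none, 8, Or.inl rfl, rfl⟩
  obtain ⟨σ, hσ, c, hc, hh⟩ := exists_actsAs_of_mem_monoSub hm
  obtain ⟨k, hk, hpow, hinv⟩ := mono_cent_b hσ hc hh hcomm
  have hn : none ∉ c := by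
    intro hmem
    have h1 := actsAs_vec8 hh none
    rw [hfix, vec8_val, hk, mu23_pow_none, if_pos hmem] at h1
    have := congrFun h1 none
    rw [Pi.single_eq_same, Pi.single_eq_same] at this
    norm_num at this
  refine ⟨k, ?_⟩
  rcases invariant_supports hc hinv hn with rfl | rfl
  · left
    exact actsAs_unique hh hpow
  · right
    apply actsAs_unique hh
    have := actsAs_mul actsAs_elt_eW hpow
    rwa [Finset.map_empty, symmDiff_empty_right, one_mul] at this

/-- no automorphism commuting with the multiplication maps `8 e_∞` to `8 e_0` -/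
theorem cent_b_swap {h : ↥Co0} (hfix : h • vec8 none = vec8 (some 0))
    (hcomm : h * permCo0 bP = permCo0 bP * h) : False := by
  have hm : h ∈ monoSub := by
    rw [mem_monoSub, fixesCross_iff h none, hfix]
    exact ⟨some 0, 8, Or.inl rfl, rfl⟩
  obtain ⟨σ, hσ, c, hc, hh⟩ := exists_actsAs_of_mem_monoSub hm
  obtain ⟨k, hk, -, -⟩ := mono_cent_b hσ hc hh hcomm
  have h1 := actsAs_vec8 hh none
  rw [hfix, vec8_val, hk, mu23_pow_none] at h1
  have := congrFun h1 (some 0)
  rw [Pi.single_eq_same, Pi.single_eq_of_ne (Option.some_ne_none _)] at this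
  norm_num at this

/-- the centraliser of the multiplication -/
theorem cent_b {g : ↥Co0} (hcomm : g * permCo0 bP = permCo0 bP * g) :
    ∃ w ∈ U6w, ∃ k : ℕ, g = elt w * permCo0 bP ^ k ∨ g = elt w * (elt eW * permCo0 bP ^ k) := by
  set y := g • vec8 none with hy
  have hby : permCo0 bP • y = y := by
    rw [hy, ← mul_smul, ← hcomm, mul_smul, permCo0_smul_vec8]
    rfl
  have hn : sqNorm y.1 = 64 := by rw [hy, co0_sqNorm, sqNorm_vec8']
  obtain ⟨Y, hY, hyY⟩ := fixed_vec y hby hn
  obtain ⟨w, hw, j, hj, hyw⟩ := exists_word_of_fixed y Y hY hyY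
  obtain ⟨hwok, hwb⟩ := U6w_ok w hw
  have hub : elt w * permCo0 bP = permCo0 bP * elt w := by
    have := elt_eq_of_eqW (okW_append hwok bW_ok) (okW_append bW_ok hwok) hwb
    rwa [elt_append hwok bW_ok, elt_append bW_ok hwok, elt_bW, eq_comm] at this
  set h := (elt w)⁻¹ * g with hh
  have hg : g = elt w * h := by rw [hh, mul_inv_cancel_left]
  have hhb : h * permCo0 bP = permCo0 bP * h := by
    have e1 : (elt w)⁻¹ * permCo0 bP = permCo0 bP * (elt w)⁻¹ := by
      rw [inv_mul_eq_iff_eq_mul, ← mul_assoc, hub, mul_inv_cancel_right]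
    rw [hh, mul_assoc, hcomm, ← mul_assoc, e1, mul_assoc]
  have hfix : h • vec8 none = vec8 j := by
    rw [hh, mul_smul, ← hy, hyw, inv_smul_smul]
  refine ⟨w, hw, ?_⟩
  rcases hj with rfl | rfl
  · obtain ⟨k, hk | hk⟩ := cent_b_fix hfix hhb
    · exact ⟨k, Or.inl (by rw [hg, hk])⟩
    · exact ⟨k, Or.inr (by rw [hg, hk])⟩
  · exact absurd (cent_b_swap hfix hhb) not_false

end Cfsg.Agent.Helper92.OutCo1
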