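import Cfsg.Agent.Helper8.WordCalc
import Cfsg.Agent.Helper8.Co2Rep
import Cfsg.Agent.Helper92.Co1Mono

/-!
Automorphisms of the rank-24 lattice given by words, equality of such automorphisms by evaluation
on the vectors `8 e_i`, and the explicit elements used for the automorphisms of the first Conway
group.
-/

set_option autoImplicit false

namespace Cfsg.Agent.Helper92.OutCo1

open Cfsg Cfsg.Agent.Helper8 Cfsg.Agent.Helper27 Cfsg.Agent.Helper92 Cfsg.Agent.Helper92.Co1

/-! ### words -/

theorem semW_append (w w' : List Letter) (x : IVec) : semW (w ++ w') x = semW w' (semW w x) := by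
  induction w generalizing x with
  | nil => rfl
  | cons a w ih => exact ih (a.sem x)

theorem runW_append (w w' : List Letter) (l : List ℤ) :
    runW (w ++ w') l = runW w' (runW w l) := by
  induction w generalizing l with
  | nil => rfl
  | cons a w ih =>
    rw [List.cons_append, runW_cons, runW_cons, ih]

theorem okW_append {w w' : List Letter} (h : okW w = true) (h' : okW w' = true) :
    okW (w ++ w') = true := by
  unfold okW at *
  rw [List.all_append, h, h']
  rfl

/-- the automorphism of a word (the identity if the word is not valid) -/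
noncomputable def elt (w : List Letter) : ↥Co0 :=
  if h : okW w = true then Classical.choose (exists_co0_word w h) else 1

theorem elt_smul {w : List Letter} (h : okW w = true) (v : ↥leechLattice) :
    ((elt w • v : ↥leechLattice) : IVec) = semW w v.1 := by
  unfold elt
  rw [dif_pos h]
  exact Classical.choose_spec (exists_co0_word w h) v

theorem elt_smul_list {w : List Letter} (h : okW w = true) (v : ↥leechLattice) (l : List ℤ)
    (hv : v.1 = vecOf l) : ((elt w • v : ↥leechLattice) : IVec) = vecOf (runW w l) := by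
  rw [elt_smul h, hv, vecOf_runW w h]

theorem elt_append {w w' : List Letter} (h : okW w = true) (h' : okW w' = true) :
    elt (w ++ w') = elt w' * elt w := by
  apply co0_ext
  intro v
  apply Subtype.ext
  rw [mul_smul, elt_smul (okW_append h h'), elt_smul h', elt_smul h, semW_append]

theorem elt_nil : elt [] = 1 := by
  apply co0_ext
  intro v
  apply Subtype.ext
  rw [elt_smul (w := []) rfl, one_smul]
  rfl

/-! ### equality on the vectors `8 e_i` -/

theorem co0_eq_of_vec8 {g h : ↥Co0} (H : ∀ i, g • vec8 i = h • vec8 i) : g = h := by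
  have hm : Co2Rep.matZ (g : Equiv.Perm ↥leechLattice) = Co2Rep.matZ (h : Equiv.Perm ↥leechLattice) := by
    ext j i
    unfold Co2Rep.matZ
    have e : Co2Rep.vec8 i = vec8 i := Subtype.ext rfl
    rw [e]
    exact congrArg (fun v : ↥leechLattice => (v : GolayPt → ℤ) j) (H i)
  apply co0_ext
  intro y
  apply Subtype.ext
  funext j
  have h1 := congrFun (Co2Rep.matZ_mulVec g.2 y) j
  have h2 := congrFun (Co2Rep.matZ_mulVec h.2 y) j
  rw [hm, h2] at h1
  simp only [Pi.smul_apply, smul_eq_mul] at h1
  have h3 : ((((h : Equiv.Perm ↥leechLattice) y : ↥leechLattice) : GolayPt → ℤ) j) =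
      ((((g : Equiv.Perm ↥leechLattice) y : ↥leechLattice) : GolayPt → ℤ) j) := by omega
  exact h3.symm

/-- the list of `8 e_i` -/
def e8L (i : ℕ) : List ℤ := (List.range 24).map fun j => if j = i then 8 else 0

theorem vec8_eq_vecOf (p : GolayPt) : ((vec8 p : ↥leechLattice) : IVec) = vecOf (e8L (gIdx p)) := by
  funext q
  unfold e8L
  rw [vecOf_range_map, vec8_val]
  by_cases hq : q = p
  · subst hq
    rw [Pi.single_eq_same, if_pos rfl]
  · rw [Pi.single_eq_of_ne hq, if_neg]
    intro h
    apply hq
    rw [← gPt_gIdx q, h, gPt_gIdx]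

/-- Boolean test that two words have the same effect on all `8 e_i` -/
def eqW (w w' : List Letter) : Bool :=
  (List.range 24).all fun i => decide (runW w (e8L i) = runW w' (e8L i))

theorem elt_eq_of_eqW {w w' : List Letter} (h : okW w = true) (h' : okW w' = true)
    (he : eqW w w' = true) : elt w = elt w' := by
  apply co0_eq_of_vec8
  intro p
  apply Subtype.ext
  rw [elt_smul_list h _ _ (vec8_eq_vecOf p), elt_smul_list h' _ _ (vec8_eq_vecOf p)]
  unfold eqW at he
  rw [List.all_eq_true] at he
  have := he (gIdx p) (List.mem_range.mpr (gIdx_lt p))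
  rw [decide_eq_true_eq] at this
  rw [this]

/-- the word repeated `n` times -/
def powW (w : List Letter) : ℕ → List Letter
  | 0 => []
  | n + 1 => w ++ powW w n

theorem okW_powW {w : List Letter} (h : okW w = true) (n : ℕ) : okW (powW w n) = true := by
  induction n with
  | zero => rfl
  | succ n ih => exact okW_append h ih

theorem elt_powW {w : List Letter} (h : okW w = true) (n : ℕ) : elt (powW w n) = elt w ^ n := by
  induction n with
  | zero => rw [pow_zero]; exact elt_nil
  | succ n ih =>
    show elt (w ++ powW w n) = _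
    rw [elt_append h (okW_powW h n), ih, pow_succ]

/-! ### monomial letters -/

theorem actsAs_elt_P {t s : List ℕ} (h : okW [Letter.P t s] = true) :
    ActsAs (elt [Letter.P t s]) (permOfTabs t s) ∅ := by
  intro v
  rw [elt_smul h]
  rfl

theorem actsAs_elt_S {m : ℕ} (h : okW [Letter.S m] = true) :
    ActsAs (elt [Letter.S m]) 1 (Helper27.setOf m) := by
  intro v
  rw [elt_smul h]
  rfl

/-! ### the words of the elements -/

/-- the translation `t ↦ t + 1` -/
def aW : List Letter := [.P [1, 2, 3, 4, 5, 6, 7, 8, 9, 10, 11, 12, 13, 14, 15, 16, 17, 18, 19, 20, 21, 22, 0, 23] [22, 0, 1, 2, 3, 4, 5, 6, 7, 8, 9, 10, 11, 12, 13, 14, 15, 16, 17, 18, 19, 20, 21, 23]]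
/-- the multiplication `t ↦ 2 t` -/
def bW : List Letter := [.P [0, 2, 4, 6, 8, 10, 12, 14, 16, 18, 20, 22, 1, 3, 5, 7, 9, 11, 13, 15, 17, 19, 21, 23] [0, 12, 1, 13, 2, 14, 3, 15, 4, 16, 5, 17, 6, 18, 7, 19, 8, 20, 9, 21, 10, 22, 11, 23]]
/-- the twisted cube map -/
def cW : List Letter := [.P [0, 18, 6, 3, 2, 21, 1, 5, 16, 12, 7, 19, 8, 9, 17, 15, 13, 11, 4, 22, 10, 20, 14, 23] [0, 6, 4, 3, 18, 7, 2, 10, 12, 13, 20, 17, 9, 16, 22, 15, 8, 14, 1, 11, 21, 5, 19, 23]]
/-- the sign change on the dodecad of squares -/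
def eW : List Letter := [.S 340831]
/-- negation -/
def nW : List Letter := [.S 16777215]
/-- an element of order three commuting with the multiplication -/
def sW : List Letter := [.P [21, 11, 23, 0, 1, 15, 17, 9, 14, 18, 5, 6, 13, 16, 19, 22, 2, 8, 7, 20, 12, 4, 3, 10] [3, 4, 16, 22, 21, 10, 11, 18, 17, 7, 23, 1, 20, 12, 8, 5, 13, 6, 9, 14, 19, 0, 15, 2],
  .S 11010247,
  .X,
  .P [6, 3, 2, 21, 1, 5, 16, 12, 7, 19, 8, 9, 17, 15, 13, 11, 4, 22, 10, 20, 14, 0, 18, 23] [21, 4, 2, 1, 16, 5, 0, 8, 10, 11, 18, 15, 7, 14, 20, 13, 6, 12, 22, 9, 19, 3, 17, 23],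
  .X,
  .P [23, 18, 12, 17, 21, 16, 19, 4, 20, 6, 8, 2, 15, 11, 0, 3, 10, 14, 13, 1, 9, 7, 5, 22] [14, 19, 11, 15, 7, 22, 9, 21, 10, 20, 16, 13, 2, 18, 17, 12, 5, 3, 1, 6, 8, 4, 23, 0],
  .X,
  .P [3, 4, 5, 6, 7, 8, 9, 10, 11, 12, 13, 14, 15, 16, 17, 18, 19, 20, 21, 22, 0, 1, 2, 23] [20, 21, 22, 0, 1, 2, 3, 4, 5, 6, 7, 8, 9, 10, 11, 12, 13, 14, 15, 16, 17, 18, 19, 23]]

theorem aW_ok : okW aW = true := by decide +kernel
theorem bW_ok : okW bW = true := by decide +kernel
theorem cW_ok : okW cW = true := by decide +kernel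
theorem eW_ok : okW eW = true := by decide +kernel
theorem nW_ok : okW nW = true := by decide +kernel
theorem sW_ok : okW sW = true := by decide +kernel

/-! ### relations -/

theorem rel_s_cube : eqW (powW sW 3) [] = true := by decide +kernel
theorem rel_s_b : eqW (sW ++ bW) (bW ++ sW) = true := by decide +kernel
theorem rel_s_c : eqW (sW ++ cW) (cW ++ sW) = true := by decide +kernel
theorem rel_es : eqW (powW (sW ++ eW) 2) [] = true := by decide +kernel
theorem rel_e_b : eqW (eW ++ bW) (bW ++ eW) = true := by decide +kernel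
theorem rel_e_c : eqW (eW ++ cW) (cW ++ eW) = true := by decide +kernel
theorem rel_e_sq : eqW (powW eW 2) [] = true := by decide +kernel

end Cfsg.Agent.Helper92.OutCo1
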