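import Cfsg.Agent.Helper92.OutCo1Gen

/-!
All automorphisms of the automorphism group of the rank-24 lattice modulo its centre are inner.
-/

set_option autoImplicit false

namespace Cfsg.Agent.Helper92.OutCo1

open Cfsg Cfsg.Agent.Helper8 Cfsg.Agent.Helper27 Cfsg.Agent.Helper7 Cfsg.Agent.Helper92
  Cfsg.Agent.Helper92.Co1

/-- the image of the group of coordinate permutations fixing the point at infinity -/
noncomputable def Mq : Subgroup (↥Co0 ⧸ Subgroup.center ↥Co0) :=
  Subgroup.closure ({Aq, Bq, Cq} : Set (↥Co0 ⧸ Subgroup.center ↥Co0))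

/-! ### generation -/

theorem Mq_sup_Sq : Mq ⊔ Sq = ⊤ := by
  set K : Subgroup ↥Co0 := (Mq ⊔ Sq).comap mkQ with hK
  have hM : ∀ x ∈ ({Aq, Bq, Cq} : Set (↥Co0 ⧸ Subgroup.center ↥Co0)), x ∈ Mq ⊔ Sq :=
    fun x hx => (le_sup_left : Mq ≤ Mq ⊔ Sq) (Subgroup.subset_closure hx)
  have hS : ∀ x ∈ Sq, x ∈ Mq ⊔ Sq := fun x hx => (le_sup_right : Sq ≤ Mq ⊔ Sq) hx
  have ha : permCo0 aP ∈ K := hM Aq (by simp)
  have hb : permCo0 bP ∈ K := hM Bq (by simp)
  have hc : permCo0 cP ∈ K := hM Cq (by simp)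
  have he : elt eW ∈ K := hS _ eq'_mem
  have hs : elt sW ∈ K := hS _ sq_mem
  have hn : negCo0 ∈ K := by
    show mkQ negCo0 ∈ Mq ⊔ Sq
    rw [mkQ_negCo0]
    exact Subgroup.one_mem _
  have htop := eq_top_of_gens ha hb hc he hn hs
  rw [eq_top_iff]
  intro x _
  obtain ⟨g, rfl⟩ := mkQ_surjective x
  have : g ∈ K := by rw [htop]; exact Subgroup.mem_top g
  exact this

/-! ### the automorphisms of the image of the permutation group -/

theorem closure_abc :
    Subgroup.closure ({aP, bP, cP} : Set ↥M24) = M23p.subgroupOf M24 := by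
  have h1 : (Subgroup.closure ({aP, bP, cP} : Set ↥M24)).map M24.subtype = M23p := by
    rw [MonoidHom.map_closure, Set.image_insert_eq, Set.image_insert_eq, Set.image_singleton]
    exact closure_M23p
  rw [← h1]
  exact (Subgroup.comap_map_eq_self_of_injective M24.subtype_injective _).symm

theorem map_phiQ_M23p : (M23p.subgroupOf M24).map phiQ = Mq := by
  rw [← closure_abc, MonoidHom.map_closure, Set.image_insert_eq, Set.image_insert_eq,
    Set.image_singleton]
  rfl

/-- the isomorphism from the permutation group to its image -/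
noncomputable def isoMq : ↥M23p ≃* ↥Mq :=
  ((Subgroup.subgroupOfEquivOfLe (inf_le_left : M23p ≤ M24)).symm.trans
    ((M23p.subgroupOf M24).equivMapOfInjective phiQ phiQ_injective)).trans
    (MulEquiv.subgroupCongr map_phiQ_M23p)

theorem inn_of_mulEquiv {G H : Type*} [Group G] [Group H] (e : G ≃* H)
    (hG : (MulAut.conj : G →* MulAut G).range = ⊤) (φ : MulAut H) :
    ∃ m : H, ∀ x : H, φ x = m * x * m⁻¹ := by
  have hmem : (e.trans (φ.trans e.symm) : MulAut G) ∈ (MulAut.conj : G →* MulAut G).range := by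
    rw [hG]
    exact Subgroup.mem_top _
  obtain ⟨m0, hm0⟩ := hmem
  refine ⟨e m0, fun x => ?_⟩
  have h1 := congrArg (fun ψ : MulAut G => ψ (e.symm x)) hm0
  simp only [MulAut.conj_apply, MulEquiv.trans_apply, MulEquiv.apply_symm_apply] at h1
  have h2 := congrArg e h1
  rw [MulEquiv.apply_symm_apply, map_mul, map_mul, map_inv, MulEquiv.apply_symm_apply] at h2
  exact h2.symm

theorem inn_Mq (φ : MulAut ↥Mq) : ∃ m : ↥Mq, ∀ x : ↥Mq, φ x = m * x * m⁻¹ :=
  inn_of_mulEquiv isoMq inn_M23p_eq_top φ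

/-! ### the main statement -/

instance : Fact (Nat.Prime 23) := ⟨by norm_num⟩

instance finite_co1 : Finite (↥Co0 ⧸ Subgroup.center ↥Co0) :=
  Nat.finite_of_card_ne_zero (by rw [card_co1]; norm_num)

theorem inn_co1_eq_top :
    (MulAut.conj : (↥Co0 ⧸ Subgroup.center ↥Co0) →* MulAut (↥Co0 ⧸ Subgroup.center ↥Co0)).range
      = ⊤ := by
  apply inn_eq_top_of_chain_sym 23 Aq Bq Cq 2 3 Mq Sq
  · exact orderOf_Aq
  · rw [card_co1]
    norm_num
  · exact cent_Aq
  · exact Bq_conj_Aq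
  · exact conj_of_sq Bq_conj_Aq
  · exact cent_Bq
  · exact Sq_comm_B
  · exact Sq_pow_six
  · rw [orderOf_Bq]
    norm_num
  · exact Sq_centre
  · exact Cq_conj_Bq
  · exact Sq_comm_C
  · rfl
  · exact inn_Mq
  · intro ψ hfix hS
    have hA : Aq ∈ Mq := Subgroup.subset_closure (by simp)
    have hB : Bq ∈ Mq := Subgroup.subset_closure (by simp)
    exact pin_Sq ψ (hfix Aq hA) (hfix Bq hB) hS
  · exact Mq_sup_Sq

theorem card_out_co1 : Nat.card (Cfsg.Out Cfsg.Spor.Co1) = 1 := by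
  show (Cfsg.Inn (↥Co0 ⧸ Subgroup.center ↥Co0)).index = 1
  rw [show Cfsg.Inn (↥Co0 ⧸ Subgroup.center ↥Co0) = ⊤ from inn_co1_eq_top, Subgroup.index_top]

end Cfsg.Agent.Helper92.OutCo1
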