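import Cfsg.Agent.Helper92.OutCo1Pin
import Cfsg.Agent.Helper8.MaxCount

/-!
Generation of the automorphism group of the rank-24 lattice by the coordinate permutations fixing
the point at infinity, the sign change on the squares, negation and an element of order three.
-/

set_option autoImplicit false

namespace Cfsg.Agent.Helper92.OutCo1

open Cfsg Cfsg.Agent.Helper8 Cfsg.Agent.Helper27 Cfsg.Agent.Helper7 Cfsg.Agent.Helper92
  Cfsg.Agent.Helper92.Co1

/-- the monomial subgroup is maximal -/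
theorem isCoatom_monoSub : IsCoatom monoSub := by
  refine ⟨?_, ?_⟩
  · intro htop
    have h1 := card_monoSub
    rw [htop, Subgroup.card_top, card_co0] at h1
    norm_num at h1
  · intro J hlt
    obtain ⟨h, hh, hfix, hnot⟩ := Mx.exists_fix_vA0 hlt.le hlt.ne'
    exact Mx.eq_top_of_xi_mem hlt.le (Mx.xi_mem_of_fix_vA0 hlt.le hh hfix hnot)

/-! ### the explicit monomial element moving the point at infinity -/

/-- a coordinate permutation fixing the point at infinity -/
def x1W : List Letter := [.P [12, 4, 8, 14, 7, 16, 20, 0, 11, 15, 18, 5, 9, 6, 1, 21, 2, 3, 19, 10, 17, 22, 13, 23] [7, 14, 16, 17, 1, 11, 13, 4, 2, 12, 19, 8, 0, 22, 3, 9, 5, 20, 10, 18, 6, 15, 21, 23]]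
/-- a coordinate permutation fixing the point at infinity -/
def x2W : List Letter := [.P [10, 7, 6, 11, 5, 13, 12, 18, 2, 4, 20, 9, 17, 19, 21, 1, 8, 14, 3, 15, 16, 0, 22, 23] [21, 15, 8, 18, 9, 4, 2, 1, 16, 11, 0, 3, 6, 5, 17, 19, 20, 12, 7, 13, 10, 14, 22, 23]]
/-- a sign change -/
def x3W : List Letter := [.S 8379060]

/-- the segments of the word of the monomial element -/
def kSeg : List (List Letter) := [sW, sW, x1W, sW, sW, x2W, x3W, sW, sW]

theorem x1W_ok : okW x1W = true := by decide +kernel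
theorem x2W_ok : okW x2W = true := by decide +kernel
theorem x3W_ok : okW x3W = true := by decide +kernel

theorem kSeg_run : runW kSeg.flatten (e8L 23) =
    [0, 0, 0, 0, 0, 0, 0, 0, 0, 0, -8, 0, 0, 0, 0, 0, 0, 0, 0, 0, 0, 0, 0, 0] := by
  decide +kernel

theorem sW_run : runW sW (e8L 23) =
    [2, -2, -2, -2, -2, 0, -2, 0, -2, -2, 0, 0, -2, -2, 0, 0, -2, 0, -2, 0, 0, 0, 0, -4] := by
  decide +kernel

/-! ### a subgroup containing the generators -/

section

variable (K : Subgroup ↥Co0)

/-- the coordinate permutations lying in `K`, as a group of permutations -/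
noncomputable def permPart : Subgroup (Equiv.Perm GolayPt) := (K.comap permCo0).map M24.subtype

theorem permPart_le : permPart K ≤ M24 := by
  rintro σ ⟨x, -, rfl⟩
  exact x.2

variable {K}

theorem perm_mem_of_mem_permPart {σ : Equiv.Perm GolayPt} (hσ : σ ∈ permPart K) {g : ↥Co0}
    (hg : ActsAs g σ ∅) : g ∈ K := by
  obtain ⟨x, hx, rfl⟩ := hσ
  rw [actsAs_unique hg (actsAs_permCo0 x)]
  exact hx

theorem mem_permPart_of_actsAs {σ : Equiv.Perm GolayPt} (hσ : σ ∈ M24) {g : ↥Co0} (hg : g ∈ K)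
    (ha : ActsAs g σ ∅) : σ ∈ permPart K := by
  refine ⟨⟨σ, hσ⟩, ?_, rfl⟩
  show permCo0 ⟨σ, hσ⟩ ∈ K
  rw [← actsAs_unique ha (actsAs_permCo0 ⟨σ, hσ⟩)]
  exact hg

variable (ha : permCo0 aP ∈ K) (hb : permCo0 bP ∈ K) (hc : permCo0 cP ∈ K)

include ha hb hc in
theorem M23p_le_permPart : M23p ≤ permPart K := by
  rw [← closure_M23p, Subgroup.closure_le]
  rintro σ (rfl | rfl | hσ)
  · exact ⟨aP, ha, rfl⟩
  · exact ⟨bP, hb, rfl⟩
  · rw [Set.mem_singleton_iff] at hσ
    subst hσ
    exact ⟨cP, hc, rfl⟩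

/-! ### sign changes -/

theorem support_qrWord : ∀ t : ZMod 23,
    support₂ (qrWord t) = Q0.map (trP t : Equiv.Perm GolayPt).toEmbedding := by
  decide +kernel

variable (he : elt eW ∈ K)

include ha hb hc he in
theorem sign_qr_mem (t : ZMod 23) {g : ↥Co0} (hg : ActsAs g 1 (support₂ (qrWord t))) : g ∈ K := by
  obtain ⟨x, hx, hxt⟩ := M23p_le_permPart ha hb hc (F23_le_M23p (trP_mem t))
  have hx' : permCo0 x ∈ K := hx
  have hxt' : ((x : ↥M24) : Equiv.Perm GolayPt) = trP t := hxt
  have h1 := actsAs_mul (actsAs_mul (actsAs_permCo0 x) actsAs_elt_eW) (actsAs_permCo0 x⁻¹)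
  have e1 : ((x : ↥M24) : Equiv.Perm GolayPt) * 1 * ((x⁻¹ : ↥M24) : Equiv.Perm GolayPt) = 1 := by
    rw [mul_one, Subgroup.coe_inv, mul_inv_cancel]
  rw [e1, Finset.map_empty, symmDiff_empty_right, symmDiff_empty_left, hxt', ← support_qrWord]
    at h1
  rw [actsAs_unique hg h1]
  exact K.mul_mem (K.mul_mem hx' he) (by rw [map_inv]; exact K.inv_mem hx')

variable (hn : negCo0 ∈ K)

include ha hb hc he hn in
theorem sign_mem_gen {c : Finset GolayPt}
    (hcs : c ∈ supports (golayCode : Set (GolayPt → ZMod 2))) {g : ↥Co0} (hg : ActsAs g 1 c) :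
    g ∈ K := by
  obtain ⟨w, hw, rfl⟩ := hcs
  have hw' : w ∈ Submodule.span (ZMod 2) (Set.range qrWord ∪ {1}) := hw
  revert g
  induction hw' using Submodule.span_induction with
  | mem x hx =>
    intro g hg
    rcases hx with ⟨t, rfl⟩ | hx
    · exact sign_qr_mem ha hb hc he t hg
    · rw [Set.mem_singleton_iff] at hx
      subst hx
      have e : support₂ (1 : GolayPt → ZMod 2) = Finset.univ := by decide +kernel
      rw [e] at hg
      rw [actsAs_unique hg actsAs_negCo0]
      exact hn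
  | zero =>
    intro g hg
    have e : support₂ (0 : GolayPt → ZMod 2) = ∅ := by
      ext i
      simp [support₂]
    rw [e] at hg
    rw [actsAs_one_empty hg]
    exact K.one_mem
  | add x y hx hy ihx ihy =>
    intro g hg
    have hsx : support₂ x ∈ supports (golayCode : Set (GolayPt → ZMod 2)) := ⟨x, hx, rfl⟩
    have hsy : support₂ y ∈ supports (golayCode : Set (GolayPt → ZMod 2)) := ⟨y, hy, rfl⟩
    have ax := actsAs_signCo0 hsx
    have ay := actsAs_signCo0 hsy
    have hact := actsAs_mul_sign ax ay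
    rw [← Helper8.support₂_add] at hact
    rw [actsAs_unique hg hact]
    exact K.mul_mem (ihx hx ax) (ihy hy ay)
  | smul a x hx ihx =>
    intro g hg
    have hall : ∀ a : ZMod 2, a = 0 ∨ a = 1 := by decide
    rcases hall a with rfl | rfl
    · have e : support₂ ((0 : ZMod 2) • x) = ∅ := by
        ext i
        simp [support₂]
      rw [e] at hg
      rw [actsAs_one_empty hg]
      exact K.one_mem
    · rw [one_smul] at hg
      exact ihx hx hg

/-! ### the monomial element lies in `K` -/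

omit ha hb hc he hn in
theorem elt_flatten_mem (ws : List (List Letter)) (h : ∀ w ∈ ws, okW w = true ∧ elt w ∈ K) :
    okW ws.flatten = true ∧ elt ws.flatten ∈ K := by
  induction ws with
  | nil =>
    refine ⟨rfl, ?_⟩
    rw [List.flatten_nil, elt_nil]
    exact K.one_mem
  | cons w ws ih =>
    obtain ⟨h1, h2⟩ := h w (List.Mem.head _)
    obtain ⟨h3, h4⟩ := ih (fun w' hw' => h w' (List.Mem.tail _ hw'))
    rw [List.flatten_cons]
    refine ⟨okW_append h1 h3, ?_⟩
    rw [elt_append h1 h3]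
    exact K.mul_mem h4 h2

include ha hb hc in
theorem elt_P_mem {t s : List ℕ} (h : okW [Letter.P t s] = true) (hfix : t.getD 23 0 = 23) :
    elt [Letter.P t s] ∈ K := by
  have h' : isInvPair t s = true ∧ checkM24 s = true := by
    have h1 : (Letter.P t s).ok = true := by
      unfold okW at h
      rw [List.all_cons, Bool.and_eq_true] at h
      exact h.1
    unfold Letter.ok at h1
    rwa [Bool.and_eq_true] at h1
  have hM : permOfTabs t s ∈ M24 := permOfTabs_mem_M24 h'.1 h'.2
  have hn' : permOfTabs t s none = none := by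
    have := permOfTabs_gPt h'.1 23 (by norm_num)
    rw [hfix] at this
    exact this
  have hM23 : permOfTabs t s ∈ M23p := ⟨hM, MulAction.mem_stabilizer_iff.mpr hn'⟩
  exact perm_mem_of_mem_permPart (M23p_le_permPart ha hb hc hM23) (actsAs_elt_P h)

include ha hb hc he hn in
theorem elt_S_mem {m : ℕ} (h : okW [Letter.S m] = true) : elt [Letter.S m] ∈ K := by
  have h' : m < 2 ^ 24 ∧ isCode m = true := by
    have h1 : (Letter.S m).ok = true := by
      unfold okW at h
      rw [List.all_cons, Bool.and_eq_true] at h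
      exact h.1
    unfold Letter.ok at h1
    rwa [Bool.and_eq_true, decide_eq_true_eq] at h1
  exact sign_mem_gen ha hb hc he hn (setOf_mem_supports h'.1 h'.2) (actsAs_elt_S h)

variable (hs : elt sW ∈ K)

include ha hb hc he hn hs in
theorem kSeg_mem : okW kSeg.flatten = true ∧ elt kSeg.flatten ∈ K := by
  apply elt_flatten_mem
  intro w hw
  unfold kSeg at hw
  simp only [List.mem_cons, List.mem_nil_iff, or_false] at hw
  have h1 : elt x1W ∈ K := elt_P_mem ha hb hc x1W_ok rfl
  have h2 : elt x2W ∈ K := elt_P_mem ha hb hc x2W_ok rfl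
  have h3 : elt x3W ∈ K := elt_S_mem ha hb hc he hn x3W_ok
  rcases hw with rfl | rfl | rfl | rfl | rfl | rfl | rfl | rfl | rfl
  · exact ⟨sW_ok, hs⟩
  · exact ⟨sW_ok, hs⟩
  · exact ⟨x1W_ok, h1⟩
  · exact ⟨sW_ok, hs⟩
  · exact ⟨sW_ok, hs⟩
  · exact ⟨x2W_ok, h2⟩
  · exact ⟨x3W_ok, h3⟩
  · exact ⟨sW_ok, hs⟩
  · exact ⟨sW_ok, hs⟩

omit ha hb hc he hn in
theorem vecOf_k : vecOf [0, 0, 0, 0, 0, 0, 0, 0, 0, 0, -8, 0, 0, 0, 0, 0, 0, 0, 0, 0, 0, 0, 0, 0] =
    Pi.single (some 10 : GolayPt) (-8 : ℤ) := by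
  funext p
  revert p
  decide +kernel

include ha hb hc he hn hs in
/-- a permutation moving the point at infinity lies in the permutation part -/
theorem exists_move_none : ∃ σ ∈ permPart K, σ none = some 10 := by
  obtain ⟨hok, hk⟩ := kSeg_mem ha hb hc he hn hs
  have hk8 : ((elt kSeg.flatten • vec8 none : ↥leechLattice) : IVec) =
      Pi.single (some 10 : GolayPt) (-8 : ℤ) := by
    rw [elt_smul_list hok _ _ (vec8_eq_vecOf none)]
    show vecOf (runW kSeg.flatten (e8L 23)) = _
    rw [kSeg_run, vecOf_k]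
  have hmono : elt kSeg.flatten ∈ monoSub := by
    rw [mem_monoSub, fixesCross_iff _ none, hk8]
    exact ⟨some 10, -8, Or.inr rfl, rfl⟩
  obtain ⟨σ, hσ, c, hcs, hact⟩ := exists_actsAs_of_mem_monoSub hmono
  have hσn : σ none = some 10 := by
    have h1 := actsAs_vec8 hact none
    rw [hk8] at h1
    by_contra hne
    have h2 := congrFun h1 (some 10)
    rw [Pi.single_eq_same, Pi.single_eq_of_ne (fun h => hne h.symm)] at h2
    norm_num at h2
  refine ⟨σ, ⟨⟨σ, hσ⟩, ?_, rfl⟩, hσn⟩
  show permCo0 ⟨σ, hσ⟩ ∈ K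
  have hsign : signCo0 hcs ∈ K := sign_mem_gen ha hb hc he hn hcs (actsAs_signCo0 hcs)
  have h2 := actsAs_mul (actsAs_signCo0 hcs) (actsAs_permCo0 ⟨σ, hσ⟩)
  rw [Finset.map_empty, symmDiff_empty_right, one_mul] at h2
  have h3 : elt kSeg.flatten = signCo0 hcs * permCo0 ⟨σ, hσ⟩ := actsAs_unique hact h2
  have h4 : permCo0 ⟨σ, hσ⟩ = (signCo0 hcs)⁻¹ * elt kSeg.flatten := by
    rw [h3, inv_mul_cancel_left]
  rw [h4]
  exact K.mul_mem (K.inv_mem hsign) hk

include ha hb hc he hn hs in
theorem permPart_eq : permPart K = M24 := by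
  obtain ⟨σ, hσK, hσn⟩ := exists_move_none ha hb hc he hn hs
  have hM23 := M23p_le_permPart ha hb hc
  have htrans : ∀ p : GolayPt, ∃ g ∈ permPart K, g none = p := by
    intro p
    cases p with
    | none => exact ⟨1, (permPart K).one_mem, rfl⟩
    | some t =>
      refine ⟨trP (t - 10) * σ, (permPart K).mul_mem (hM23 (F23_le_M23p (trP_mem _))) hσK, ?_⟩
      rw [Equiv.Perm.mul_apply, hσn, trP_some]
      congr 1
      ring
  have hcard := card_of_transitive (permPart K) htrans
  have hle : M23p ≤ permPart K ⊓ MulAction.stabilizer (Equiv.Perm GolayPt) (none : GolayPt) :=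
    le_inf hM23 inf_le_right
  have h1 := Subgroup.card_le_of_le hle
  rw [card_M23p] at h1
  apply Subgroup.eq_of_le_of_card_ge (permPart_le K)
  rw [card_M24, ← hcard]
  omega

include ha hb hc he hn hs in
theorem monoSub_le_gen : monoSub ≤ K := by
  intro g hg
  obtain ⟨σ, hσ, c, hcs, hact⟩ := exists_actsAs_of_mem_monoSub hg
  have hσK : σ ∈ permPart K := by
    rw [permPart_eq ha hb hc he hn hs]
    exact hσ
  obtain ⟨x, hx, rfl⟩ := hσK
  have hx' : permCo0 x ∈ K := hx
  have hsign : signCo0 hcs ∈ K := sign_mem_gen ha hb hc he hn hcs (actsAs_signCo0 hcs)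
  have h2 := actsAs_mul (actsAs_signCo0 hcs) (actsAs_permCo0 x)
  rw [Finset.map_empty, symmDiff_empty_right, one_mul] at h2
  rw [actsAs_unique hact h2]
  exact K.mul_mem hsign hx'

omit ha hb hc he hn in
theorem sW_not_mono : elt sW ∉ monoSub := by
  intro h
  rw [mem_monoSub, fixesCross_iff _ none] at h
  obtain ⟨i, c, -, hv⟩ := h
  rw [elt_smul_list sW_ok _ _ (vec8_eq_vecOf none)] at hv
  have hv' : vecOf (runW sW (e8L 23)) = Pi.single i c := hv
  rw [sW_run] at hv'
  have h0 := congrFun hv' (some 0)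
  have h1 := congrFun hv' (some 1)
  by_cases hi : i = some 0
  · subst hi
    rw [Pi.single_eq_of_ne (by decide)] at h1
    revert h1
    decide
  · rw [Pi.single_eq_of_ne (fun h => hi h.symm)] at h0
    revert h0
    decide

include ha hb hc he hn hs in
/-- a subgroup containing the generators is the whole group -/
theorem eq_top_of_gens : K = ⊤ := by
  have hle := monoSub_le_gen ha hb hc he hn hs
  apply isCoatom_monoSub.2 K
  apply lt_of_le_of_ne hle
  intro h
  apply sW_not_mono
  rw [h]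
  exact hs

end

end Cfsg.Agent.Helper92.OutCo1
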