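import Cfsg.Agent.Helper92.OutCo1Elts
import Cfsg.Agent.Helper27.OutM23

/-!
Coordinate permutations and sign changes as automorphisms of the rank-24 lattice, and the
identification of the explicit monomial elements.
-/

set_option autoImplicit false

namespace Cfsg.Agent.Helper92.OutCo1

open Cfsg Cfsg.Agent.Helper8 Cfsg.Agent.Helper27 Cfsg.Agent.Helper7 Cfsg.Agent.Helper92
  Cfsg.Agent.Helper92.Co1

/-! ### uniqueness of the signed permutation of a monomial automorphism -/

theorem actsAs_vec8 {g : ↥Co0} {σ : Equiv.Perm GolayPt} {c : Finset GolayPt} (h : ActsAs g σ c)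
    (i : GolayPt) : ((g • vec8 i : ↥leechLattice) : GolayPt → ℤ) =
      Pi.single (σ i) (if σ i ∈ c then -8 else 8) := by
  rw [h, vec8_val, signedPerm_single]

theorem actsAs_inj {g : ↥Co0} {σ σ' : Equiv.Perm GolayPt} {c c' : Finset GolayPt}
    (h : ActsAs g σ c) (h' : ActsAs g σ' c') : σ = σ' ∧ c = c' := by
  have key : ∀ i, σ i = σ' i ∧ (σ i ∈ c ↔ σ i ∈ c') := by
    intro i
    have e := (actsAs_vec8 h i).symm.trans (actsAs_vec8 h' i)
    have hne : ∀ (j : GolayPt) (b : Prop) [Decidable b], (if b then (-8 : ℤ) else 8) ≠ 0 := by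
      intro j b _
      split_ifs <;> norm_num
    have h1 : σ i = σ' i := by
      by_contra hne'
      have := congrFun e (σ i)
      rw [Pi.single_eq_same, Pi.single_eq_of_ne hne'] at this
      exact hne (σ i) _ this
    refine ⟨h1, ?_⟩
    have := congrFun e (σ i)
    rw [Pi.single_eq_same, ← h1, Pi.single_eq_same] at this
    by_cases hc : σ i ∈ c <;> by_cases hc' : σ i ∈ c'
    · exact ⟨fun _ => hc', fun _ => hc⟩
    · rw [if_pos hc, if_neg hc'] at this; norm_num at this
    · rw [if_neg hc, if_pos hc'] at this; norm_num at this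
    · exact ⟨fun h => absurd h hc, fun h => absurd h hc'⟩
  have hσ : σ = σ' := Equiv.ext fun i => (key i).1
  refine ⟨hσ, ?_⟩
  ext j
  have := (key (σ.symm j)).2
  rwa [Equiv.apply_symm_apply] at this

theorem exists_actsAs_of_mem_monoSub {g : ↥Co0} (hg : g ∈ monoSub) :
    ∃ σ ∈ M24, ∃ c ∈ supports (golayCode : Set (GolayPt → ZMod 2)), ActsAs g σ c :=
  exists_mono_of_fixesCross g hg

theorem actsAs_mem_monoSub {g : ↥Co0} {σ : Equiv.Perm GolayPt} {c : Finset GolayPt}
    (h : ActsAs g σ c) : g ∈ monoSub := by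
  rw [mem_monoSub, fixesCross_iff g none, h, vec8_val, signedPerm_single]
  refine ⟨σ none, _, ?_, rfl⟩
  split_ifs
  · right; rfl
  · left; rfl

/-! ### coordinate permutations -/

/-- coordinate permutations as automorphisms of the lattice -/
noncomputable def permCo0 : ↥M24 →* ↥Co0 where
  toFun σ := monoCo0 σ.2 Cfsg.Agent.S0390.empty_mem_supports
  map_one' := actsAs_one_empty (actsAs_monoCo0 _ _)
  map_mul' σ τ := actsAs_unique (actsAs_monoCo0 _ _)
    (actsAs_mul_perm (actsAs_monoCo0 σ.2 _) (actsAs_monoCo0 τ.2 _))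

theorem actsAs_permCo0 (σ : ↥M24) : ActsAs (permCo0 σ) (σ : Equiv.Perm GolayPt) ∅ :=
  actsAs_monoCo0 _ _

theorem permCo0_injective : Function.Injective permCo0 := by
  intro σ τ h
  have h1 := actsAs_permCo0 σ
  have h2 := actsAs_permCo0 τ
  rw [h] at h1
  exact Subtype.ext (actsAs_inj h1 h2).1

/-- sign changes -/
noncomputable def signCo0 {c : Finset GolayPt}
    (hc : c ∈ supports (golayCode : Set (GolayPt → ZMod 2))) : ↥Co0 :=
  monoCo0 (Subgroup.one_mem M24) hc

theorem actsAs_signCo0 {c : Finset GolayPt}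
    (hc : c ∈ supports (golayCode : Set (GolayPt → ZMod 2))) : ActsAs (signCo0 hc) 1 c :=
  actsAs_monoCo0 _ _

theorem actsAs_negCo0 : ActsAs negCo0 1 Finset.univ := actsAs_monoCo0 _ _

/-! ### tables -/

theorem idx_eq_gIdx (p : GolayPt) : idx p = gIdx p := by
  cases p <;> rfl

theorem permOfTabs_eq_of_isTable {t s : List ℕ} (h : isInvPair t s = true)
    {σ : Equiv.Perm GolayPt} (hσ : IsTable t σ) : permOfTabs t s = σ := by
  ext1 p
  rw [permOfTabs_apply h]
  apply idx_injective
  rw [hσ.2 p, idx_eq_gIdx, idx_eq_gIdx]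
  unfold tabFun
  rw [gIdx_gPt _ (isInvPair_spec h (gIdx p) (gIdx_lt p)).1]

/-! ### the monomial elements -/

/-- the translation as an element of `M24` -/
def aP : ↥M24 := ⟨trP 1, F23_le_M24 trP_one_mem⟩
/-- the multiplication as an element of `M24` -/
def bP : ↥M24 := ⟨mu23, F23_le_M24 mu23_mem_F23⟩
/-- the twisted cube map as an element of `M24` -/
noncomputable def cP : ↥M24 := ⟨cubeTwist, cubeTwist_mem_M24⟩

theorem elt_aW : elt aW = permCo0 aP := by
  apply actsAs_unique (σ := trP 1) (c := ∅) _ (actsAs_permCo0 aP)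
  have h := actsAs_elt_P (t := tA) aW_ok
  rwa [permOfTabs_eq_of_isTable (by decide +kernel) isTable_trP_one] at h

theorem elt_bW : elt bW = permCo0 bP := by
  apply actsAs_unique (σ := mu23) (c := ∅) _ (actsAs_permCo0 bP)
  have h := actsAs_elt_P (t := tM) bW_ok
  rwa [permOfTabs_eq_of_isTable (by decide +kernel) isTable_mu23] at h

theorem elt_cW : elt cW = permCo0 cP := by
  apply actsAs_unique (σ := cubeTwist) (c := ∅) _ (actsAs_permCo0 cP)
  have h := actsAs_elt_P (t := tC) cW_ok
  rwa [permOfTabs_eq_of_isTable (by decide +kernel) isTable_cubeTwist] at h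

theorem elt_nW : elt nW = negCo0 := by
  apply actsAs_unique (σ := 1) (c := Finset.univ) _ actsAs_negCo0
  have h := actsAs_elt_S nW_ok
  have e : Helper27.setOf 16777215 = Finset.univ := by decide +kernel
  rwa [e] at h

end Cfsg.Agent.Helper92.OutCo1
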