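import Cfsg.Agent.Helper92.OutCo1S

/-!
An automorphism of the first Conway group fixing the translation and the multiplication and mapping
the group of order six to itself fixes that group pointwise.
-/

set_option autoImplicit false

namespace Cfsg.Agent.Helper92.OutCo1

open Cfsg Cfsg.Agent.Helper8 Cfsg.Agent.Helper27 Cfsg.Agent.Helper7 Cfsg.Agent.Helper92
  Cfsg.Agent.Helper92.Co1

/-! ### inequality of words, tested on `8 e_i` -/

/-- Boolean test that two words differ on `8 e_i` -/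
def neWi (i : ℕ) (w w' : List Letter) : Bool :=
  forceListK (runW w (e8L i)) fun l => forceListK (runW w' (e8L i)) fun l' =>
    (List.range 24).any fun j => decide (l.getD j 0 ≠ l'.getD j 0)

theorem elt_ne_of_neWi {i : ℕ} (hi : i < 24) {w w' : List Letter} (h : okW w = true)
    (h' : okW w' = true) (hne : neWi i w w' = true) : elt w ≠ elt w' := by
  intro he
  have h1 : ((elt w • vec8 (gPt i) : ↥leechLattice) : IVec) =
      ((elt w' • vec8 (gPt i) : ↥leechLattice) : IVec) := by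
    rw [he]
  rw [elt_smul_list h _ _ (vec8_eq_vecOf (gPt i)), elt_smul_list h' _ _ (vec8_eq_vecOf (gPt i)),
    gIdx_gPt i hi] at h1
  unfold neWi at hne
  rw [forceListK_eq, forceListK_eq] at hne
  obtain ⟨j, hj, hd⟩ := List.any_eq_true.mp hne
  rw [decide_eq_true_eq] at hd
  apply hd
  have h2 := congrFun h1 (gPt j)
  unfold vecOf at h2
  rw [gIdx_gPt j (List.mem_range.mp hj)] at h2
  exact h2

theorem mkQ_elt_nei {i i' : ℕ} (hi : i < 24) (hi' : i' < 24) {w w' : List Letter}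
    (h : okW w = true) (h' : okW w' = true) (h1 : neWi i w w' = true)
    (h2 : neWi i' w (w' ++ nW) = true) : mkQ (elt w) ≠ mkQ (elt w') := by
  intro he
  rw [mkQ_eq_iff] at he
  rcases he with he | he
  · exact elt_ne_of_neWi hi h h' h1 he
  · exact elt_ne_of_neWi hi' h (okW_append h' nW_ok) h2 (he.trans (elt_append_nW h').symm)

theorem eqW_of_forall {w w' : List Letter}
    (h : ∀ i < 24, runW w (e8L i) = runW w' (e8L i)) : eqW w w' = true := by
  unfold eqW
  rw [List.all_eq_true]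
  intro i hi
  rw [decide_eq_true_eq]
  exact h i (List.mem_range.mp hi)

theorem rel_as_0 : runW (powW (sW ++ aW) 15) (e8L 0) = runW ([] ++ nW) (e8L 0) := by
  decide +kernel

theorem rel_as_1 : runW (powW (sW ++ aW) 15) (e8L 1) = runW ([] ++ nW) (e8L 1) := by
  decide +kernel

theorem rel_as_2 : runW (powW (sW ++ aW) 15) (e8L 2) = runW ([] ++ nW) (e8L 2) := by
  decide +kernel

theorem rel_as_3 : runW (powW (sW ++ aW) 15) (e8L 3) = runW ([] ++ nW) (e8L 3) := by
  decide +kernel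

theorem rel_as_4 : runW (powW (sW ++ aW) 15) (e8L 4) = runW ([] ++ nW) (e8L 4) := by
  decide +kernel

theorem rel_as_5 : runW (powW (sW ++ aW) 15) (e8L 5) = runW ([] ++ nW) (e8L 5) := by
  decide +kernel

theorem rel_as_6 : runW (powW (sW ++ aW) 15) (e8L 6) = runW ([] ++ nW) (e8L 6) := by
  decide +kernel

theorem rel_as_7 : runW (powW (sW ++ aW) 15) (e8L 7) = runW ([] ++ nW) (e8L 7) := by
  decide +kernel

theorem rel_as_8 : runW (powW (sW ++ aW) 15) (e8L 8) = runW ([] ++ nW) (e8L 8) := by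
  decide +kernel

theorem rel_as_9 : runW (powW (sW ++ aW) 15) (e8L 9) = runW ([] ++ nW) (e8L 9) := by
  decide +kernel

theorem rel_as_10 : runW (powW (sW ++ aW) 15) (e8L 10) = runW ([] ++ nW) (e8L 10) := by
  decide +kernel

theorem rel_as_11 : runW (powW (sW ++ aW) 15) (e8L 11) = runW ([] ++ nW) (e8L 11) := by
  decide +kernel

theorem rel_as_12 : runW (powW (sW ++ aW) 15) (e8L 12) = runW ([] ++ nW) (e8L 12) := by
  decide +kernel

theorem rel_as_13 : runW (powW (sW ++ aW) 15) (e8L 13) = runW ([] ++ nW) (e8L 13) := by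
  decide +kernel

theorem rel_as_14 : runW (powW (sW ++ aW) 15) (e8L 14) = runW ([] ++ nW) (e8L 14) := by
  decide +kernel

theorem rel_as_15 : runW (powW (sW ++ aW) 15) (e8L 15) = runW ([] ++ nW) (e8L 15) := by
  decide +kernel

theorem rel_as_16 : runW (powW (sW ++ aW) 15) (e8L 16) = runW ([] ++ nW) (e8L 16) := by
  decide +kernel

theorem rel_as_17 : runW (powW (sW ++ aW) 15) (e8L 17) = runW ([] ++ nW) (e8L 17) := by
  decide +kernel

theorem rel_as_18 : runW (powW (sW ++ aW) 15) (e8L 18) = runW ([] ++ nW) (e8L 18) := by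
  decide +kernel

theorem rel_as_19 : runW (powW (sW ++ aW) 15) (e8L 19) = runW ([] ++ nW) (e8L 19) := by
  decide +kernel

theorem rel_as_20 : runW (powW (sW ++ aW) 15) (e8L 20) = runW ([] ++ nW) (e8L 20) := by
  decide +kernel

theorem rel_as_21 : runW (powW (sW ++ aW) 15) (e8L 21) = runW ([] ++ nW) (e8L 21) := by
  decide +kernel

theorem rel_as_22 : runW (powW (sW ++ aW) 15) (e8L 22) = runW ([] ++ nW) (e8L 22) := by
  decide +kernel

theorem rel_as_23 : runW (powW (sW ++ aW) 15) (e8L 23) = runW ([] ++ nW) (e8L 23) := by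
  decide +kernel

theorem rel_as : (eqW (powW (sW ++ aW) 15) [] || eqW (powW (sW ++ aW) 15) ([] ++ nW)) = true := by
  rw [Bool.or_eq_true]
  right
  apply eqW_of_forall
  intro i hi
  interval_cases i
  exacts [rel_as_0, rel_as_1, rel_as_2, rel_as_3, rel_as_4, rel_as_5, rel_as_6, rel_as_7, rel_as_8, rel_as_9, rel_as_10, rel_as_11, rel_as_12, rel_as_13, rel_as_14, rel_as_15, rel_as_16, rel_as_17, rel_as_18, rel_as_19, rel_as_20, rel_as_21, rel_as_22, rel_as_23]

theorem rel_abe : (eqW (powW (eW ++ bW ++ aW) 11) [] ||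
    eqW (powW (eW ++ bW ++ aW) 11) ([] ++ nW)) = true := by
  decide +kernel

theorem cand_s_0 : eqW [] sW = true ∨
    (neWi 0 (powW ([] ++ aW) 15) [] = true ∧ neWi 0 (powW ([] ++ aW) 15) ([] ++ nW) = true) := by
  decide +kernel

theorem cand_s_1 : eqW sW sW = true ∨
    (neWi 0 (powW (sW ++ aW) 15) [] = true ∧ neWi 0 (powW (sW ++ aW) 15) ([] ++ nW) = true) := by
  decide +kernel

theorem cand_s_2 : eqW (sW ++ sW) sW = true ∨
    (neWi 0 (powW ((sW ++ sW) ++ aW) 15) [] = true ∧ neWi 0 (powW ((sW ++ sW) ++ aW) 15) ([] ++ nW) = true) := by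
  decide +kernel

theorem cand_s_3 : eqW eW sW = true ∨
    (neWi 0 (powW (eW ++ aW) 15) [] = true ∧ neWi 0 (powW (eW ++ aW) 15) ([] ++ nW) = true) := by
  decide +kernel

theorem cand_s_4 : eqW (sW ++ eW) sW = true ∨
    (neWi 0 (powW ((sW ++ eW) ++ aW) 15) [] = true ∧ neWi 0 (powW ((sW ++ eW) ++ aW) 15) ([] ++ nW) = true) := by
  decide +kernel

theorem cand_s_5 : eqW (sW ++ sW ++ eW) sW = true ∨
    (neWi 0 (powW ((sW ++ sW ++ eW) ++ aW) 15) [] = true ∧ neWi 0 (powW ((sW ++ sW ++ eW) ++ aW) 15) ([] ++ nW) = true) := by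
  decide +kernel

theorem cand_s : ∀ w ∈ wSL, eqW w sW = true ∨
    (neWi 0 (powW (w ++ aW) 15) [] = true ∧ neWi 0 (powW (w ++ aW) 15) ([] ++ nW) = true) := by
  intro w hw
  unfold wSL at hw
  simp only [List.mem_cons, List.mem_nil_iff, or_false] at hw
  rcases hw with rfl | rfl | rfl | rfl | rfl | rfl
  · exact cand_s_0
  · exact cand_s_1
  · exact cand_s_2
  · exact cand_s_3
  · exact cand_s_4
  · exact cand_s_5

theorem cand_e_0 : eqW [] eW = true ∨ eqW [] [] = true ∨
    (neWi 0 (powW ([] ++ bW ++ aW) 11) [] = true ∧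
      neWi 0 (powW ([] ++ bW ++ aW) 11) ([] ++ nW) = true) := by
  decide +kernel

theorem cand_e_1 : eqW sW eW = true ∨ eqW sW [] = true ∨
    (neWi 0 (powW (sW ++ bW ++ aW) 11) [] = true ∧
      neWi 0 (powW (sW ++ bW ++ aW) 11) ([] ++ nW) = true) := by
  decide +kernel

theorem cand_e_2 : eqW (sW ++ sW) eW = true ∨ eqW (sW ++ sW) [] = true ∨
    (neWi 0 (powW ((sW ++ sW) ++ bW ++ aW) 11) [] = true ∧
      neWi 0 (powW ((sW ++ sW) ++ bW ++ aW) 11) ([] ++ nW) = true) := by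
  decide +kernel

theorem cand_e_3 : eqW eW eW = true ∨ eqW eW [] = true ∨
    (neWi 0 (powW (eW ++ bW ++ aW) 11) [] = true ∧
      neWi 0 (powW (eW ++ bW ++ aW) 11) ([] ++ nW) = true) := by
  decide +kernel

theorem cand_e_4 : eqW (sW ++ eW) eW = true ∨ eqW (sW ++ eW) [] = true ∨
    (neWi 0 (powW ((sW ++ eW) ++ bW ++ aW) 11) [] = true ∧
      neWi 0 (powW ((sW ++ eW) ++ bW ++ aW) 11) ([] ++ nW) = true) := by
  decide +kernel

theorem cand_e_5 : eqW (sW ++ sW ++ eW) eW = true ∨ eqW (sW ++ sW ++ eW) [] = true ∨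
    (neWi 0 (powW ((sW ++ sW ++ eW) ++ bW ++ aW) 11) [] = true ∧
      neWi 0 (powW ((sW ++ sW ++ eW) ++ bW ++ aW) 11) ([] ++ nW) = true) := by
  decide +kernel

theorem cand_e : ∀ w ∈ wSL, eqW w eW = true ∨ eqW w [] = true ∨
    (neWi 0 (powW (w ++ bW ++ aW) 11) [] = true ∧
      neWi 0 (powW (w ++ bW ++ aW) 11) ([] ++ nW) = true) := by
  intro w hw
  unfold wSL at hw
  simp only [List.mem_cons, List.mem_nil_iff, or_false] at hw
  rcases hw with rfl | rfl | rfl | rfl | rfl | rfl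
  · exact cand_e_0
  · exact cand_e_1
  · exact cand_e_2
  · exact cand_e_3
  · exact cand_e_4
  · exact cand_e_5

theorem eW_ne : neWi 0 eW [] = true ∧ neWi 23 eW ([] ++ nW) = true := by decide +kernel

/-- the element of order three in the quotient -/
noncomputable def sq : ↥Co0 ⧸ Subgroup.center ↥Co0 := mkQ (elt sW)
/-- the sign change in the quotient -/
noncomputable def eq' : ↥Co0 ⧸ Subgroup.center ↥Co0 := mkQ (elt eW)

theorem mkQ_elt_as {w : List Letter} (h : okW w = true) :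
    mkQ (elt (powW (w ++ aW) 15)) = (Aq * mkQ (elt w)) ^ 15 := by
  rw [elt_powW (okW_append h aW_ok), elt_append h aW_ok, elt_aW, map_pow, map_mul]
  rfl

theorem mkQ_elt_abe {w : List Letter} (h : okW w = true) :
    mkQ (elt (powW (w ++ bW ++ aW) 11)) = (Aq * (Bq * mkQ (elt w))) ^ 11 := by
  rw [elt_powW (okW_append (okW_append h bW_ok) aW_ok), elt_append (okW_append h bW_ok) aW_ok,
    elt_append h bW_ok, elt_aW, elt_bW, map_pow, map_mul, map_mul]
  rfl

theorem pin_s (ψ : MulAut (↥Co0 ⧸ Subgroup.center ↥Co0)) (hA : ψ Aq = Aq)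
    (hS : ψ sq ∈ Sq) : ψ sq = sq := by
  obtain ⟨w, hw, e⟩ := mem_Sq.mp hS
  have h := wSL_ok w hw
  have h1 : (Aq * sq) ^ 15 = 1 := by
    rw [sq, ← mkQ_elt_as sW_ok, mkQ_elt_eq_of_eqW (okW_powW (okW_append sW_ok aW_ok) 15)
      (w' := []) rfl rel_as, elt_nil, map_one]
  have h2 : (Aq * mkQ (elt w)) ^ 15 = 1 := by
    have := congrArg ψ h1
    rwa [map_pow, map_mul, hA, e, map_one] at this
  rcases cand_s w hw with he | ⟨n1, n2⟩
  · rw [e, elt_eq_of_eqW h sW_ok he]
    rfl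
  · exfalso
    rw [← mkQ_elt_as h] at h2
    apply mkQ_elt_nei (by norm_num : 0 < 24) (by norm_num : 0 < 24) (okW_powW (okW_append h aW_ok) 15) (w' := []) rfl n1 n2
    rw [h2, elt_nil, map_one]

theorem eq'_ne_one : eq' ≠ 1 := by
  intro h
  apply mkQ_elt_nei (by norm_num : 0 < 24) (by norm_num : 23 < 24) eW_ok (w' := []) rfl eW_ne.1 eW_ne.2
  rw [elt_nil, map_one]
  exact h

theorem pin_e (ψ : MulAut (↥Co0 ⧸ Subgroup.center ↥Co0)) (hA : ψ Aq = Aq) (hB : ψ Bq = Bq)
    (hS : ψ eq' ∈ Sq) : ψ eq' = eq' := by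
  obtain ⟨w, hw, e⟩ := mem_Sq.mp hS
  have h := wSL_ok w hw
  have h1 : (Aq * (Bq * eq')) ^ 11 = 1 := by
    rw [eq', ← mkQ_elt_abe eW_ok, mkQ_elt_eq_of_eqW
      (okW_powW (okW_append (okW_append eW_ok bW_ok) aW_ok) 11) (w' := []) rfl rel_abe, elt_nil,
      map_one]
  have h2 : (Aq * (Bq * mkQ (elt w))) ^ 11 = 1 := by
    have := congrArg ψ h1
    rwa [map_pow, map_mul, map_mul, hA, hB, e, map_one] at this
  rcases cand_e w hw with he | he | ⟨n1, n2⟩
  · rw [e, elt_eq_of_eqW h eW_ok he]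
    rfl
  · exfalso
    rw [elt_eq_of_eqW h (w' := []) rfl he, elt_nil, map_one] at e
    apply eq'_ne_one
    apply ψ.injective
    rw [e, map_one]
  · exfalso
    rw [← mkQ_elt_abe h] at h2
    apply mkQ_elt_nei (by norm_num : 0 < 24) (by norm_num : 0 < 24) (okW_powW (okW_append (okW_append h bW_ok) aW_ok) 11) (w' := []) rfl n1 n2
    rw [h2, elt_nil, map_one]

theorem sq_mem : sq ∈ Sq := mkQ_elt_mem_Sq sW_mem_wSL
theorem eq'_mem : eq' ∈ Sq := mkQ_elt_mem_Sq eW_mem_wSL

/-- every element of the group of order six is a product of the two generators -/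
theorem Sq_gen {t : ↥Co0 ⧸ Subgroup.center ↥Co0} (ht : t ∈ Sq) :
    t = 1 ∨ t = sq ∨ t = sq * sq ∨ t = eq' ∨ t = eq' * sq ∨ t = eq' * (sq * sq) := by
  obtain ⟨w, hw, rfl⟩ := mem_Sq.mp ht
  unfold wSL at hw
  simp only [List.mem_cons, List.mem_nil_iff, or_false] at hw
  rcases hw with rfl | rfl | rfl | rfl | rfl | rfl
  · left
    rw [elt_nil, map_one]
  · right; left
    rfl
  · right; right; left
    rw [elt_append sW_ok sW_ok, map_mul]
    rfl
  · right; right; right; left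
    rfl
  · right; right; right; right; left
    rw [elt_append sW_ok eW_ok, map_mul]
    rfl
  · right; right; right; right; right
    rw [elt_append (okW_append sW_ok sW_ok) eW_ok, elt_append sW_ok sW_ok, map_mul, map_mul]
    rfl

theorem pin_Sq (ψ : MulAut (↥Co0 ⧸ Subgroup.center ↥Co0)) (hA : ψ Aq = Aq) (hB : ψ Bq = Bq)
    (hS : ∀ t ∈ Sq, ψ t ∈ Sq) : ∀ t ∈ Sq, ψ t = t := by
  have h1 := pin_s ψ hA (hS _ sq_mem)
  have h2 := pin_e ψ hA hB (hS _ eq'_mem)
  intro t ht
  rcases Sq_gen ht with rfl | rfl | rfl | rfl | rfl | rfl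
  · rw [map_one]
  · exact h1
  · rw [map_mul, h1]
  · exact h2
  · rw [map_mul, h1, h2]
  · rw [map_mul, map_mul, h1, h2]

end Cfsg.Agent.Helper92.OutCo1
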