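import Cfsg.Agent.Helper92.OutCo1CentB2
import Cfsg.Agent.Helper92.Co1Final
import Cfsg.Agent.Helper92.OutCo1Abs

/-!
The automorphism group of the rank-24 lattice modulo its centre: lifting of commutation, the
centralisers of the translation and of the multiplication.
-/

set_option autoImplicit false

namespace Cfsg.Agent.Helper92.OutCo1

open Cfsg Cfsg.Agent.Helper8 Cfsg.Agent.Helper27 Cfsg.Agent.Helper7 Cfsg.Agent.Helper92
  Cfsg.Agent.Helper92.Co1

/-- the quotient map -/
noncomputable abbrev mkQ : ↥Co0 →* ↥Co0 ⧸ Subgroup.center ↥Co0 :=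
  QuotientGroup.mk' (Subgroup.center ↥Co0)

theorem mkQ_surjective : Function.Surjective mkQ := QuotientGroup.mk'_surjective _

theorem negCo0_mul_self : negCo0 * negCo0 = 1 := by
  apply co0_ext
  intro v
  rw [mul_smul, negCo0_smul, negCo0_smul, neg_neg, one_smul]

theorem negCo0_inv : negCo0⁻¹ = negCo0 := inv_eq_of_mul_eq_one_right negCo0_mul_self

theorem negCo0_comm (x : ↥Co0) : negCo0 * x = x * negCo0 :=
  (Subgroup.mem_center_iff.mp negCo0_mem_center x).symm

theorem mkQ_eq_iff (x y : ↥Co0) : mkQ x = mkQ y ↔ x = y ∨ x = negCo0 * y := by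
  rw [QuotientGroup.mk'_apply, QuotientGroup.mk'_apply, QuotientGroup.eq, mem_center_iff']
  constructor
  · rintro (h | h)
    · left
      rw [inv_mul_eq_one] at h
      exact h
    · right
      rw [inv_mul_eq_iff_eq_mul] at h
      rw [h, negCo0_comm, mul_assoc, negCo0_mul_self, mul_one]
  · rintro (h | h)
    · left
      rw [h, inv_mul_cancel]
    · right
      rw [h, negCo0_comm, mul_inv_rev, inv_mul_cancel_right, negCo0_inv]

theorem mkQ_eq_one_iff (x : ↥Co0) : mkQ x = 1 ↔ x = 1 ∨ x = negCo0 := by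
  rw [← map_one mkQ, mkQ_eq_iff, mul_one]

theorem mkQ_negCo0 : mkQ negCo0 = 1 := (mkQ_eq_one_iff _).mpr (Or.inr rfl)

/-- commutation in the quotient with an element of odd order lifts -/
theorem commute_of_mkQ_commute {g h : ↥Co0} {n : ℕ} (hn : Odd n) (hh : h ^ n = 1)
    (hc : mkQ g * mkQ h = mkQ h * mkQ g) : g * h = h * g := by
  rw [← map_mul, ← map_mul, mkQ_eq_iff] at hc
  rcases hc with hc | hc
  · exact hc
  · exfalso
    -- `g h g⁻¹ = -h`
    have h1 : g * h * g⁻¹ = negCo0 * h := by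
      rw [hc, mul_assoc, mul_assoc, mul_inv_cancel, mul_one]
    have h2 : (g * h * g⁻¹) ^ n = 1 := by rw [conj_pow, hh, mul_one, mul_inv_cancel]
    have h3 : (negCo0 * h) ^ n = negCo0 ^ n * h ^ n :=
      (show Commute negCo0 h from negCo0_comm h).mul_pow n
    rw [h1, h3, hh, mul_one] at h2
    obtain ⟨m, rfl⟩ := hn
    have h4 : negCo0 ^ 2 = 1 := by rw [pow_two, negCo0_mul_self]
    have h5 : negCo0 ^ (2 * m + 1) = negCo0 := by rw [pow_succ, pow_mul, h4, one_pow, one_mul]
    rw [h5] at h2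
    exact negCo0_ne_one h2

/-! ### the elements of the quotient -/

/-- coordinate permutations in the quotient -/
noncomputable def phiQ : ↥M24 →* ↥Co0 ⧸ Subgroup.center ↥Co0 := mkQ.comp permCo0

theorem permCo0_ne_negCo0 (σ : ↥M24) : permCo0 σ ≠ negCo0 := by
  intro h
  have h1 := actsAs_permCo0 σ
  rw [h] at h1
  have := (actsAs_inj h1 actsAs_negCo0).2
  have hmem : (none : GolayPt) ∈ (Finset.univ : Finset GolayPt) := Finset.mem_univ _
  rw [← this] at hmem
  exact absurd hmem (Finset.notMem_empty _)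

theorem phiQ_injective : Function.Injective phiQ := by
  rw [injective_iff_map_eq_one]
  intro σ h
  have h1 : mkQ (permCo0 σ) = 1 := h
  rw [mkQ_eq_one_iff] at h1
  rcases h1 with h1 | h1
  · exact permCo0_injective (h1.trans (map_one permCo0).symm)
  · exact absurd h1 (permCo0_ne_negCo0 σ)

/-- the translation in the quotient -/
noncomputable def Aq : ↥Co0 ⧸ Subgroup.center ↥Co0 := phiQ aP
/-- the multiplication in the quotient -/
noncomputable def Bq : ↥Co0 ⧸ Subgroup.center ↥Co0 := phiQ bP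
/-- the twisted cube map in the quotient -/
noncomputable def Cq : ↥Co0 ⧸ Subgroup.center ↥Co0 := phiQ cP

theorem aP_pow : aP ^ 23 = 1 := Subtype.ext trP_one_pow
theorem bP_pow : bP ^ 11 = 1 := Subtype.ext mu23_pow_eleven

theorem aP_ne_one : aP ≠ 1 := by
  intro h
  have := congrArg (fun σ : ↥M24 => (σ : Equiv.Perm GolayPt) (some 0)) h
  simp only [aP, trP_some, Subgroup.coe_one, Equiv.Perm.one_apply, zero_add] at this
  exact absurd (Option.some.inj this) (by decide)

theorem bP_ne_one : bP ≠ 1 := by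
  intro h
  have := congrArg (fun σ : ↥M24 => (σ : Equiv.Perm GolayPt) (some 1)) h
  simp only [bP, mu23, muP_some, two23_val, Subgroup.coe_one, Equiv.Perm.one_apply, mul_one] at this
  exact absurd (Option.some.inj this) (by decide)

theorem orderOf_Aq : orderOf Aq = 23 := by
  apply orderOf_eq_prime
  · rw [Aq, ← map_pow, aP_pow, map_one]
  · intro h
    exact aP_ne_one (phiQ_injective (h.trans (map_one phiQ).symm))

theorem orderOf_Bq : orderOf Bq = 11 := by
  have : Fact (Nat.Prime 11) := ⟨by norm_num⟩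
  apply orderOf_eq_prime
  · rw [Bq, ← map_pow, bP_pow, map_one]
  · intro h
    exact bP_ne_one (phiQ_injective (h.trans (map_one phiQ).symm))

/-- the centraliser of the translation in the quotient -/
theorem cent_Aq (g : ↥Co0 ⧸ Subgroup.center ↥Co0) (h : g * Aq = Aq * g) :
    g ∈ Subgroup.zpowers Aq := by
  obtain ⟨g0, rfl⟩ := mkQ_surjective g
  have hpow : permCo0 aP ^ 23 = 1 := by rw [← map_pow, aP_pow, map_one]
  have hc := commute_of_mkQ_commute (n := 23) (by decide) hpow h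
  obtain ⟨k, hk | hk⟩ := cent_a hc
  · rw [hk, map_pow]
    exact Subgroup.pow_mem _ (Subgroup.mem_zpowers _) k
  · rw [hk, map_mul, mkQ_negCo0, one_mul, map_pow]
    exact Subgroup.pow_mem _ (Subgroup.mem_zpowers _) k

theorem Bq_conj_Aq : Bq * Aq * Bq⁻¹ = Aq ^ 2 := by
  have h : bP * aP * bP⁻¹ = aP ^ 2 := Subtype.ext mu23_conj_trP
  rw [Aq, Bq, ← map_inv, ← map_mul, ← map_mul, h, map_pow]

theorem Cq_conj_Bq : Cq * Bq * Cq⁻¹ = Bq ^ 3 := by
  have h : cP * bP * cP⁻¹ = bP ^ 3 := Subtype.ext cubeTwist_conj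
  rw [Bq, Cq, ← map_inv, ← map_mul, ← map_mul, h, map_pow]

/-- conjugates of `B z` under the group generated by `A` -/
theorem conj_of_sq {G : Type*} [Group G] {A B : G} (h : B * A * B⁻¹ = A ^ 2) :
    ∀ z ∈ Subgroup.zpowers A, ∃ T ∈ Subgroup.zpowers A, T * (B * z) * T⁻¹ = B := by
  intro z hz
  refine ⟨z ^ 2, Subgroup.pow_mem _ hz 2, ?_⟩
  have hx : B * z * B⁻¹ = z ^ 2 := by
    obtain ⟨n, rfl⟩ := Subgroup.mem_zpowers_iff.mp hz
    rw [← conj_zpow, h, ← zpow_natCast, ← zpow_natCast, ← zpow_mul, ← zpow_mul, mul_comm]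
  have hx2 : B * (z ^ 2)⁻¹ * B⁻¹ = ((z ^ 2) ^ 2)⁻¹ := by
    rw [← conj_inv, ← conj_pow, hx]
  calc z ^ 2 * (B * z) * (z ^ 2)⁻¹
      = z ^ 2 * (B * z * B⁻¹) * (B * (z ^ 2)⁻¹ * B⁻¹) * B := by group
    _ = z ^ 2 * z ^ 2 * ((z ^ 2) ^ 2)⁻¹ * B := by rw [hx, hx2]
    _ = B := by group

end Cfsg.Agent.Helper92.OutCo1
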