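import Cfsg.Agent.Helper92.OutCo1Quot

/-!
The group of order six centralising the multiplication and the twisted cube map in the automorphism
group of the rank-24 lattice modulo its centre.
-/

set_option autoImplicit false

namespace Cfsg.Agent.Helper92.OutCo1

open Cfsg Cfsg.Agent.Helper8 Cfsg.Agent.Helper27 Cfsg.Agent.Helper7 Cfsg.Agent.Helper92
  Cfsg.Agent.Helper92.Co1

/-! ### inequality of words -/

/-- Boolean test that two words differ on `8 e_∞` -/
def neW (w w' : List Letter) : Bool :=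
  (List.range 24).any fun j =>
    decide ((runW w (e8L 23)).getD j 0 ≠ (runW w' (e8L 23)).getD j 0)

theorem elt_ne_of_neW {w w' : List Letter} (h : okW w = true) (h' : okW w' = true)
    (hne : neW w w' = true) : elt w ≠ elt w' := by
  intro he
  have h1 : ((elt w • vec8 none : ↥leechLattice) : IVec) = ((elt w' • vec8 none : ↥leechLattice) : IVec) := by
    rw [he]
  rw [elt_smul_list h _ _ (vec8_eq_vecOf none), elt_smul_list h' _ _ (vec8_eq_vecOf none)] at h1
  unfold neW at hne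
  obtain ⟨j, hj, hd⟩ := List.any_eq_true.mp hne
  rw [decide_eq_true_eq] at hd
  apply hd
  have h2 := congrFun h1 (gPt j)
  unfold vecOf at h2
  rw [gIdx_gPt j (List.mem_range.mp hj)] at h2
  exact h2

theorem elt_append_nW {w : List Letter} (h : okW w = true) : elt (w ++ nW) = negCo0 * elt w := by
  rw [elt_append h nW_ok, elt_nW]

theorem mkQ_elt_ne {w w' : List Letter} (h : okW w = true) (h' : okW w' = true)
    (h1 : neW w w' = true) (h2 : neW w (w' ++ nW) = true) : mkQ (elt w) ≠ mkQ (elt w') := by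
  intro he
  rw [mkQ_eq_iff] at he
  rcases he with he | he
  · exact elt_ne_of_neW h h' h1 he
  · exact elt_ne_of_neW h (okW_append h' nW_ok) h2 (he.trans (elt_append_nW h').symm)

theorem mkQ_elt_eq_of_eqW {w w' : List Letter} (h : okW w = true) (h' : okW w' = true)
    (he : (eqW w w' || eqW w (w' ++ nW)) = true) : mkQ (elt w) = mkQ (elt w') := by
  rw [Bool.or_eq_true] at he
  rcases he with he | he
  · rw [elt_eq_of_eqW h h' he]
  · rw [elt_eq_of_eqW h (okW_append h' nW_ok) he, elt_append_nW h', map_mul, mkQ_negCo0, one_mul]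

/-! ### the group of order six -/

/-- the words of the six elements -/
def wSL : List (List Letter) := [[], sW, sW ++ sW, eW, sW ++ eW, sW ++ sW ++ eW]

theorem wSL_ok : ∀ w ∈ wSL, okW w = true := by decide +kernel

theorem wSL_mul : ∀ w1 ∈ wSL, ∀ w2 ∈ wSL, ∃ w3 ∈ wSL, eqW (w2 ++ w1) w3 = true := by
  decide +kernel

theorem wSL_inv : ∀ w1 ∈ wSL, ∃ w2 ∈ wSL, eqW (w2 ++ w1) [] = true := by decide +kernel

/-- the group of order six in the automorphism group of the lattice -/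
noncomputable def S0 : Subgroup ↥Co0 where
  carrier := {x | ∃ w ∈ wSL, x = elt w}
  mul_mem' := by
    rintro x y ⟨w1, hw1, rfl⟩ ⟨w2, hw2, rfl⟩
    obtain ⟨w3, hw3, he⟩ := wSL_mul w1 hw1 w2 hw2
    refine ⟨w3, hw3, ?_⟩
    rw [← elt_append (wSL_ok w2 hw2) (wSL_ok w1 hw1)]
    exact elt_eq_of_eqW (okW_append (wSL_ok w2 hw2) (wSL_ok w1 hw1)) (wSL_ok w3 hw3) he
  one_mem' := ⟨[], List.Mem.head _, elt_nil.symm⟩
  inv_mem' := by
    rintro x ⟨w1, hw1, rfl⟩
    obtain ⟨w2, hw2, he⟩ := wSL_inv w1 hw1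
    refine ⟨w2, hw2, ?_⟩
    have h1 := elt_eq_of_eqW (okW_append (wSL_ok w2 hw2) (wSL_ok w1 hw1)) (w' := []) rfl he
    rw [elt_append (wSL_ok w2 hw2) (wSL_ok w1 hw1), elt_nil] at h1
    exact inv_eq_of_mul_eq_one_right h1

/-- the group of order six in the quotient -/
noncomputable def Sq : Subgroup (↥Co0 ⧸ Subgroup.center ↥Co0) := S0.map mkQ

theorem mem_Sq {t : ↥Co0 ⧸ Subgroup.center ↥Co0} :
    t ∈ Sq ↔ ∃ w ∈ wSL, t = mkQ (elt w) := by
  unfold Sq
  rw [Subgroup.mem_map]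
  constructor
  · rintro ⟨x, ⟨w, hw, rfl⟩, rfl⟩
    exact ⟨w, hw, rfl⟩
  · rintro ⟨w, hw, rfl⟩
    exact ⟨elt w, ⟨w, hw, rfl⟩, rfl⟩

theorem mkQ_elt_mem_Sq {w : List Letter} (hw : w ∈ wSL) : mkQ (elt w) ∈ Sq :=
  mem_Sq.mpr ⟨w, hw, rfl⟩

/-! ### commutation with the multiplication and the twisted cube map -/

theorem wSL_b : ∀ w ∈ wSL, eqW (w ++ bW) (bW ++ w) = true := by decide +kernel
theorem wSL_c : ∀ w ∈ wSL, eqW (w ++ cW) (cW ++ w) = true := by decide +kernel
theorem wSL_six : ∀ w ∈ wSL, eqW (powW w 6) [] = true := by decide +kernel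

theorem elt_comm_b {w : List Letter} (hw : w ∈ wSL) :
    elt w * permCo0 bP = permCo0 bP * elt w := by
  have h := wSL_ok w hw
  have := elt_eq_of_eqW (okW_append h bW_ok) (okW_append bW_ok h) (wSL_b w hw)
  rwa [elt_append h bW_ok, elt_append bW_ok h, elt_bW, eq_comm] at this

theorem elt_comm_c {w : List Letter} (hw : w ∈ wSL) :
    elt w * permCo0 cP = permCo0 cP * elt w := by
  have h := wSL_ok w hw
  have := elt_eq_of_eqW (okW_append h cW_ok) (okW_append cW_ok h) (wSL_c w hw)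
  rwa [elt_append h cW_ok, elt_append cW_ok h, elt_cW, eq_comm] at this

theorem Sq_comm_B : ∀ t ∈ Sq, t * Bq = Bq * t := by
  intro t ht
  obtain ⟨w, hw, rfl⟩ := mem_Sq.mp ht
  show mkQ (elt w) * mkQ (permCo0 bP) = mkQ (permCo0 bP) * mkQ (elt w)
  rw [← map_mul, ← map_mul, elt_comm_b hw]

theorem Sq_comm_C : ∀ t ∈ Sq, Cq * t = t * Cq := by
  intro t ht
  obtain ⟨w, hw, rfl⟩ := mem_Sq.mp ht
  show mkQ (permCo0 cP) * mkQ (elt w) = mkQ (elt w) * mkQ (permCo0 cP)
  rw [← map_mul, ← map_mul, elt_comm_c hw]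

theorem Sq_pow_six : ∀ t ∈ Sq, t ^ 6 = 1 := by
  intro t ht
  obtain ⟨w, hw, rfl⟩ := mem_Sq.mp ht
  have h := wSL_ok w hw
  have := elt_eq_of_eqW (okW_powW h 6) (w' := []) rfl (wSL_six w hw)
  rw [elt_powW h, elt_nil] at this
  rw [← map_pow, this, map_one]

/-! ### the centre of the group of order six is trivial -/

theorem wSL_centre : ∀ w ∈ wSL, eqW w [] = true ∨ ∃ w' ∈ wSL,
    neW (w' ++ w) (w ++ w') = true ∧ neW (w' ++ w) (w ++ w' ++ nW) = true := by
  decide +kernel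

theorem Sq_centre : ∀ z ∈ Sq, (∀ t ∈ Sq, z * t = t * z) → z = 1 := by
  intro z hz hc
  obtain ⟨w, hw, rfl⟩ := mem_Sq.mp hz
  have h := wSL_ok w hw
  rcases wSL_centre w hw with he | ⟨w', hw', h1, h2⟩
  · rw [elt_eq_of_eqW h (w' := []) rfl he, elt_nil, map_one]
  · exfalso
    have h' := wSL_ok w' hw'
    have := hc _ (mkQ_elt_mem_Sq hw')
    rw [← map_mul, ← map_mul, ← elt_append h' h, ← elt_append h h'] at this
    exact mkQ_elt_ne (okW_append h' h) (okW_append h h') h1 h2 this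

/-! ### the centraliser of the multiplication in the quotient -/

theorem U6w_Sq : ∀ w ∈ U6w, ∃ w' ∈ wSL, (eqW w w' || eqW w (w' ++ nW)) = true := by
  decide +kernel

theorem mkQ_U6w_mem {w : List Letter} (hw : w ∈ U6w) : mkQ (elt w) ∈ Sq := by
  obtain ⟨w', hw', he⟩ := U6w_Sq w hw
  rw [mkQ_elt_eq_of_eqW (U6w_ok w hw).1 (wSL_ok w' hw') he]
  exact mkQ_elt_mem_Sq hw'

theorem eW_mem_wSL : eW ∈ wSL := List.Mem.tail _ (List.Mem.tail _ (List.Mem.tail _ (List.Mem.head _)))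
theorem sW_mem_wSL : sW ∈ wSL := List.Mem.tail _ (List.Mem.head _)

theorem cent_Bq (g : ↥Co0 ⧸ Subgroup.center ↥Co0) (h : g * Bq = Bq * g) :
    ∃ z ∈ Subgroup.zpowers Bq, ∃ t ∈ Sq, g = z * t := by
  obtain ⟨g0, rfl⟩ := mkQ_surjective g
  have hpow : permCo0 bP ^ 11 = 1 := by rw [← map_pow, bP_pow, map_one]
  have hc := commute_of_mkQ_commute (n := 11) (by decide) hpow h
  obtain ⟨w, hw, k, hk | hk⟩ := cent_b hc
  · refine ⟨Bq ^ k, Subgroup.pow_mem _ (Subgroup.mem_zpowers _) k, mkQ (elt w),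
      mkQ_U6w_mem hw, ?_⟩
    have hcomm : Commute (mkQ (elt w)) Bq := Sq_comm_B _ (mkQ_U6w_mem hw)
    rw [hk, map_mul, map_pow]
    exact (hcomm.pow_right k).eq
  · have ht : mkQ (elt w) * mkQ (elt eW) ∈ Sq :=
      Sq.mul_mem (mkQ_U6w_mem hw) (mkQ_elt_mem_Sq eW_mem_wSL)
    refine ⟨Bq ^ k, Subgroup.pow_mem _ (Subgroup.mem_zpowers _) k, _, ht, ?_⟩
    have hcomm : Commute (mkQ (elt w) * mkQ (elt eW)) Bq := Sq_comm_B _ ht
    rw [hk, map_mul, map_mul, map_pow, ← mul_assoc]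
    exact (hcomm.pow_right k).eq

end Cfsg.Agent.Helper92.OutCo1
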