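import Cfsg.Agent.Helper92.PermTab
import Cfsg.Agent.Helper8.Golay

/-!
A certificate checker for statements of the form "every `g ∈ Cfsg.M24` (possibly with `g ^ K = 1`)
whose values satisfy given domain constraints is one of ...".  The state is a list `dom` of 24 masks,
`dom[x]` being the set of possible indices of `g (gPt x)`.
-/

set_option autoImplicit false

namespace Cfsg.Agent.Helper92

open Cfsg Cfsg.Agent.Helper27 Cfsg.Agent.Helper7
open scoped Pointwise

/-- mask of all 24 points -/
def fullMask : ℕ := 16777215

theorem testBit_fullMask {i : ℕ} (hi : i < 24) : fullMask.testBit i = true := by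
  have : ∀ i < 24, Nat.testBit fullMask i = true := by decide
  exact this i hi

/-- the values of `g` are compatible with the domains -/
def Compat (g : Equiv.Perm GolayPt) (dom : List ℕ) : Prop :=
  ∀ x < 24, (dom.getD x 0).testBit (gIdx (g (gPt x))) = true

/-- index-aware map over a list -/
def updAll (f : ℕ → ℕ → ℕ) : ℕ → List ℕ → List ℕ
  | _, [] => []
  | i, m :: ms => f i m :: updAll f (i + 1) ms

theorem length_updAll (f : ℕ → ℕ → ℕ) (i : ℕ) (l : List ℕ) : (updAll f i l).length = l.length := by
  induction l generalizing i with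
  | nil => rfl
  | cons m ms ih => simp [updAll, ih]

theorem getD_updAll (f : ℕ → ℕ → ℕ) (i : ℕ) (l : List ℕ) (j : ℕ) (hj : j < l.length) :
    (updAll f i l).getD j 0 = f (i + j) (l.getD j 0) := by
  induction l generalizing i j with
  | nil => simp at hj
  | cons m ms ih =>
    cases j with
    | zero => simp [updAll]
    | succ j =>
      simp only [updAll, List.getD_cons_succ]
      rw [ih (i + 1) j (by simpa using hj)]
      congr 1
      omega

theorem lt_length_of_compat {g : Equiv.Perm GolayPt} {dom : List ℕ} (h : Compat g dom) {x : ℕ}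
    (hx : x < 24) : x < dom.length := by
  by_contra hlt
  have := h x hx
  rw [List.getD_eq_default _ _ (not_lt.1 hlt)] at this
  simp at this

theorem testBit_two_pow_eq {y j : ℕ} (h : (2 ^ y).testBit j = true) : j = y := by
  rw [Nat.testBit_two_pow] at h
  exact (of_decide_eq_true h).symm

/-- if the domain of `x` is the single bit `y`, the value is known -/
theorem value_of_bit {g : Equiv.Perm GolayPt} {dom : List ℕ} (h : Compat g dom) {x y : ℕ}
    (hx : x < 24) (hd : dom.getD x 0 = 2 ^ y) : g (gPt x) = gPt y := by
  have := h x hx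
  rw [hd] at this
  rw [← testBit_two_pow_eq this, gPt_gIdx]

/-! ### the octad rule -/

/-- Two octads: if at least five points of the first are mapped into the second by `g ∈ M24`, then
`g` maps the first onto the second. -/
theorem octad_image_eq {g : Equiv.Perm GolayPt} (hg : g ∈ M24) {o o' : ℕ}
    (ho : o < 2 ^ 24) (ho' : o' < 2 ^ 24) (hc : isCode o = true) (hc' : isCode o' = true)
    (h8 : popc 24 o = 8) (h8' : popc 24 o' = 8) (I : Finset GolayPt) (hI : 5 ≤ I.card)
    (hIo : ∀ p ∈ I, p ∈ setOf o ∧ g p ∈ setOf o') : g • setOf o = setOf o' := by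
  have hw : wordOf o ∈ golayCode := (wordOf_mem_golayCode_iff ho).2 hc
  have hw' : wordOf o' ∈ golayCode := (wordOf_mem_golayCode_iff ho').2 hc'
  have hgw : permL g (wordOf o) ∈ golayCode := permL_mem_of_mem_M24 hg hw
  have hs : g • setOf o = support₂ (permL g (wordOf o)) := by
    rw [← support₂_wordOf, smul_support₂]
  by_contra hne
  have hne' : wordOf o' + permL g (wordOf o) ≠ 0 := by
    intro h0
    apply hne
    have : permL g (wordOf o) = wordOf o' := by
      have h1 : ∀ a b : ZMod 2, a + b = 0 → b = a := by decide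
      funext p
      exact h1 _ _ (congrFun h0 p)
    rw [hs, this, support₂_wordOf]
  have h8'' := eight_le_weight _ (golayCode.add_mem hw' hgw) hne'
  have hcs : hammingNorm (wordOf o' + permL g (wordOf o)) =
      (support₂ (wordOf o' + permL g (wordOf o))).card := rfl
  rw [hcs, Cfsg.Agent.Helper8.support₂_add, support₂_wordOf, ← hs] at h8''
  have hcard := Cfsg.Agent.Helper8.card_symmDiff_add (setOf o') (g • setOf o)
  have hA : (setOf o).card = 8 := by rw [card_setOf, h8]
  have hA' : (setOf o').card = 8 := by rw [card_setOf, h8']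
  have hgA : (g • setOf o).card = 8 := by rw [Finset.card_smul_finset, hA]
  have hsub : I.image g ⊆ setOf o' ∩ g • setOf o := by
    intro q hq
    rw [Finset.mem_image] at hq
    obtain ⟨p, hp, rfl⟩ := hq
    rw [Finset.mem_inter]
    exact ⟨(hIo p hp).2, Finset.mem_smul_finset.2 ⟨p, (hIo p hp).1, rfl⟩⟩
  have hI' := Finset.card_le_card hsub
  rw [Finset.card_image_of_injective _ g.injective] at hI'
  omega

/-- number of points of `o` whose domain lies inside `o'` -/
def countInside (dom : List ℕ) (o o' : ℕ) : ℕ :=
  (List.range 24).countP fun x => o.testBit x && (dom.getD x 0 &&& (fullMask ^^^ o') == 0)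

theorem testBit_of_and_xor_eq_zero {d o' j : ℕ} (hj : j < 24) (h : d &&& (fullMask ^^^ o') = 0)
    (hd : d.testBit j = true) : o'.testBit j = true := by
  have := congrArg (fun n => n.testBit j) h
  simp only [Nat.testBit_and, Nat.testBit_xor, testBit_fullMask hj, hd, Nat.zero_testBit,
    Bool.true_and] at this
  cases h' : o'.testBit j <;> simp_all

theorem exists_finset_of_countInside {g : Equiv.Perm GolayPt} {dom : List ℕ} (hcomp : Compat g dom)
    {o o' : ℕ} (h5 : 5 ≤ countInside dom o o') :
    ∃ I : Finset GolayPt, 5 ≤ I.card ∧ ∀ p ∈ I, p ∈ setOf o ∧ g p ∈ setOf o' := by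
  classical
  let J : Finset ℕ := (Finset.range 24).filter fun x =>
    (o.testBit x && (dom.getD x 0 &&& (fullMask ^^^ o') == 0)) = true
  have hJ : J.card = countInside dom o o' := by
    unfold countInside
    have hJe : J = ((List.range 24).filter fun x =>
        o.testBit x && (dom.getD x 0 &&& (fullMask ^^^ o') == 0)).toFinset := by
      ext x
      simp only [J, Finset.mem_filter, Finset.mem_range, List.mem_toFinset, List.mem_filter,
        List.mem_range]
    rw [hJe, List.toFinset_card_of_nodup ((List.nodup_range).filter _),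
      List.countP_eq_length_filter]
  refine ⟨J.image gPt, ?_, ?_⟩
  · rw [Finset.card_image_of_injOn, hJ]
    · exact h5
    · intro a ha b hb hab
      have ha' : a < 24 := Finset.mem_range.1 (Finset.mem_filter.1 ha).1
      have hb' : b < 24 := Finset.mem_range.1 (Finset.mem_filter.1 hb).1
      rw [← gIdx_gPt a ha', ← gIdx_gPt b hb', hab]
  · intro p hp
    rw [Finset.mem_image] at hp
    obtain ⟨x, hx, rfl⟩ := hp
    rw [Finset.mem_filter, Finset.mem_range, Bool.and_eq_true, beq_iff_eq] at hx
    obtain ⟨hx24, hox, hdx⟩ := hx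
    refine ⟨?_, ?_⟩
    · rw [mem_setOf, gIdx_gPt x hx24]; exact hox
    · rw [mem_setOf]
      exact testBit_of_and_xor_eq_zero (gIdx_lt _) hdx (hcomp x hx24)

/-- new domains after learning that `g` maps the octad `o` onto the octad `o'` -/
def applyOctad (dom : List ℕ) (o o' : ℕ) : List ℕ :=
  updAll (fun i m => if o.testBit i then m &&& o' else m &&& (fullMask ^^^ o')) 0 dom

theorem compat_applyOctad {g : Equiv.Perm GolayPt} {dom : List ℕ} (hcomp : Compat g dom) {o o' : ℕ}
    (himg : g • setOf o = setOf o') : Compat g (applyOctad dom o o') := by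
  intro x hx
  have hlen := lt_length_of_compat hcomp hx
  unfold applyOctad
  rw [getD_updAll _ _ _ _ hlen, Nat.zero_add]
  have hc := hcomp x hx
  have hiff : gPt x ∈ setOf o ↔ g (gPt x) ∈ setOf o' := by
    rw [← himg]
    constructor
    · intro h; exact Finset.smul_mem_smul_finset h
    · intro h
      rw [Finset.mem_smul_finset] at h
      obtain ⟨q, hq, hqe⟩ := h
      have : q = gPt x := g.injective hqe
      rwa [this] at hq
  rw [mem_setOf, mem_setOf, gIdx_gPt x hx] at hiff
  split_ifs with ho
  · rw [Nat.testBit_and, hc, hiff.1 ho]; rfl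
  · rw [Nat.testBit_and, hc, Nat.testBit_xor, testBit_fullMask (gIdx_lt _)]
    have : o'.testBit (gIdx (g (gPt x))) = false := by
      cases h' : o'.testBit (gIdx (g (gPt x)))
      · rfl
      · exact absurd (hiff.2 h') ho
    rw [this]; rfl

/-! ### injectivity rule -/

/-- remove the (single) value of `x` from all other domains -/
def applyInj (dom : List ℕ) (x : ℕ) : List ℕ :=
  updAll (fun i m => if i = x then m else m &&& (fullMask ^^^ dom.getD x 0)) 0 dom

theorem compat_applyInj {g : Equiv.Perm GolayPt} {dom : List ℕ} (hcomp : Compat g dom) {x : ℕ}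
    (hx : x < 24) (hd : dom.getD x 0 = 2 ^ Nat.log2 (dom.getD x 0)) : Compat g (applyInj dom x) := by
  intro i hi
  have hlen := lt_length_of_compat hcomp hi
  unfold applyInj
  rw [getD_updAll _ _ _ _ hlen, Nat.zero_add]
  have hc := hcomp i hi
  split_ifs with hix
  · exact hc
  · rw [Nat.testBit_and, hc, Nat.testBit_xor, testBit_fullMask (gIdx_lt _)]
    have hval := value_of_bit hcomp hx hd
    have hne : gIdx (g (gPt i)) ≠ Nat.log2 (dom.getD x 0) := by
      intro he
      apply hix
      have h1 : g (gPt i) = g (gPt x) := by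
        rw [hval, ← he, gPt_gIdx]
      have h2 := g.injective h1
      rw [← gIdx_gPt i hi, ← gIdx_gPt x hx, h2]
    have : (dom.getD x 0).testBit (gIdx (g (gPt i))) = false := by
      rw [hd, Nat.testBit_two_pow]
      simpa using fun h => hne h.symm
    rw [this]; rfl

/-! ### power rule -/

/-- follow known values for `n` steps starting from `x` -/
def follow (dom : List ℕ) : ℕ → ℕ → Option ℕ
  | 0, x => if x < 24 then some x else none
  | n + 1, x =>
    let d := dom.getD x 0
    if x < 24 ∧ d = 2 ^ Nat.log2 d then follow dom n (Nat.log2 d) else none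

theorem follow_spec {g : Equiv.Perm GolayPt} {dom : List ℕ} (hcomp : Compat g dom) (n : ℕ) :
    ∀ x w, follow dom n x = some w → x < 24 ∧ w < 24 ∧ (g ^ n) (gPt x) = gPt w := by
  induction n with
  | zero =>
    intro x w h
    simp only [follow] at h
    split_ifs at h with hx
    simp only [Option.some.injEq] at h
    subst h
    exact ⟨hx, hx, by simp⟩
  | succ n ih =>
    intro x w h
    simp only [follow] at h
    split_ifs at h with hx
    obtain ⟨hx24, hd⟩ := hx
    obtain ⟨-, hw, hpow⟩ := ih _ _ h
    refine ⟨hx24, hw, ?_⟩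
    rw [pow_succ, Equiv.Perm.mul_apply, value_of_bit hcomp hx24 hd, hpow]

/-- `g ^ K = 1`: after following `K - 1` known values from `x` we reach a point mapped to `x` -/
def applyCyc (dom : List ℕ) (x w : ℕ) : List ℕ :=
  updAll (fun i m => if i = w then m &&& 2 ^ x else m) 0 dom

theorem compat_applyCyc {g : Equiv.Perm GolayPt} {dom : List ℕ} (hcomp : Compat g dom) {K x w : ℕ}
    (hK : 1 ≤ K) (hg : g ^ K = 1) (hf : follow dom (K - 1) x = some w) :
    Compat g (applyCyc dom x w) := by
  obtain ⟨hx, hw, hpow⟩ := follow_spec hcomp (K - 1) x w hf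
  have hgw : g (gPt w) = gPt x := by
    rw [← hpow, ← Equiv.Perm.mul_apply, ← pow_succ', Nat.sub_add_cancel hK, hg,
      Equiv.Perm.one_apply]
  intro i hi
  have hlen := lt_length_of_compat hcomp hi
  unfold applyCyc
  rw [getD_updAll _ _ _ _ hlen, Nat.zero_add]
  have hc := hcomp i hi
  split_ifs with hiw
  · rw [Nat.testBit_and, hc, hiw, hgw, gIdx_gPt x hx, Nat.testBit_two_pow]
    simp
  · exact hc

/-! ### splitting -/

/-- restrict the domain of `x` -/
def setDom (dom : List ℕ) (x m : ℕ) : List ℕ :=
  updAll (fun i d => if i = x then d &&& m else d) 0 dom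

theorem compat_setDom {g : Equiv.Perm GolayPt} {dom : List ℕ} (hcomp : Compat g dom) {x m : ℕ}
    (hm : x < 24 → m.testBit (gIdx (g (gPt x))) = true) : Compat g (setDom dom x m) := by
  intro i hi
  have hlen := lt_length_of_compat hcomp hi
  unfold setDom
  rw [getD_updAll _ _ _ _ hlen, Nat.zero_add]
  have hc := hcomp i hi
  split_ifs with hix
  · subst hix
    rw [Nat.testBit_and, hc, hm hi]; rfl
  · exact hc

/-! ### certificates -/

/-- search certificates -/
inductive Cert : Type
  | contra (x : ℕ) : Cert
  | done : Cert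
  | inj (x : ℕ) (rest : Cert) : Cert
  | cyc (x : ℕ) (rest : Cert) : Cert
  | octad (o o' : ℕ) (rest : Cert) : Cert
  | split (x y : ℕ) (c₁ c₂ : Cert) : Cert

/-- the table read off from domains all of which are single bits -/
def tableOf (dom : List ℕ) : List ℕ := dom.map Nat.log2

/-- all 24 domains are single bits -/
def allBits (dom : List ℕ) : Bool :=
  (List.range 24).all fun x => dom.getD x 0 == 2 ^ Nat.log2 (dom.getD x 0)

/-- the checker -/
def check (K : ℕ) (Q : List ℕ → Bool) : Cert → List ℕ → Bool
  | .contra x, dom => decide (x < 24) && (dom.getD x 0 == 0)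
  | .done, dom => allBits dom && Q (tableOf dom)
  | .inj x rest, dom =>
    decide (x < 24) && (dom.getD x 0 == 2 ^ Nat.log2 (dom.getD x 0)) && check K Q rest (applyInj dom x)
  | .cyc x rest, dom =>
    decide (1 ≤ K) &&
      match follow dom (K - 1) x with
      | some w => check K Q rest (applyCyc dom x w)
      | none => false
  | .octad o o' rest, dom =>
    decide (o < 2 ^ 24) && decide (o' < 2 ^ 24) && isCode o && isCode o' && (popc 24 o == 8) &&
      (popc 24 o' == 8) && decide (5 ≤ countInside dom o o') && check K Q rest (applyOctad dom o o')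
  | .split x y c₁ c₂, dom =>
    check K Q c₁ (setDom dom x (2 ^ y)) && check K Q c₂ (setDom dom x (fullMask ^^^ 2 ^ y))

theorem check_sound {K : ℕ} (Q : List ℕ → Bool) {g : Equiv.Perm GolayPt} (hg : g ∈ M24)
    (hK : g ^ K = 1) : ∀ (c : Cert) (dom : List ℕ), check K Q c dom = true → Compat g dom →
    ∃ tab : List ℕ, Q tab = true ∧ ∀ x < 24, g (gPt x) = gPt (tab.getD x 0) := by
  intro c
  induction c with
  | contra x =>
    intro dom h hcomp
    simp only [check, Bool.and_eq_true, decide_eq_true_eq, beq_iff_eq] at h
    have := hcomp x h.1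
    rw [h.2] at this
    simp at this
  | done =>
    intro dom h hcomp
    simp only [check, Bool.and_eq_true] at h
    refine ⟨tableOf dom, h.2, ?_⟩
    intro x hx
    have hb := h.1
    unfold allBits at hb
    rw [List.all_eq_true] at hb
    have hbx := hb x (List.mem_range.2 hx)
    rw [beq_iff_eq] at hbx
    rw [value_of_bit hcomp hx hbx]
    have htab : (tableOf dom).getD x 0 = Nat.log2 (dom.getD x 0) := by
      unfold tableOf
      simp only [List.getD_eq_getElem?_getD, List.getElem?_map]
      cases dom[x]? <;> simp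
    rw [htab]
  | inj x rest ih =>
    intro dom h hcomp
    simp only [check, Bool.and_eq_true, decide_eq_true_eq, beq_iff_eq] at h
    exact ih _ h.2 (compat_applyInj hcomp h.1.1 h.1.2)
  | cyc x rest ih =>
    intro dom h hcomp
    simp only [check, Bool.and_eq_true, decide_eq_true_eq] at h
    obtain ⟨h1, h2⟩ := h
    cases hf : follow dom (K - 1) x with
    | none => rw [hf] at h2; simp at h2
    | some w =>
      rw [hf] at h2
      exact ih _ h2 (compat_applyCyc hcomp h1 hK hf)
  | octad o o' rest ih =>
    intro dom h hcomp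
    simp only [check, Bool.and_eq_true, decide_eq_true_eq, beq_iff_eq] at h
    obtain ⟨⟨⟨⟨⟨⟨⟨ho, ho'⟩, hc⟩, hc'⟩, h8⟩, h8'⟩, h5⟩, hrest⟩ := h
    obtain ⟨I, hI, hIo⟩ := exists_finset_of_countInside hcomp h5
    have himg := octad_image_eq hg ho ho' hc hc' h8 h8' I hI hIo
    exact ih _ hrest (compat_applyOctad hcomp himg)
  | split x y c₁ c₂ ih₁ ih₂ =>
    intro dom h hcomp
    simp only [check, Bool.and_eq_true] at h
    by_cases hxy : x < 24 ∧ gIdx (g (gPt x)) = y
    · refine ih₁ _ h.1 (compat_setDom hcomp ?_)
      intro _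
      rw [hxy.2, Nat.testBit_two_pow]; simp
    · refine ih₂ _ h.2 (compat_setDom hcomp ?_)
      intro hx
      rw [Nat.testBit_xor, testBit_fullMask (gIdx_lt _), Nat.testBit_two_pow]
      have : ¬ (y = gIdx (g (gPt x))) := fun he => hxy ⟨hx, he.symm⟩
      simp [this]

end Cfsg.Agent.Helper92
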