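import Cfsg.Agent.Helper92.ConjNorm

/-!
# The certificate checker of `Helper92.Search` with an extra rule for intertwining relations

`Rel g t u` says that `g ∘ t = u ∘ g` for the maps on indices given by the tables `t` and `u`
(e.g. `g` commutes with the permutation with table `t = u`, or `g` conjugates the permutation with
table `t` to the one with table `u`).  A certificate may use, besides the rules of `Helper92.Cert`,
the rule `.rel i x`: if the value `y` of `x` is known, the value of `t[x]` is `u[y]`, where
`(t, u)` is the `i`-th relation.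
-/

set_option autoImplicit false

namespace Cfsg.Agent.Helper92

open Cfsg Cfsg.Agent.Helper27 Cfsg.Agent.Helper7
open scoped Pointwise

/-- `g` intertwines the maps on indices given by the tables `t` and `u` -/
def Rel (g : Equiv.Perm GolayPt) (t u : List ℕ) : Prop :=
  ∀ x < 24, ∀ y < 24, g (gPt x) = gPt y → g (gPt (t.getD x 0)) = gPt (u.getD y 0)

theorem rel_of_comm {g a b : Equiv.Perm GolayPt} {ta tb : List ℕ} (ha : IsTab a ta)
    (hb : IsTab b tb) (h : g * a = b * g) : Rel g ta tb := by
  intro x hx y hy hxy
  have := congrArg (fun f : Equiv.Perm GolayPt => f (gPt x)) h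
  simp only [Equiv.Perm.mul_apply] at this
  rw [ha x hx, hxy, hb y hy] at this
  exact this

/-- search certificates with the relation rule -/
inductive Cert2 : Type
  | contra (x : ℕ) : Cert2
  | done : Cert2
  | inj (x : ℕ) (rest : Cert2) : Cert2
  | cyc (x : ℕ) (rest : Cert2) : Cert2
  | octad (o o' : ℕ) (rest : Cert2) : Cert2
  | rel (i x : ℕ) (rest : Cert2) : Cert2
  | split (x y : ℕ) (c₁ c₂ : Cert2) : Cert2

/-- the checker -/
def check2 (K : ℕ) (rels : List (List ℕ × List ℕ)) (Q : List ℕ → Bool) : Cert2 → List ℕ → Bool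
  | .contra x, dom => decide (x < 24) && (dom.getD x 0 == 0)
  | .done, dom => allBits dom && Q (tableOf dom)
  | .inj x rest, dom =>
    decide (x < 24) && (dom.getD x 0 == 2 ^ Nat.log2 (dom.getD x 0)) &&
      check2 K rels Q rest (applyInj dom x)
  | .cyc x rest, dom =>
    decide (1 ≤ K) &&
      match follow dom (K - 1) x with
      | some w => check2 K rels Q rest (applyCyc dom x w)
      | none => false
  | .octad o o' rest, dom =>
    decide (o < 2 ^ 24) && decide (o' < 2 ^ 24) && isCode o && isCode o' && (popc 24 o == 8) &&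
      (popc 24 o' == 8) && decide (5 ≤ countInside dom o o') &&
      check2 K rels Q rest (applyOctad dom o o')
  | .rel i x rest, dom =>
    match rels[i]? with
    | some r =>
      decide (x < 24) && (dom.getD x 0 == 2 ^ Nat.log2 (dom.getD x 0)) &&
        decide (r.2.getD (Nat.log2 (dom.getD x 0)) 0 < 24) &&
        check2 K rels Q rest
          (setDom dom (r.1.getD x 0) (2 ^ r.2.getD (Nat.log2 (dom.getD x 0)) 0))
    | none => false
  | .split x y c₁ c₂, dom =>
    check2 K rels Q c₁ (setDom dom x (2 ^ y)) &&
      check2 K rels Q c₂ (setDom dom x (fullMask ^^^ 2 ^ y))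

theorem check2_sound {K : ℕ} {rels : List (List ℕ × List ℕ)} (Q : List ℕ → Bool)
    {g : Equiv.Perm GolayPt} (hg : g ∈ M24) (hK : g ^ K = 1)
    (hR : ∀ r ∈ rels, Rel g r.1 r.2) :
    ∀ (c : Cert2) (dom : List ℕ), check2 K rels Q c dom = true → Compat g dom →
    ∃ tab : List ℕ, Q tab = true ∧ ∀ x < 24, g (gPt x) = gPt (tab.getD x 0) := by
  intro c
  induction c with
  | contra x =>
    intro dom h hcomp
    simp only [check2, Bool.and_eq_true, decide_eq_true_eq, beq_iff_eq] at h
    have := hcomp x h.1
    rw [h.2] at this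
    simp at this
  | done =>
    intro dom h hcomp
    simp only [check2, Bool.and_eq_true] at h
    refine ⟨tableOf dom, h.2, ?_⟩
    intro x hx
    have hb := h.1
    unfold allBits at hb
    rw [List.all_eq_true] at hb
    have hbx := hb x (List.mem_range.2 hx)
    rw [beq_iff_eq] at hbx
    rw [value_of_bit hcomp hx hbx]
    have htab : (tableOf dom).getD x 0 = Nat.log2 (dom.getD x 0) := by
      unfold tableOf
      simp only [List.getD_eq_getElem?_getD, List.getElem?_map]
      cases dom[x]? <;> simp
    rw [htab]
  | inj x rest ih =>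
    intro dom h hcomp
    simp only [check2, Bool.and_eq_true, decide_eq_true_eq, beq_iff_eq] at h
    exact ih _ h.2 (compat_applyInj hcomp h.1.1 h.1.2)
  | cyc x rest ih =>
    intro dom h hcomp
    simp only [check2, Bool.and_eq_true, decide_eq_true_eq] at h
    obtain ⟨h1, h2⟩ := h
    cases hf : follow dom (K - 1) x with
    | none => rw [hf] at h2; simp at h2
    | some w =>
      rw [hf] at h2
      exact ih _ h2 (compat_applyCyc hcomp h1 hK hf)
  | octad o o' rest ih =>
    intro dom h hcomp
    simp only [check2, Bool.and_eq_true, decide_eq_true_eq, beq_iff_eq] at h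
    obtain ⟨⟨⟨⟨⟨⟨⟨ho, ho'⟩, hc⟩, hc'⟩, h8⟩, h8'⟩, h5⟩, hrest⟩ := h
    obtain ⟨I, hI, hIo⟩ := exists_finset_of_countInside hcomp h5
    have himg := octad_image_eq hg ho ho' hc hc' h8 h8' I hI hIo
    exact ih _ hrest (compat_applyOctad hcomp himg)
  | rel i x rest ih =>
    intro dom h hcomp
    simp only [check2] at h
    cases hr : rels[i]? with
    | none => rw [hr] at h; simp at h
    | some r =>
      rw [hr] at h
      simp only [Bool.and_eq_true, decide_eq_true_eq, beq_iff_eq] at h
      obtain ⟨⟨⟨hx, hd⟩, hu⟩, hrest⟩ := h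
      have hrel := hR r (List.mem_of_getElem? hr)
      have hval := value_of_bit hcomp hx hd
      have hy : Nat.log2 (dom.getD x 0) < 24 := by
        have h1 := hcomp x hx
        rw [hd] at h1
        rw [← testBit_two_pow_eq h1]
        exact gIdx_lt _
      have hnew := hrel x hx _ hy hval
      refine ih _ hrest (compat_setDom hcomp ?_)
      intro _
      rw [hnew, gIdx_gPt _ hu, Nat.testBit_two_pow]
      simp
  | split x y c₁ c₂ ih₁ ih₂ =>
    intro dom h hcomp
    simp only [check2, Bool.and_eq_true] at h
    by_cases hxy : x < 24 ∧ gIdx (g (gPt x)) = y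
    · refine ih₁ _ h.1 (compat_setDom hcomp ?_)
      intro _
      rw [hxy.2, Nat.testBit_two_pow]; simp
    · refine ih₂ _ h.2 (compat_setDom hcomp ?_)
      intro hx
      rw [Nat.testBit_xor, testBit_fullMask (gIdx_lt _), Nat.testBit_two_pow]
      have : ¬ (y = gIdx (g (gPt x))) := fun he => hxy ⟨hx, he.symm⟩
      simp [this]

end Cfsg.Agent.Helper92
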