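import Mathlib

/-!
# Sharply transitive actions: order of the group, triviality of all stabilisers from one
-/

set_option autoImplicit false

namespace Cfsg.Agent.Helper92

section

variable {G X : Type*} [Group G] [MulAction G X]

/-- in a transitive action all stabilisers are trivial as soon as one is -/
theorem stabilizer_eq_bot_of_base [MulAction.IsPretransitive G X] {x₀ : X}
    (h : MulAction.stabilizer G x₀ = ⊥) (x : X) : MulAction.stabilizer G x = ⊥ := by
  obtain ⟨k, hk⟩ := MulAction.exists_smul_eq G x₀ x
  rw [← hk, MulAction.stabilizer_smul_eq_stabilizer_map_conj, h, Subgroup.map_bot]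

/-- a regular action: the group is in bijection with the set -/
theorem card_eq_of_regular [MulAction.IsPretransitive G X] (x₀ : X)
    (h : MulAction.stabilizer G x₀ = ⊥) : Nat.card G = Nat.card X := by
  apply Nat.card_eq_of_bijective (fun g : G => g • x₀)
  constructor
  · intro g g' hgg
    have hgg : g • x₀ = g' • x₀ := hgg
    have h1 : g'⁻¹ * g ∈ MulAction.stabilizer G x₀ := by
      rw [MulAction.mem_stabilizer_iff, mul_smul]
      show g'⁻¹ • g • x₀ = x₀
      rw [hgg, inv_smul_smul]
    rw [h, Subgroup.mem_bot, inv_mul_eq_one] at h1
    exact h1.symm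
  · intro x
    exact MulAction.exists_smul_eq G x₀ x

end

/-- the order of a sharply `n`-transitive group -/
theorem card_of_sharply_transitive {G Y : Type*} [Group G] [MulAction G Y] [Fintype Y]
    [DecidableEq Y] (n : ℕ) (htr : MulAction.IsMultiplyPretransitive G Y n)
    (x₀ : Fin n ↪ Y) (hsh : MulAction.stabilizer G x₀ = ⊥) :
    Nat.card G = (Fintype.card Y).descFactorial n := by
  have : MulAction.IsPretransitive G (Fin n ↪ Y) := htr
  rw [card_eq_of_regular x₀ hsh, Nat.card_eq_fintype_card, Fintype.card_embedding_eq,
    Fintype.card_fin]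

end Cfsg.Agent.Helper92
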