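import Cfsg.Agent.Helper92.Steiner12
import Cfsg.Agent.Helper92.OptionSys
import Cfsg.Agent.Helper26.Steiner2

/-!
# Uniqueness of the Steiner system `S(4,5,11)`: every such system is isomorphic to the model `B11`
(the blocks of the model `S(5,6,12)` through the extra point, with that point removed)
-/

set_option autoImplicit false

namespace Cfsg.Agent.Helper92

open Cfsg Cfsg.Agent.Helper27 Cfsg.Agent.Helper26

/-- in an `S(4,5,11)` no two blocks are disjoint -/
theorem meetCount_4_5_11 {α : Type*} [Fintype α] [DecidableEq α] (hα : Fintype.card α = 11)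
    {B : Set (Finset α)} (hB : IsSteinerSystem 4 5 B) {b : Finset α} (hb : b ∈ B) :
    meetCount B b 0 = 0 := by
  have e0 := inter_equation hB hb 0 (by norm_num)
  have e1 := inter_equation hB hb 1 (by norm_num)
  have e2 := inter_equation hB hb 2 (by norm_num)
  have e3 := inter_equation hB hb 3 (by norm_num)
  have h5 := meetCount_self hB hb
  have h4 := meetCount_eq_zero_of_le hB hb (j := 4) (by norm_num) (by norm_num)
  rw [hα] at e0 e1 e2 e3
  simp only [Finset.sum_range_succ, Finset.sum_range_zero, h4, h5] at e0 e1 e2 e3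
  norm_num [Nat.choose] at e0 e1 e2 e3
  omega

/-- two distinct blocks of an `S(4,5,11)` meet in 1, 2 or 3 points -/
theorem inter_4_5_11 {α : Type*} [Fintype α] [DecidableEq α] (hα : Fintype.card α = 11)
    {B : Set (Finset α)} (hB : IsSteinerSystem 4 5 B) {b c : Finset α} (hb : b ∈ B) (hc : c ∈ B)
    (hne : b ≠ c) : (b ∩ c).card = 1 ∨ (b ∩ c).card = 2 ∨ (b ∩ c).card = 3 := by
  have hle : (b ∩ c).card ≤ 3 := by
    by_contra hcon
    exact hne (block_eq_of_le_card_inter hB hb hc (by omega))
  have h0 := ne_of_meetCount_eq_zero (meetCount_4_5_11 hα hB hc) hb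
  omega

/-- the mask of the extra point -/
theorem set12_inf : set12 2048 = {none} := by
  ext p
  rw [mem_set12, Finset.mem_singleton]
  cases p with
  | none =>
    have : (2048 : ℕ).testBit 11 = true := by decide
    simp [idx12, this]
  | some i =>
    simp only [idx12, reduceCtorEq, iff_false]
    have : ∀ j < 11, (2048 : ℕ).testBit j = false := by decide
    rw [this _ i.isLt]
    simp

theorem extSys12_extNone {B : Set (Finset (Fin 11))} (hB : IsSteinerSystem 4 5 B) :
    ExtSys12 {none} (extNone B) := by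
  have hcard : Fintype.card (Fin 11) = 11 := Fintype.card_fin 11
  refine ⟨?_, ?_, ?_, ?_⟩
  · rintro _ ⟨b, hb, rfl⟩
    simp only
    rw [Finset.card_insertNone, hB.1 b hb]
  · rintro _ ⟨b, hb, rfl⟩
    simp
  · intro s hs hns
    have hn : none ∈ s := hns (Finset.mem_singleton_self _)
    have h4 : (Finset.eraseNone s).card = 4 := by
      rw [Finset.card_eraseNone_of_mem hn, hs]
    obtain ⟨b, ⟨hb, hsb⟩, -⟩ := hB.2 _ h4
    refine ⟨Finset.insertNone b, ⟨b, hb, rfl⟩, ?_⟩
    have h1 : s = insert none s := (Finset.insert_eq_of_mem hn).symm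
    rw [h1, ← Finset.insertNone_eraseNone s]
    exact Finset.insertNone.monotone hsb
  · rintro _ ⟨b, hb, rfl⟩ _ ⟨c, hc, rfl⟩ hne
    have hne' : b ≠ c := fun e => hne (by rw [e])
    simp only
    rw [insertNone_inter_gen, Finset.card_insertNone]
    rcases inter_4_5_11 hcard hB hb hc hne' with h | h | h <;> rw [h] <;> simp

/-- the blocks of the model through the extra point -/
theorem target12_inf : target12 hex12 2048 = {o | o ∈ T12 ∧ none ∈ o} := by
  ext o
  simp only [T12, target12, Set.mem_setOf_eq]
  constructor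
  · rintro ⟨m, hm, hFm, rfl⟩
    refine ⟨⟨m, hm, Nat.zero_and m, rfl⟩, ?_⟩
    have := set12_subset_of_and_eq hFm
    rw [set12_inf] at this
    exact this (Finset.mem_singleton_self _)
  · rintro ⟨⟨m, hm, -, rfl⟩, hn⟩
    refine ⟨m, hm, ?_, rfl⟩
    have hm12 : ∀ x ∈ hex12, x < 2 ^ 12 := by decide +kernel
    apply and_eq_of_set12_subset (by decide)
    rw [set12_inf, Finset.singleton_subset_iff]
    exact hn

theorem fix_none_of_mapSys {B : Set (Finset (Fin 11))} {σ : Equiv.Perm P12}
    (h : mapSys σ (extNone B) = target12 hex12 2048) : σ none = none := by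
  have hall : ∀ o ∈ target12 hex12 2048, σ none ∈ o := by
    intro o ho
    rw [← h] at ho
    obtain ⟨_, ⟨b, -, rfl⟩, rfl⟩ := ho
    exact Finset.mem_image_of_mem _ (by simp)
  have h1 := hall _ ⟨2110, by decide +kernel, by decide, rfl⟩
  have h2 := hall _ ⟨2139, by decide +kernel, by decide, rfl⟩
  have h3 := hall _ ⟨2725, by decide +kernel, by decide, rfl⟩
  have h4 : σ none ∈ set12 (2110 &&& 2139 &&& 2725) := by
    rw [set12_and, set12_and, Finset.mem_inter, Finset.mem_inter]
    exact ⟨⟨h1, h2⟩, h3⟩
  have h5 : (2110 &&& 2139 &&& 2725 : ℕ) = 2048 := by decide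
  rw [h5, set12_inf, Finset.mem_singleton] at h4
  exact h4

/-- the model of `S(4,5,11)` on `Fin 11` -/
def B11 : Set (Finset (Fin 11)) := derNone T12

theorem extNone_B11 : extNone B11 = target12 hex12 2048 := by
  rw [B11, extNone_derNone, target12_inf]

/-- every `S(4,5,11)` on `Fin 11` can be relabelled to the model -/
theorem exists_perm_eq_B11 {B : Set (Finset (Fin 11))} (hB : IsSteinerSystem 4 5 B) :
    ∃ π : Equiv.Perm (Fin 11), mapSys π B = B11 := by
  have hext := extSys12_extNone hB
  rw [← set12_inf] at hext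
  obtain ⟨σ, hσ⟩ := g11_1 (extNone B) hext (by simp)
  have hfix := fix_none_of_mapSys hσ
  refine ⟨Equiv.removeNone σ, ?_⟩
  apply extNone_injective
  rw [← mapSys_extNone hfix, hσ, extNone_B11]

/-- every `S(4,5,11)` is isomorphic to the model -/
theorem steiner11_iso_B11 {α : Type*} [Fintype α] [DecidableEq α] (hα : Fintype.card α = 11)
    {B : Set (Finset α)} (hB : IsSteinerSystem 4 5 B) : SetSystemIso B B11 := by
  have hcard : Fintype.card (Fin 11) = 11 := Fintype.card_fin 11
  let e : α ≃ Fin 11 := Fintype.equivOfCardEq (hα.trans hcard.symm)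
  obtain ⟨π, hπ⟩ := exists_perm_eq_B11 (IsSteinerSystem.mapSys hB e)
  refine ⟨e.trans π, ?_⟩
  have := mapSys_trans e π B
  unfold mapSys at this
  rw [this]
  exact hπ

end Cfsg.Agent.Helper92
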