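import Cfsg.Agent.Helper92.Steiner12Aut
import Cfsg.Agent.Helper92.Steiner11
import Cfsg.Agent.S0357
import Cfsg.Agent.S0387
import Cfsg.Agent.S0388

/-!
# The automorphism group of the model `B11` of `S(4,5,11)`: simple of order 7920, sharply
4-transitive (the point stabiliser of the automorphism group of the model `S(5,6,12)`)
-/

set_option autoImplicit false

namespace Cfsg.Agent.Helper92

open Cfsg
open scoped Pointwise


/-! ### the model `S(5,6,12)` and its automorphism group -/

theorem T12_steiner : IsSteinerSystem 5 6 T12 := by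
  obtain ⟨e, he⟩ := exists_equiv_T12
  rw [← he]
  exact IsSteinerSystem.mapSys HexD_steiner e

theorem compl_mem_T12 {o : Finset P12} (ho : o ∈ T12) : oᶜ ∈ T12 :=
  Cfsg.Agent.S0357.result card_P12 T12_steiner ho

theorem t12_five_transitive : MulAction.IsMultiplyPretransitive (setSystemAut T12) P12 5 := by
  obtain ⟨e, he⟩ := exists_equiv_T12
  apply isMultiplyPretransitive_of_mapSys e.symm T12 5
  rw [← he, mapSys_symm_mapSys]
  exact hexD_five_transitive

theorem t12_sharp (x : Fin 5 ↪ P12) : MulAction.stabilizer (setSystemAut T12) x = ⊥ := by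
  obtain ⟨e, he⟩ := exists_equiv_T12
  apply stabilizer_eq_bot_of_mapSys e.symm T12 5
  rw [← he, mapSys_symm_mapSys]
  exact hexD_sharp

/-- the blocks through the extra point -/
def Tinf : Set (Finset P12) := {o | o ∈ T12 ∧ none ∈ o}

theorem extNone_B11_eq : extNone B11 = Tinf := extNone_derNone T12

theorem inv_fix_none {σ : Equiv.Perm P12} (h0 : σ none = none) :
    (σ⁻¹ : Equiv.Perm P12) none = none := by
  rw [Equiv.Perm.inv_eq_iff_eq]
  exact h0.symm

theorem mapSys_inv_eq {σ : Equiv.Perm P12} {T : Set (Finset P12)} (h : mapSys σ T = T) :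
    mapSys (σ⁻¹ : Equiv.Perm P12) T = T := by
  conv_lhs => rw [← h]
  rw [← mapSys_mul, inv_mul_cancel, mapSys_one]

theorem mapSys_subset_antisymm {σ : Equiv.Perm P12} {T : Set (Finset P12)}
    (h1 : mapSys σ T ⊆ T) (h2 : mapSys (σ⁻¹ : Equiv.Perm P12) T ⊆ T) : mapSys σ T = T := by
  apply Set.Subset.antisymm h1
  intro o ho
  refine ⟨o.image (σ⁻¹ : Equiv.Perm P12), h2 ⟨o, ho, rfl⟩, ?_⟩
  simp only
  rw [Finset.image_image]
  ext p
  simp

theorem mapSys_Tinf_sub {σ : Equiv.Perm P12} (hσ : mapSys σ T12 = T12) (h0 : σ none = none) :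
    mapSys σ Tinf ⊆ Tinf := by
  rintro _ ⟨o, ⟨ho, hn⟩, rfl⟩
  refine ⟨?_, ?_⟩
  · rw [← hσ]
    exact ⟨o, ho, rfl⟩
  · simp only
    rw [Finset.mem_image]
    exact ⟨none, hn, h0⟩

theorem mapSys_Tinf_of_aut {σ : Equiv.Perm P12} (hσ : mapSys σ T12 = T12) (h0 : σ none = none) :
    mapSys σ Tinf = Tinf :=
  mapSys_subset_antisymm (mapSys_Tinf_sub hσ h0)
    (mapSys_Tinf_sub (mapSys_inv_eq hσ) (inv_fix_none h0))

theorem image_compl (σ : Equiv.Perm P12) (o : Finset P12) : (oᶜ).image σ = (o.image σ)ᶜ := by
  ext p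
  simp only [Finset.mem_image, Finset.mem_compl, not_exists, not_and]
  constructor
  · rintro ⟨q, hq, rfl⟩ r hr hrq
    exact hq (by rwa [← σ.injective hrq])
  · intro h
    exact ⟨σ.symm p, fun hc => h _ hc (by simp), by simp⟩

theorem mapSys_T12_sub {σ : Equiv.Perm P12} (hσ : mapSys σ Tinf = Tinf) :
    mapSys σ T12 ⊆ T12 := by
  rintro _ ⟨o, ho, rfl⟩
  simp only
  by_cases hn : none ∈ o
  · have : o.image σ ∈ Tinf := by
      rw [← hσ]
      exact ⟨o, ⟨ho, hn⟩, rfl⟩
    exact this.1
  · have hc : oᶜ ∈ Tinf := ⟨compl_mem_T12 ho, by rwa [Finset.mem_compl]⟩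
    have : (oᶜ).image σ ∈ Tinf := by
      rw [← hσ]
      exact ⟨oᶜ, hc, rfl⟩
    have h2 := compl_mem_T12 this.1
    rwa [image_compl, compl_compl] at h2

theorem mapSys_T12_of_Tinf {σ : Equiv.Perm P12} (hσ : mapSys σ Tinf = Tinf) :
    mapSys σ T12 = T12 :=
  mapSys_subset_antisymm (mapSys_T12_sub hσ) (mapSys_T12_sub (mapSys_inv_eq hσ))

theorem mem_aut_B11_iff (π : Equiv.Perm (Fin 11)) :
    π ∈ setSystemAut B11 ↔ Equiv.optionCongr π ∈ setSystemAut T12 := by
  have hfix : (Equiv.optionCongr π) none = none := rfl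
  have hrel := mapSys_extNone hfix B11
  rw [Equiv.removeNone_optionCongr, extNone_B11_eq] at hrel
  rw [mem_setSystemAut_iff_mapSys, mem_setSystemAut_iff_mapSys]
  constructor
  · intro h
    rw [h, extNone_B11_eq] at hrel
    exact mapSys_T12_of_Tinf hrel
  · intro h
    have := mapSys_Tinf_of_aut h hfix
    rw [hrel, ← extNone_B11_eq] at this
    exact extNone_injective this

theorem removeNone_mem_aut_B11 {g : Equiv.Perm P12} (hg : g ∈ setSystemAut T12)
    (h0 : g none = none) : Equiv.removeNone g ∈ setSystemAut B11 := by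
  rw [mem_aut_B11_iff, optionCongr_removeNone_gen h0]
  exact hg

theorem cons_none_injective {n : ℕ} (z : Fin n ↪ Fin 11) : Function.Injective
    (Fin.cons (none : P12) (fun i => some (z i)) : Fin (n + 1) → P12) := by
  rw [Fin.cons_injective_iff]
  exact ⟨by simp, fun i j h => z.injective (Option.some_injective _ h)⟩

theorem b11_four_transitive : MulAction.IsMultiplyPretransitive (setSystemAut B11) (Fin 11) 4 := by
  constructor
  intro x y
  obtain ⟨g, hg⟩ := t12_five_transitive.exists_smul_eq ⟨_, cons_none_injective x⟩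
    ⟨_, cons_none_injective y⟩
  have h0 : g.1 none = none := DFunLike.congr_fun hg 0
  have hs : ∀ i : Fin 4, g.1 (some (x i)) = some (y i) := fun i => DFunLike.congr_fun hg i.succ
  refine ⟨⟨_, removeNone_mem_aut_B11 g.2 h0⟩, ?_⟩
  apply Function.Embedding.ext
  intro i
  apply Option.some_injective
  show some (Equiv.removeNone g.1 (x i)) = some (y i)
  rw [some_removeNone_gen h0, hs]

theorem b11_sharp (x : Fin 4 ↪ Fin 11) : MulAction.stabilizer (setSystemAut B11) x = ⊥ := by
  rw [eq_bot_iff]
  intro π hπ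
  rw [Subgroup.mem_bot]
  have hπx : ∀ i, π.1 (x i) = x i :=
    fun i => DFunLike.congr_fun (MulAction.mem_stabilizer_iff.1 hπ) i
  have hmem : Equiv.optionCongr π.1 ∈ setSystemAut T12 := (mem_aut_B11_iff π.1).1 π.2
  have h1 : (⟨_, hmem⟩ : setSystemAut T12) ∈
      MulAction.stabilizer (setSystemAut T12) (⟨_, cons_none_injective x⟩ : Fin 5 ↪ P12) := by
    rw [MulAction.mem_stabilizer_iff]
    apply Function.Embedding.ext
    intro i
    refine Fin.cases ?_ (fun j => ?_) i
    · rfl
    · show Equiv.optionCongr π.1 (some (x j)) = some (x j)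
      rw [Equiv.optionCongr_apply, Option.map_some, hπx]
  rw [t12_sharp, Subgroup.mem_bot] at h1
  have h2 : Equiv.optionCongr π.1 = 1 := congrArg Subtype.val h1
  apply Subtype.ext
  apply Equiv.optionCongr_injective
  rw [h2]
  ext p : 1
  cases p <;> rfl

theorem card_aut_B11 : Nat.card (setSystemAut B11) = 7920 := by
  have hle : Fintype.card (Fin 4) ≤ Fintype.card (Fin 11) := by
    rw [Fintype.card_fin, Fintype.card_fin]
    norm_num
  obtain ⟨x⟩ := Function.Embedding.nonempty_of_card_le hle
  rw [card_of_sharply_transitive 4 b11_four_transitive x (b11_sharp x), Fintype.card_fin]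
  rfl



theorem removeNone_mul {V : Type*} [DecidableEq V] {σ τ : Equiv.Perm (Option V)}
    (hσ : σ none = none) (hτ : τ none = none) :
    Equiv.removeNone (σ * τ) = Equiv.removeNone σ * Equiv.removeNone τ := by
  have hστ : (σ * τ) none = none := by rw [Equiv.Perm.mul_apply, hτ, hσ]
  apply Equiv.optionCongr_injective
  rw [optionCongr_removeNone_gen hστ]
  ext p : 1
  cases p with
  | none => rw [hστ]; rfl
  | some x =>
    rw [Equiv.optionCongr_apply, Option.map_some, Equiv.Perm.mul_apply, Equiv.Perm.mul_apply,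
      some_removeNone_gen hσ, some_removeNone_gen hτ]

theorem removeNone_one {V : Type*} [DecidableEq V] :
    Equiv.removeNone (1 : Equiv.Perm (Option V)) = 1 := by
  apply Equiv.optionCongr_injective
  rw [optionCongr_removeNone_gen (g := (1 : Equiv.Perm (Option V))) rfl]
  ext p : 1
  cases p <;> rfl

section

variable (e : D12 ≃ P12)

/-- the image in `Perm P12` of an element of the stabiliser of the dodecad -/
def sigmaE (g : G12) : Equiv.Perm P12 := e.permCongr (resD g)

theorem sigmaE_apply (g : G12) (p : P12) : sigmaE e g p = e (resD g (e.symm p)) := rfl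

theorem sigmaE_one : sigmaE e 1 = 1 := by
  ext p : 1
  rw [sigmaE_apply]
  have : resD 1 = 1 := map_one resDHom
  rw [this]
  simp

theorem sigmaE_mul (g h : G12) : sigmaE e (g * h) = sigmaE e g * sigmaE e h := by
  ext p : 1
  rw [Equiv.Perm.mul_apply, sigmaE_apply, sigmaE_apply, sigmaE_apply]
  have : resD (g * h) = resD g * resD h := map_mul resDHom g h
  rw [this]
  simp

theorem sigmaE_mem (he : mapSys e HexD = T12) (g : G12) : sigmaE e g ∈ setSystemAut T12 := by
  have := permCongr_mem_setSystemAut e (resD_mem_aut g)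
  rwa [he] at this

theorem sigmaE_none (g : G12) (hg : g.1.1 ((e.symm none : D12) : GolayPt) = (e.symm none : D12)) :
    sigmaE e g none = none := by
  rw [sigmaE_apply]
  have : resD g (e.symm none) = e.symm none := Subtype.ext hg
  rw [this, Equiv.apply_symm_apply]

theorem sigmaE_eq_one {g : G12} (h : sigmaE e g = 1) : g = 1 := by
  apply phiD_injective
  apply Subtype.ext
  show resD g = (1 : setSystemAut HexD).1
  ext x : 1
  have h1 := DFunLike.congr_fun h (e x)
  rw [sigmaE_apply, Equiv.symm_apply_apply, Equiv.Perm.one_apply] at h1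
  exact e.injective h1

/-- the point stabiliser in the stabiliser of the dodecad -/
abbrev K11 : Subgroup M24 :=
  G12 ⊓ MulAction.stabilizer M24 (((e.symm none : D12) : GolayPt))

theorem K11_fix (g : K11 e) : g.1.1 ((e.symm none : D12) : GolayPt) = (e.symm none : D12) :=
  MulAction.mem_stabilizer_iff.1 (Subgroup.mem_inf.1 g.2).2

/-- the inclusion into the stabiliser of the dodecad -/
def K11incl (g : K11 e) : G12 := ⟨g.1, (Subgroup.mem_inf.1 g.2).1⟩

/-- the homomorphism from the point stabiliser to the automorphism group of the model -/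
def psiE (he : mapSys e HexD = T12) : K11 e →* setSystemAut B11 where
  toFun g := ⟨Equiv.removeNone (sigmaE e (K11incl e g)),
    removeNone_mem_aut_B11 (sigmaE_mem e he _) (sigmaE_none e _ (K11_fix e g))⟩
  map_one' := by
    apply Subtype.ext
    show Equiv.removeNone (sigmaE e (K11incl e 1)) = 1
    have : K11incl e 1 = 1 := rfl
    rw [this, sigmaE_one, removeNone_one]
  map_mul' g h := by
    apply Subtype.ext
    show Equiv.removeNone (sigmaE e (K11incl e (g * h))) =
      Equiv.removeNone (sigmaE e (K11incl e g)) * Equiv.removeNone (sigmaE e (K11incl e h))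
    have : K11incl e (g * h) = K11incl e g * K11incl e h := rfl
    rw [this, sigmaE_mul, removeNone_mul (sigmaE_none e _ (K11_fix e g))
      (sigmaE_none e _ (K11_fix e h))]

theorem psiE_injective (he : mapSys e HexD = T12) : Function.Injective (psiE e he) := by
  rw [injective_iff_map_eq_one]
  intro g hg
  have h1 : Equiv.removeNone (sigmaE e (K11incl e g)) = 1 := congrArg Subtype.val hg
  have h2 : sigmaE e (K11incl e g) = 1 := by
    rw [← optionCongr_removeNone_gen (sigmaE_none e _ (K11_fix e g)), h1]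
    ext p : 1
    cases p <;> rfl
  have h3 := sigmaE_eq_one e h2
  apply Subtype.ext
  exact congrArg (fun z : G12 => (z.1 : M24)) h3

end

theorem isM11_aut_B11 : IsM11 (setSystemAut B11) := by
  refine ⟨?_, card_aut_B11⟩
  obtain ⟨e, he⟩ := exists_equiv_T12
  have hp : ((e.symm none : D12) : GolayPt) ∈ dod0 := (e.symm none).2
  have hbij : Function.Bijective (psiE e he) := by
    have : Finite (setSystemAut B11) := inferInstance
    apply (psiE_injective e he).bijective_of_nat_card_le
    rw [card_aut_B11, Cfsg.Agent.S0387.result dod0 dod0_mem _ hp]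
  have := Cfsg.Agent.S0388.result dod0 dod0_mem _ hp
  exact (MulEquiv.ofBijective (psiE e he) hbij).symm.isSimpleGroup

end Cfsg.Agent.Helper92
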