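import Cfsg.Agent.Helper92.Steiner12Cert
import Cfsg.Agent.S1595

/-!
# Uniqueness of the Steiner system `S(5,6,12)`: every such system is isomorphic to the model
-/

set_option autoImplicit false

namespace Cfsg.Agent.Helper92

open Cfsg Cfsg.Agent.Helper27

/-- the model `S(5,6,12)` on the 12 points -/
def T12 : Set (Finset P12) := target12 hex12 0

theorem set12_zero : set12 0 = ∅ := I12.setOf_zero

theorem card_P12 : Fintype.card P12 = 12 := by decide

theorem extSys12_of_steiner {B : Set (Finset P12)} (hB : IsSteinerSystem 5 6 B) :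
    ExtSys12 (set12 0) B := by
  refine ⟨hB.1, ?_, ?_, ?_⟩
  · intro b _
    rw [set12_zero]
    exact Finset.empty_subset _
  · intro s hs _
    obtain ⟨b, ⟨hb, hsb⟩, -⟩ := hB.2 s hs
    exact ⟨b, hb, hsb⟩
  · intro b hb c hc hne
    exact (Cfsg.Agent.S1595.result card_P12 hB b hb).1 c hc (Ne.symm hne)

/-- every `S(5,6,12)` on the 12 points can be relabelled to the model -/
theorem exists_perm_eq_T12 {B : Set (Finset P12)} (hB : IsSteinerSystem 5 6 B) :
    ∃ σ : Equiv.Perm P12, mapSys σ B = T12 :=
  g12_1 B (extSys12_of_steiner hB) (by simp)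

/-- every `S(5,6,12)` is isomorphic to the model -/
theorem steiner12_iso_T12 {α : Type*} [Fintype α] [DecidableEq α] (hα : Fintype.card α = 12)
    {B : Set (Finset α)} (hB : IsSteinerSystem 5 6 B) : SetSystemIso B T12 := by
  let e : α ≃ P12 := Fintype.equivOfCardEq (hα.trans card_P12.symm)
  obtain ⟨σ, hσ⟩ := exists_perm_eq_T12 (IsSteinerSystem.mapSys hB e)
  refine ⟨e.trans σ, ?_⟩
  have := mapSys_trans e σ B
  unfold mapSys at this
  rw [this]
  exact hσ

end Cfsg.Agent.Helper92
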