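import Mathlib
import Cfsg.Prelude.Def_Sporadic_a
import Cfsg.Agent.Helper92.SteinerIso

/-!
# Transport of the automorphism group of a set system along a bijection of the point sets
-/

set_option autoImplicit false

namespace Cfsg.Agent.Helper92

open Cfsg
open scoped Pointwise

section

variable {α β : Type*} [DecidableEq α] [DecidableEq β]

theorem smul_sys_eq_mapSys (σ : Equiv.Perm α) (B : Set (Finset α)) : σ • B = mapSys σ B := by
  ext b
  simp only [mapSys, Set.mem_image, Set.mem_smul_set]
  constructor
  · rintro ⟨c, hc, rfl⟩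
    exact ⟨c, hc, rfl⟩
  · rintro ⟨c, hc, rfl⟩
    exact ⟨c, hc, rfl⟩

theorem mem_setSystemAut_iff_mapSys {B : Set (Finset α)} {σ : Equiv.Perm α} :
    σ ∈ setSystemAut B ↔ mapSys σ B = B := by
  rw [← smul_sys_eq_mapSys]
  exact MulAction.mem_stabilizer_iff

theorem permCongr_mem_setSystemAut (e : α ≃ β) {B : Set (Finset α)} {σ : Equiv.Perm α}
    (h : σ ∈ setSystemAut B) : e.permCongr σ ∈ setSystemAut (mapSys e B) := by
  rw [mem_setSystemAut_iff_mapSys] at h ⊢
  have h1 : e.permCongr σ = e.symm.trans (σ.trans e) := by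
    ext x
    simp
  rw [h1, mapSys_trans, mapSys_symm_mapSys, mapSys_trans, h]

/-- conjugation by `e` as an isomorphism of automorphism groups -/
def autCongr (e : α ≃ β) (B : Set (Finset α)) : setSystemAut B ≃* setSystemAut (mapSys e B) where
  toFun σ := ⟨e.permCongr σ.1, permCongr_mem_setSystemAut e σ.2⟩
  invFun τ := ⟨e.symm.permCongr τ.1, by
    have := permCongr_mem_setSystemAut e.symm τ.2
    rwa [mapSys_symm_mapSys] at this⟩
  left_inv σ := by
    ext x
    simp
  right_inv τ := by
    ext x
    simp
  map_mul' σ τ := by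
    ext x
    simp

theorem autCongr_symm_apply (e : α ≃ β) (B : Set (Finset α)) (τ : setSystemAut (mapSys e B))
    (x : α) : ((autCongr e B).symm τ).1 x = e.symm (τ.1 (e x)) := by
  simp [autCongr]

theorem isMultiplyPretransitive_of_mapSys (e : α ≃ β) (B : Set (Finset α)) (n : ℕ)
    (h : MulAction.IsMultiplyPretransitive (setSystemAut (mapSys e B)) β n) :
    MulAction.IsMultiplyPretransitive (setSystemAut B) α n := by
  constructor
  intro x y
  obtain ⟨g, hg⟩ := h.exists_smul_eq (x.trans e.toEmbedding) (y.trans e.toEmbedding)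
  refine ⟨(autCongr e B).symm g, ?_⟩
  ext i
  have h1 := DFunLike.congr_fun hg i
  have h2 : g.1 (e (x i)) = e (y i) := h1
  show ((autCongr e B).symm g).1 (x i) = y i
  rw [autCongr_symm_apply, h2]
  simp

end

end Cfsg.Agent.Helper92
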