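import Cfsg.Agent.Helper92.Steiner12Rigid
import Cfsg.Agent.Helper92.SteinerAut
import Cfsg.Agent.Helper92.SharpTrans
import Cfsg.Agent.Helper7.M24Octad
import Cfsg.Agent.S0382
import Cfsg.Agent.S0383
import Cfsg.Agent.S0384
import Cfsg.Agent.S0385
import Cfsg.Prelude.Def_Sporadic

/-!
# The automorphism group of the hexads of a dodecad is the stabiliser of the dodecad in `M24`:
simple of order 95040, sharply 5-transitive
-/

set_option autoImplicit false

namespace Cfsg.Agent.Helper92

open Cfsg
open scoped Pointwise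

/-- triviality of the stabilisers of tuples, transported along a bijection of the point sets -/
theorem stabilizer_eq_bot_of_mapSys {α β : Type*} [DecidableEq α] [DecidableEq β] (e : α ≃ β)
    (B : Set (Finset α)) (n : ℕ)
    (h : ∀ y : Fin n ↪ β, MulAction.stabilizer (setSystemAut (mapSys e B)) y = ⊥)
    (x : Fin n ↪ α) : MulAction.stabilizer (setSystemAut B) x = ⊥ := by
  rw [eq_bot_iff]
  intro g hg
  rw [Subgroup.mem_bot]
  have hgx : ∀ i, g.1 (x i) = x i := fun i => DFunLike.congr_fun (MulAction.mem_stabilizer_iff.1 hg) i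
  have h1 : autCongr e B g ∈
      MulAction.stabilizer (setSystemAut (mapSys e B)) (x.trans e.toEmbedding) := by
    rw [MulAction.mem_stabilizer_iff]
    apply Function.Embedding.ext
    intro i
    show e.permCongr g.1 (e (x i)) = e (x i)
    rw [Equiv.permCongr_apply, Equiv.symm_apply_apply, hgx]
  rw [h, Subgroup.mem_bot] at h1
  exact (autCongr e B).injective (h1.trans (map_one _).symm)


/-! ### the hexads of a dodecad -/

/-- a dodecad: the squares modulo 23 -/
def dod0 : Finset GolayPt := Cfsg.Agent.Helper27.setOf 340831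

theorem dod0_mem : dod0 ∈ dodecads :=
  (Cfsg.Agent.Helper27.setOf_mem_dodecads_iff (by decide)).2 (by decide +kernel)

/-- the points of the dodecad -/
abbrev D12 : Type := {p : GolayPt // p ∈ dod0}

theorem card_D12 : Fintype.card D12 = 12 := by
  rw [Fintype.card_coe, dod0, Cfsg.Agent.Helper27.card_setOf]
  decide +kernel

/-- the hexads of the dodecad -/
def HexD : Set (Finset D12) :=
  {h | ∃ o ∈ octads, (o ∩ dod0).card = 6 ∧ h = Finset.subtype (fun p => p ∈ dod0) o}

theorem HexD_steiner : IsSteinerSystem 5 6 HexD := Cfsg.Agent.S0385.result dod0 dod0_mem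

/-- the stabiliser of the dodecad in `M24` -/
abbrev G12 : Subgroup M24 := MulAction.stabilizer M24 dod0

theorem G12_smul (g : G12) : (g.1.1 : Equiv.Perm GolayPt) • dod0 = dod0 := g.2

theorem G12_pres (g : G12) (p : GolayPt) : g.1.1 p ∈ dod0 ↔ p ∈ dod0 := by
  have h : g.1.1 p ∈ (g.1.1 : Equiv.Perm GolayPt) • dod0 ↔ p ∈ dod0 :=
    Finset.smul_mem_smul_finset_iff (g.1.1 : Equiv.Perm GolayPt)
  rwa [G12_smul] at h

/-- restriction of an element of the stabiliser to the dodecad -/
def resD (g : G12) : Equiv.Perm D12 := (g.1.1 : Equiv.Perm GolayPt).subtypePerm (G12_pres g)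

theorem resD_apply (g : G12) (x : D12) : (resD g x : GolayPt) = g.1.1 x := rfl

/-- restriction as a homomorphism -/
def resDHom : G12 →* Equiv.Perm D12 where
  toFun := resD
  map_one' := by
    ext x : 2
    rfl
  map_mul' g h := by
    ext x : 2
    rfl

theorem image_resD_subtype (g : G12) (o : Finset GolayPt) :
    (Finset.subtype (fun p => p ∈ dod0) o).image (resD g) =
      Finset.subtype (fun p => p ∈ dod0) ((g.1.1 : Equiv.Perm GolayPt) • o) := by
  ext ⟨q, hq⟩
  rw [Finset.mem_image, Finset.mem_subtype]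
  constructor
  · rintro ⟨x, hx, hxq⟩
    rw [Finset.mem_subtype] at hx
    have : g.1.1 x = q := by
      rw [← resD_apply, hxq]
    show q ∈ _
    rw [← this]
    exact Finset.smul_mem_smul_finset hx
  · intro hq'
    rw [Finset.mem_smul_finset] at hq'
    obtain ⟨p, hp, hpq⟩ := hq'
    have hpq' : g.1.1 p = q := hpq
    have hpd : p ∈ dod0 := by
      rw [← G12_pres g, hpq']
      exact hq
    refine ⟨⟨p, hpd⟩, by rwa [Finset.mem_subtype], ?_⟩
    apply Subtype.ext
    exact hpq'

theorem resD_image_mem (g : G12) {h : Finset D12} (hh : h ∈ HexD) : h.image (resD g) ∈ HexD := by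
  obtain ⟨o, ho, h6, rfl⟩ := hh
  refine ⟨(g.1.1 : Equiv.Perm GolayPt) • o, Cfsg.Agent.Helper7.smul_mem_octads g.1.2 ho, ?_,
    image_resD_subtype g o⟩
  have h1 : (g.1.1 : Equiv.Perm GolayPt) • o ∩ dod0 = (g.1.1 : Equiv.Perm GolayPt) • (o ∩ dod0) := by
    rw [Finset.smul_finset_inter, G12_smul]
  rw [h1, Finset.card_smul_finset]
  exact h6

theorem resD_mem_aut (g : G12) : resD g ∈ setSystemAut HexD := by
  rw [mem_setSystemAut_iff_mapSys]
  apply Set.Subset.antisymm
  · rintro _ ⟨h, hh, rfl⟩
    exact resD_image_mem g hh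
  · intro h hh
    refine ⟨h.image (resD g⁻¹), resD_image_mem g⁻¹ hh, ?_⟩
    simp only
    rw [Finset.image_image]
    have : (resD g) ∘ (resD g⁻¹) = id := by
      funext x
      apply Subtype.ext
      show g.1.1 ((g⁻¹).1.1 x) = x
      have : ((g⁻¹ : G12).1.1 : Equiv.Perm GolayPt) = (g.1.1 : Equiv.Perm GolayPt)⁻¹ := rfl
      rw [this]
      simp
    rw [this, Finset.image_id]

/-- the homomorphism from the stabiliser of the dodecad to the automorphism group of its hexads -/
def phiD : G12 →* setSystemAut HexD where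
  toFun g := ⟨resD g, resD_mem_aut g⟩
  map_one' := Subtype.ext (map_one resDHom)
  map_mul' g h := Subtype.ext (map_mul resDHom g h)

theorem phiD_apply (g : G12) (x : D12) : (((phiD g).1 x : D12) : GolayPt) = g.1.1 x := rfl

/-- embedding of tuples of the dodecad into tuples of points -/
def liftD {n : ℕ} (x : Fin n ↪ D12) : Fin n ↪ GolayPt := x.trans (Function.Embedding.subtype _)

theorem liftD_mem {n : ℕ} (x : Fin n ↪ D12) (i : Fin n) : liftD x i ∈ dod0 := (x i).2

theorem hexD_five_transitive : MulAction.IsMultiplyPretransitive (setSystemAut HexD) D12 5 := by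
  constructor
  intro x y
  obtain ⟨g, hg, -⟩ := Cfsg.Agent.S0384.result dod0 dod0_mem (liftD x) (liftD y) (liftD_mem x)
    (liftD_mem y)
  refine ⟨phiD g, ?_⟩
  apply Function.Embedding.ext
  intro i
  apply Subtype.ext
  exact hg i

theorem phiD_injective : Function.Injective phiD := by
  rw [injective_iff_map_eq_one]
  intro g hg
  have hfix : ∀ x : D12, g.1.1 x = x := by
    intro x
    rw [← phiD_apply, hg]
    rfl
  have hle : Fintype.card (Fin 5) ≤ Fintype.card D12 := by
    rw [card_D12, Fintype.card_fin]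
    norm_num
  obtain ⟨x⟩ := Function.Embedding.nonempty_of_card_le hle
  obtain ⟨k, -, huniq⟩ := Cfsg.Agent.S0384.result dod0 dod0_mem (liftD x) (liftD x) (liftD_mem x)
    (liftD_mem x)
  have h1 := huniq g (fun i => hfix (x i))
  have h2 := huniq 1 (fun i => rfl)
  rw [h1, h2]



theorem exists_equiv_T12 : ∃ e : D12 ≃ P12, mapSys e HexD = T12 :=
  steiner12_iso_T12 card_D12 HexD_steiner

theorem pt12_injOn {i j : ℕ} (hi : i < 12) (hj : j < 12) (h : pt12 i = pt12 j) : i = j := by
  rw [← idx12_pt12 i hi, h, idx12_pt12 j hj]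

/-- an automorphism of the hexad system fixing five points is trivial -/
theorem hexD_sharp (x : Fin 5 ↪ D12) : MulAction.stabilizer (setSystemAut HexD) x = ⊥ := by
  obtain ⟨e, he⟩ := exists_equiv_T12
  let x₀ : Fin 5 ↪ D12 := ⟨fun i => e.symm (pt12 i.val), fun i j h =>
    Fin.ext (pt12_injOn (by omega) (by omega) (e.symm.injective h))⟩
  refine @stabilizer_eq_bot_of_base _ _ _ _ hexD_five_transitive x₀ ?_ x
  rw [eq_bot_iff]
  intro g hg
  rw [Subgroup.mem_bot]
  have hgx : ∀ i : Fin 5, g.1 (e.symm (pt12 i.val)) = e.symm (pt12 i.val) :=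
    fun i => DFunLike.congr_fun (MulAction.mem_stabilizer_iff.1 hg) i
  have hσ : e.permCongr g.1 ∈ setSystemAut (mapSys e HexD) := permCongr_mem_setSystemAut e g.2
  rw [he, mem_setSystemAut_iff_mapSys] at hσ
  have h1 := eq_one_of_fix_base hσ (fun i hi => by
    rw [Equiv.permCongr_apply, hgx ⟨i, hi⟩, Equiv.apply_symm_apply])
  apply Subtype.ext
  ext p : 1
  have h2 := DFunLike.congr_fun h1 (e p)
  rw [Equiv.permCongr_apply, Equiv.symm_apply_apply, Equiv.Perm.one_apply] at h2
  exact e.injective h2

theorem card_aut_HexD : Nat.card (setSystemAut HexD) = 95040 := by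
  have hle : Fintype.card (Fin 5) ≤ Fintype.card D12 := by
    rw [card_D12, Fintype.card_fin]
    norm_num
  obtain ⟨x⟩ := Function.Embedding.nonempty_of_card_le hle
  rw [card_of_sharply_transitive 5 hexD_five_transitive x (hexD_sharp x), card_D12]
  rfl

theorem phiD_bijective : Function.Bijective phiD := by
  have : Finite (setSystemAut HexD) := inferInstance
  apply phiD_injective.bijective_of_nat_card_le
  rw [card_aut_HexD, Cfsg.Agent.S0382.result dod0 dod0_mem]

/-- the stabiliser of the dodecad is the automorphism group of its hexads -/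
noncomputable def phiDEquiv : G12 ≃* setSystemAut HexD := MulEquiv.ofBijective phiD phiD_bijective

theorem isM12_aut_HexD : IsM12 (setSystemAut HexD) := by
  refine ⟨?_, card_aut_HexD⟩
  have := Cfsg.Agent.S0383.result dod0 dod0_mem
  exact phiDEquiv.symm.isSimpleGroup

end Cfsg.Agent.Helper92
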