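import Cfsg.Agent.Helper92.Steiner12Search

/-!
# The search certificates for the uniqueness of `S(5,6,12)` and of `S(4,5,11)` (extended by a
point): one theorem per node
-/

set_option autoImplicit false

namespace Cfsg.Agent.Helper92

open Cfsg Cfsg.Agent.Helper27

set_option maxRecDepth 100000
set_option maxHeartbeats 4000000

/-- the model `S(5,6,12)`: masks of the 132 hexads (the hexads of the dodecad of squares, with its
points numbered in increasing order) -/
def hex12 : List ℕ := [119, 175, 221, 250, 287, 366, 377, 435, 444, 459, 470, 485, 573, 606, 619, 667, 694, 711, 748, 753, 807, 826, 845, 851, 884, 910, 917, 937, 984, 994, 1083, 1103, 1148, 1182, 1205, 1235, 1254, 1257, 1325, 1334, 1365, 1370, 1379, 1415, 1433, 1450, 1484, 1520, 1559, 1582, 1625, 1637, 1650, 1677, 1699, 1720, 1738, 1748, 1803, 1820, 1841, 1862, 1896, 1938, 1956, 1985, 2110, 2139, 2157, 2199, 2233, 2254, 2275, 2292, 2347, 2357, 2375, 2396, 2418, 2445, 2458, 2470, 2513, 2536, 2575, 2611, 2645, 2662, 2680, 2716, 2725, 2730, 2761, 2770,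 2838, 2841, 2860, 2890, 2913, 2947, 2992, 3012, 3101, 3111, 3158, 3178, 3185, 3211, 3244, 3250, 3269, 3288, 3342, 3347, 3384, 3401, 3428, 3476, 3489, 3522, 3610, 3625, 3636, 3651, 3660, 3718, 3729, 3808, 3845, 3874, 3920, 3976]

theorem hex12_ok : modelOK hex12 = true := by decide +kernel

theorem g12_17 : Goal12 hex12 0 [3522,3874,994,1938,2770,3250,1650,2418,2890,1738,2730,1450,3178,3610,2458,1370,826,250,3718,1862,2470,2662,1254,2838,3158,470,1334,694,3342,910,2254,1582,366,1182,606,2110,1985,3489,2913,3729,2513,1841,3185,753,3401,2761,3625,937,1257,2841,1433,1625,2233,377,3845,3269,2725,1637,485,917,2645,1365,2357,1205,1677,2445,845,2157,1325,3101,221,573,3976,1896,2536,3288,984,1720,2680,3012,1956,3428,1748,3636,884,2292,1484,2860,1820,2716,2396,1148,2947,1699,1379,2275,1235,2611,1803,3211,459,2347,1083,2139,667,1415,2375,3111,807,2199,1559,119,3384,3476,619,711,3244,748,3347,851,3660,444,3651,435,2992,1520,2575,1103,3920,175,3808,287] :=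
  goal12_of_leaf hex12_ok (by decide +kernel)

theorem g12_16 : Goal12 hex12 0 [573,3976,1896,2536,3288,984,1720,2680,3012,1956,3428,1748,3636,884,2292,1484,2860,1820,2716,2396,1148,2947,1699,1379,2275,1235,2611,1803,3211,459,2347,1083,2139,667,1415,2375,3111,807,2199,1559,119,3384,3476,619,711,3244,748,3347,851,3660,444,3651,435,2992,1520,2575,1103,3920,175,3808,287] :=
  goal12_of_chain [(93,221),(1053,3101),(1069,1325),(109,2157),(333,845),(397,2445),(653,1677),(181,1205),(309,2357),(341,1365),(597,2645),(405,917),(229,485),(613,1637),(677,2725),(1221,3269),(1797,3845),(121,377),(185,2233),(601,1625),(409,1433),(793,2841),(233,1257),(425,937),(1577,3625),(713,2761),(1353,3401),(241,753),(1137,3185),(817,1841),(465,2513),(1681,3729),(865,2913),(1441,3489),(961,1985),(62,2110),(94,606),(158,1182),(110,366),(558,1582),(206,2254),(398,910),(1294,3342),(182,694),(310,1334),(214,470),(1110,3158),(790,2838),(230,1254),(614,2662),(422,2470),(838,1862),(1670,3718),(122,250),(314,826),(346,1370),(410,2458),(1562,3610),(1130,3178),(426,1450),(682,2730),(714,1738),(842,2890),(370,2418),(626,1650),(1202,3250),(722,2770),(914,1938),(482,994),(1826,3874),(1474,3522)]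 [573,3976,1896,2536,3288,984,1720,2680,3012,1956,3428,1748,3636,884,2292,1484,2860,1820,2716,2396,1148,2947,1699,1379,2275,1235,2611,1803,3211,459,2347,1083,2139,667,1415,2375,3111,807,2199,1559,119,3384,3476,619,711,3244,748,3347,851,3660,444,3651,435,2992,1520,2575,1103,3920,175,3808,287] (by decide +kernel) (by decide +kernel) g12_17

theorem g12_15 : Goal12 hex12 0 [3976,1896,2536,3288,984,1720,2680,3012,1956,3428,1748,3636,884,2292,1484,2860,1820,2716,2396,1148,2947,1699,1379,2275,1235,2611,1803,3211,459,2347,1083,2139,667,1415,2375,3111,807,2199,1559,119,3384,3476,619,711,3244,748,3347,851,3660,444,3651,435,2992,1520,2575,1103,3920,175,3808,287] :=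
  goal12_of_branch (s := 61) (cl := [573]) (syms := [(2109,[0,1,3,2,4,5,10,7,8,11,6,9],[0,1,3,2,4,5,10,7,8,11,6,9],573)])
    (by decide +kernel) (by decide +kernel) (by decide) (by decide +kernel) (by decide +kernel) (by
    intro c hc
    simp only [List.mem_cons, List.not_mem_nil, or_false] at hc
    rcases hc with rfl
    · exact g12_16)

theorem g12_14 : Goal12 hex12 0 [119,3384,3476,619,711,3244,748,3347,851,3660,444,3651,435,2992,1520,2575,1103,3920,175,3808,287] :=
  goal12_of_chain [(535,1559),(151,2199),(551,807),(1063,3111),(327,2375),(391,1415),(539,667),(91,2139),(59,1083),(299,2347),(203,459),(1163,3211),(779,1803),(563,2611),(211,1235),(227,2275),(355,1379),(675,1699),(899,2947),(124,1148),(348,2396),(668,2716),(796,1820),(812,2860),(460,1484),(244,2292),(372,884),(1588,3636),(724,1748),(1380,3428),(932,1956),(964,3012),(632,2680),(696,1720),(472,984),(1240,3288),(488,2536),(872,1896),(1928,3976)] [119,3384,3476,619,711,3244,748,3347,851,3660,444,3651,435,2992,1520,2575,1103,3920,175,3808,287]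 (by decide +kernel) (by decide +kernel) g12_15

theorem g12_13 : Goal12 hex12 0 [3384,3476,619,711,3244,748,3347,851,3660,444,3651,435,2992,1520,2575,1103,3920,175,3808,287] :=
  goal12_of_branch (s := 87) (cl := [119]) (syms := [(2135,[0,1,6,9,4,11,2,10,8,3,7,5],[0,1,6,9,4,11,2,10,8,3,7,5],119)])
    (by decide +kernel) (by decide +kernel) (by decide) (by decide +kernel) (by decide +kernel) (by
    intro c hc
    simp only [List.mem_cons, List.not_mem_nil, or_false] at hc
    rcases hc with rfl
    · exact g12_14)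

theorem g12_12 : Goal12 hex12 0 [711,3244,748,3347,851,3660,444,3651,435,2992,1520,2575,1103,3920,175,3808,287] :=
  goal12_of_chain [(587,619),(1428,3476),(1336,3384)] [711,3244,748,3347,851,3660,444,3651,435,2992,1520,2575,1103,3920,175,3808,287] (by decide +kernel) (by decide +kernel) g12_13

theorem g12_11 : Goal12 hex12 0 [3244,748,3347,851,3660,444,3651,435,2992,1520,2575,1103,3920,175,3808,287] :=
  goal12_of_branch (s := 583) (cl := [711]) (syms := [(615,[0,1,2,3,4,7,6,5,8,9,10,11],[0,1,2,3,4,7,6,5,8,9,10,11],711)])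
    (by decide +kernel) (by decide +kernel) (by decide) (by decide +kernel) (by decide +kernel) (by
    intro c hc
    simp only [List.mem_cons, List.not_mem_nil, or_false] at hc
    rcases hc with rfl
    · exact g12_12)

theorem g12_10 : Goal12 hex12 0 [851,3660,444,3651,435,2992,1520,2575,1103,3920,175,3808,287] :=
  goal12_of_chain [(1299,3347),(236,748),(1196,3244)] [851,3660,444,3651,435,2992,1520,2575,1103,3920,175,3808,287] (by decide +kernel) (by decide +kernel) g12_11

theorem g12_23 : Goal12 hex12 0 [1803,2443,715,3115,363,2139,1179,571,1415,2247,839,1575,2343,3095,663,3976,119,2732,1260,2844,1372,2723,1251,2835,1363,3660,444,3651,435,2992,1520,2575,1103,3920,175,3808,287] :=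
  goal12_of_branch (s := 1075) (cl := []) (syms := [])
    (by decide +kernel) (by decide +kernel) (by decide) (by decide +kernel) (by decide +kernel) (by
    intro c hc
    simp at hc)

theorem g12_22 : Goal12 hex12 0 [663,3976,119,2732,1260,2844,1372,2723,1251,2835,1363,3660,444,3651,435,2992,1520,2575,1103,3920,175,3808,287] :=
  goal12_of_chain [(1047,3095),(2087,2343),(551,1575),(583,839),(199,2247),(391,1415),(563,571),(1051,1179),(91,2139),(107,363),(1067,3115),(203,715),(395,2443),(779,1803)] [663,3976,119,2732,1260,2844,1372,2723,1251,2835,1363,3660,444,3651,435,2992,1520,2575,1103,3920,175,3808,287] (by decide +kernel) (by decide +kernel) g12_23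

theorem g12_21 : Goal12 hex12 0 [3976,119,2732,1260,2844,1372,2723,1251,2835,1363,3660,444,3651,435,2992,1520,2575,1103,3920,175,3808,287] :=
  goal12_of_branch (s := 535) (cl := [663]) (syms := [(1559,[0,1,2,3,4,6,5,10,8,9,7,11],[0,1,2,3,4,6,5,10,8,9,7,11],663)])
    (by decide +kernel) (by decide +kernel) (by decide) (by decide +kernel) (by decide +kernel) (by
    intro c hc
    simp only [List.mem_cons, List.not_mem_nil, or_false] at hc
    rcases hc with rfl
    · exact g12_22)

theorem g12_20 : Goal12 hex12 0 [119,2732,1260,2844,1372,2723,1251,2835,1363,3660,444,3651,435,2992,1520,2575,1103,3920,175,3808,287] :=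
  goal12_of_chain [(1928,3976)] [119,2732,1260,2844,1372,2723,1251,2835,1363,3660,444,3651,435,2992,1520,2575,1103,3920,175,3808,287] (by decide +kernel) (by decide +kernel) g12_21

theorem g12_19 : Goal12 hex12 0 [2732,1260,2844,1372,2723,1251,2835,1363,3660,444,3651,435,2992,1520,2575,1103,3920,175,3808,287] :=
  goal12_of_branch (s := 55) (cl := [119]) (syms := [(567,[0,1,2,3,4,5,9,7,8,6,11,10],[0,1,2,3,4,5,9,7,8,6,11,10],119),(1079,[0,1,2,3,4,5,10,7,8,9,6,11],[0,1,2,3,4,5,10,7,8,9,6,11],119),(2103,[0,1,2,3,4,5,9,7,8,10,11,6],[0,1,2,3,4,5,11,7,8,6,9,10],119)])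
    (by decide +kernel) (by decide +kernel) (by decide) (by decide +kernel) (by decide +kernel) (by
    intro c hc
    simp only [List.mem_cons, List.not_mem_nil, or_false] at hc
    rcases hc with rfl
    · exact g12_20)

theorem g12_18 : Goal12 hex12 0 [1363,3660,444,3651,435,2992,1520,2575,1103,3920,175,3808,287] :=
  goal12_of_chain [(787,2835),(1123,1251),(675,2723),(348,1372),(796,2844),(236,1260),(684,2732)] [1363,3660,444,3651,435,2992,1520,2575,1103,3920,175,3808,287] (by decide +kernel) (by decide +kernel) g12_19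

theorem g12_9 : Goal12 hex12 0 [3660,444,3651,435,2992,1520,2575,1103,3920,175,3808,287] :=
  goal12_of_branch (s := 339) (cl := [851,1363]) (syms := [(2387,[0,1,2,3,4,5,6,7,8,11,10,9],[0,1,2,3,4,5,6,7,8,11,10,9],851)])
    (by decide +kernel) (by decide +kernel) (by decide) (by decide +kernel) (by decide +kernel) (by
    intro c hc
    simp only [List.mem_cons, List.not_mem_nil, or_false] at hc
    rcases hc with rfl | rfl
    · exact g12_10
    · exact g12_18)

theorem g12_8 : Goal12 hex12 0 [435,2992,1520,2575,1103,3920,175,3808,287] :=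
  goal12_of_chain [(3649,3651),(188,444),(1612,3660)] [435,2992,1520,2575,1103,3920,175,3808,287] (by decide +kernel) (by decide +kernel) g12_9

theorem g12_7 : Goal12 hex12 0 [2992,1520,2575,1103,3920,175,3808,287] :=
  goal12_of_branch (s := 433) (cl := [435]) (syms := [(437,[0,2,1,3,4,5,6,7,8,9,10,11],[0,2,1,3,4,5,6,7,8,9,10,11],435),(441,[0,2,3,1,4,5,6,7,8,9,10,11],[0,3,1,2,4,5,6,7,8,9,10,11],435)])
    (by decide +kernel) (by decide +kernel) (by decide) (by decide +kernel) (by decide +kernel) (by
    intro c hc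
    simp only [List.mem_cons, List.not_mem_nil, or_false] at hc
    rcases hc with rfl
    · exact g12_8)

theorem g12_6 : Goal12 hex12 0 [1103,3920,175,3808,287] :=
  goal12_of_chain [(527,2575),(496,1520),(944,2992)] [1103,3920,175,3808,287] (by decide +kernel) (by decide +kernel) g12_7

theorem g12_5 : Goal12 hex12 0 [3920,175,3808,287] :=
  goal12_of_branch (s := 79) (cl := [1103]) (syms := [(591,[0,1,2,3,4,5,6,7,8,10,9,11],[0,1,2,3,4,5,6,7,8,10,9,11],1103),(2127,[0,1,2,3,4,5,6,7,8,9,11,10],[0,1,2,3,4,5,6,7,8,9,11,10],1103)])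
    (by decide +kernel) (by decide +kernel) (by decide) (by decide +kernel) (by decide +kernel) (by
    intro c hc
    simp only [List.mem_cons, List.not_mem_nil, or_false] at hc
    rcases hc with rfl
    · exact g12_6)

theorem g12_4 : Goal12 hex12 0 [175,3808,287] :=
  goal12_of_chain [(1872,3920)] [175,3808,287] (by decide +kernel) (by decide +kernel) g12_5

theorem g12_3 : Goal12 hex12 0 [3808,287] :=
  goal12_of_branch (s := 47) (cl := [175]) (syms := [(111,[0,1,2,3,4,5,7,6,8,9,10,11],[0,1,2,3,4,5,7,6,8,9,10,11],175),(559,[0,1,2,3,4,5,6,9,8,7,10,11],[0,1,2,3,4,5,6,9,8,7,10,11],175),(1071,[0,1,2,3,4,5,6,9,8,10,7,11],[0,1,2,3,4,5,6,10,8,7,9,11],175),(2095,[0,1,2,3,4,5,6,9,8,10,11,7],[0,1,2,3,4,5,6,11,8,7,9,10],175)])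
    (by decide +kernel) (by decide +kernel) (by decide) (by decide +kernel) (by decide +kernel) (by
    intro c hc
    simp only [List.mem_cons, List.not_mem_nil, or_false] at hc
    rcases hc with rfl
    · exact g12_4)

theorem g12_2 : Goal12 hex12 0 [287] :=
  goal12_of_chain [(1760,3808)] [287] (by decide +kernel) (by decide +kernel) g12_3

theorem g12_1 : Goal12 hex12 0 [] :=
  goal12_of_branch (s := 31) (cl := [287]) (syms := [(63,[0,1,2,3,4,8,5,6,7,9,10,11],[0,1,2,3,4,6,7,8,5,9,10,11],287),(95,[0,1,2,3,4,5,8,6,7,9,10,11],[0,1,2,3,4,5,7,8,6,9,10,11],287),(159,[0,1,2,3,4,5,6,8,7,9,10,11],[0,1,2,3,4,5,6,8,7,9,10,11],287),(543,[0,1,2,3,4,5,6,7,9,8,10,11],[0,1,2,3,4,5,6,7,9,8,10,11],287),(1055,[0,1,2,3,4,5,6,7,9,10,8,11],[0,1,2,3,4,5,6,7,10,8,9,11],287),(2079,[0,1,2,3,4,5,6,7,9,10,11,8],[0,1,2,3,4,5,6,7,11,8,9,10],287)])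
    (by decide +kernel) (by decide +kernel) (by decide) (by decide +kernel) (by decide +kernel) (by
    intro c hc
    simp only [List.mem_cons, List.not_mem_nil, or_false] at hc
    rcases hc with rfl
    · exact g12_2)


theorem g11_15 : Goal12 hex12 2048 [3522,3874,2770,3250,2418,2890,2730,3178,3610,2458,3718,2470,2662,2838,3158,3342,2254,2110,3489,2913,3729,2513,3185,3401,2761,3625,2841,2233,3845,3269,2725,2645,2357,2445,2157,3101,3808,3920,2992,3976,2536,3384,2680,3012,3476,3636,2292,3244,2396,2947,3651,2275,3347,2611,3211,2139,3288,2347,3660,2860,3428,2716,2375,3111,2199,2575] :=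
  goal12_of_leaf hex12_ok (by decide +kernel)

theorem g11_14 : Goal12 hex12 2048 [3101,3808,3920,2992,3976,2536,3384,2680,3012,3476,3636,2292,3244,2396,2947,3651,2275,3347,2611,3211,2139,3288,2347,3660,2860,3428,2716,2375,3111,2199,2575] :=
  goal12_of_chain [(2093,2157),(2189,2445),(2101,2357),(2133,2645),(2213,2725),(2245,3269),(2821,3845),(2105,2233),(2329,2841),(2601,3625),(2249,2761),(2377,3401),(2161,3185),(2257,2513),(2705,3729),(2401,2913),(2465,3489),(2078,2110),(2126,2254),(2318,3342),(2134,3158),(2326,2838),(2150,2662),(2214,2470),(2694,3718),(2202,2458),(2586,3610),(2154,3178),(2218,2730),(2378,2890),(2162,2418),(2226,3250),(2258,2770),(2850,3874),(2498,3522)] [3101,3808,3920,2992,3976,2536,3384,2680,3012,3476,3636,2292,3244,2396,2947,3651,2275,3347,2611,3211,2139,3288,2347,3660,2860,3428,2716,2375,3111,2199,2575] (by decide +kernel) (by decide +kernel) g11_15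

theorem g11_13 : Goal12 hex12 2048 [3808,3920,2992,3976,2536,3384,2680,3012,3476,3636,2292,3244,2396,2947,3651,2275,3347,2611,3211,2139,3288,2347,3660,2860,3428,2716,2375,3111,2199,2575] :=
  goal12_of_branch (s := 2077) (cl := [3101]) (syms := [(2109,[0,1,2,4,3,10,6,9,8,7,5,11],[0,1,2,4,3,10,6,9,8,7,5,11],3101)])
    (by decide +kernel) (by decide +kernel) (by decide) (by decide +kernel) (by decide +kernel) (by
    intro c hc
    simp only [List.mem_cons, List.not_mem_nil, or_false] at hc
    rcases hc with rfl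
    · exact g11_14)

theorem g11_12 : Goal12 hex12 2048 [2139,3288,2347,3660,2860,3428,2716,2375,3111,2199,2575] :=
  goal12_of_chain [(2187,3211),(2099,2611),(2323,3347),(2147,2275),(2627,3651),(2435,2947),(2140,2396),(3116,3244),(2228,2292),(2612,3636),(2452,3476),(2500,3012),(2168,2680),(2360,3384),(2280,2536),(2952,3976),(2480,2992),(2896,3920),(2784,3808)] [2139,3288,2347,3660,2860,3428,2716,2375,3111,2199,2575] (by decide +kernel) (by decide +kernel) g11_13

theorem g11_11 : Goal12 hex12 2048 [3288,2347,3660,2860,3428,2716,2375,3111,2199,2575] :=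
  goal12_of_branch (s := 2075) (cl := [2139]) (syms := [(3099,[0,1,2,3,4,8,10,7,5,9,6,11],[0,1,2,3,4,8,10,7,5,9,6,11],2139)])
    (by decide +kernel) (by decide +kernel) (by decide) (by decide +kernel) (by decide +kernel) (by
    intro c hc
    simp only [List.mem_cons, List.not_mem_nil, or_false] at hc
    rcases hc with rfl
    · exact g11_12)

theorem g11_10 : Goal12 hex12 2048 [2347,3660,2860,3428,2716,2375,3111,2199,2575] :=
  goal12_of_chain [(3280,3288)] [2347,3660,2860,3428,2716,2375,3111,2199,2575] (by decide +kernel) (by decide +kernel) g11_11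

theorem g11_9 : Goal12 hex12 2048 [3660,2860,3428,2716,2375,3111,2199,2575] :=
  goal12_of_branch (s := 2339) (cl := [2347]) (syms := [(2851,[0,1,2,9,4,5,6,7,8,3,10,11],[0,1,2,9,4,5,6,7,8,3,10,11],2347)])
    (by decide +kernel) (by decide +kernel) (by decide) (by decide +kernel) (by decide +kernel) (by
    intro c hc
    simp only [List.mem_cons, List.not_mem_nil, or_false] at hc
    rcases hc with rfl
    · exact g11_10)

theorem g11_8 : Goal12 hex12 2048 [2860,3428,2716,2375,3111,2199,2575] :=
  goal12_of_chain [(2636,3660)] [2860,3428,2716,2375,3111,2199,2575] (by decide +kernel) (by decide +kernel) g11_9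

theorem g11_20 : Goal12 hex12 2048 [3715,2467,2659,3155,2835,3339,2251,2107,2516,3252,2892,3628,3428,2716,2375,3111,2199,2575] :=
  goal12_of_branch (s := 2108) (cl := []) (syms := [])
    (by decide +kernel) (by decide +kernel) (by decide) (by decide +kernel) (by decide +kernel) (by
    intro c hc
    simp at hc)

theorem g11_19 : Goal12 hex12 2048 [2251,2107,2516,3252,2892,3628,3428,2716,2375,3111,2199,2575] :=
  goal12_of_chain [(2315,3339),(2323,2835),(2131,3155),(2147,2659),(2211,2467),(2691,3715)] [2251,2107,2516,3252,2892,3628,3428,2716,2375,3111,2199,2575] (by decide +kernel) (by decide +kernel) g11_20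

theorem g11_18 : Goal12 hex12 2048 [2107,2516,3252,2892,3628,3428,2716,2375,3111,2199,2575] :=
  goal12_of_branch (s := 2123) (cl := [2251]) (syms := [(3147,[0,1,2,3,5,4,6,10,8,9,7,11],[0,1,2,3,5,4,6,10,8,9,7,11],2251)])
    (by decide +kernel) (by decide +kernel) (by decide) (by decide +kernel) (by decide +kernel) (by
    intro c hc
    simp only [List.mem_cons, List.not_mem_nil, or_false] at hc
    rcases hc with rfl
    · exact g11_19)

theorem g11_17 : Goal12 hex12 2048 [2516,3252,2892,3628,3428,2716,2375,3111,2199,2575] :=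
  goal12_of_branch (s := 2075) (cl := [2107]) (syms := [(2139,[0,1,2,3,4,6,5,7,10,9,8,11],[0,1,2,3,4,6,5,7,10,9,8,11],2107),(2331,[0,1,2,3,4,6,10,7,5,9,8,11],[0,1,2,3,4,8,5,7,10,9,6,11],2107),(3099,[0,1,2,3,4,10,6,7,8,9,5,11],[0,1,2,3,4,10,6,7,8,9,5,11],2107)])
    (by decide +kernel) (by decide +kernel) (by decide) (by decide +kernel) (by decide +kernel) (by
    intro c hc
    simp only [List.mem_cons, List.not_mem_nil, or_false] at hc
    rcases hc with rfl
    · exact g11_18)

theorem g11_16 : Goal12 hex12 2048 [3628,3428,2716,2375,3111,2199,2575] :=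
  goal12_of_chain [(2636,2892),(3124,3252),(2260,2516)] [3628,3428,2716,2375,3111,2199,2575] (by decide +kernel) (by decide +kernel) g11_17

theorem g11_7 : Goal12 hex12 2048 [3428,2716,2375,3111,2199,2575] :=
  goal12_of_branch (s := 2604) (cl := [2860,3628]) (syms := [(2668,[0,1,2,3,4,5,8,7,6,9,10,11],[0,1,2,3,4,5,8,7,6,9,10,11],2860)])
    (by decide +kernel) (by decide +kernel) (by decide) (by decide +kernel) (by decide +kernel) (by
    intro c hc
    simp only [List.mem_cons, List.not_mem_nil, or_false] at hc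
    rcases hc with rfl | rfl
    · exact g11_8
    · exact g11_16)

theorem g11_6 : Goal12 hex12 2048 [2716,2375,3111,2199,2575] :=
  goal12_of_chain [(3424,3428)] [2716,2375,3111,2199,2575] (by decide +kernel) (by decide +kernel) g11_7

theorem g11_5 : Goal12 hex12 2048 [2375,3111,2199,2575] :=
  goal12_of_branch (s := 2712) (cl := [2716]) (syms := [(2713,[2,0,1,3,4,5,6,7,8,9,10,11],[1,2,0,3,4,5,6,7,8,9,10,11],2716),(2714,[0,2,1,3,4,5,6,7,8,9,10,11],[0,2,1,3,4,5,6,7,8,9,10,11],2716)])
    (by decide +kernel) (by decide +kernel) (by decide) (by decide +kernel) (by decide +kernel) (by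
    intro c hc
    simp only [List.mem_cons, List.not_mem_nil, or_false] at hc
    rcases hc with rfl
    · exact g11_6)

theorem g11_4 : Goal12 hex12 2048 [3111,2199,2575] :=
  goal12_of_chain [(2119,2375)] [3111,2199,2575] (by decide +kernel) (by decide +kernel) g11_5

theorem g11_3 : Goal12 hex12 2048 [2199,2575] :=
  goal12_of_branch (s := 2087) (cl := [3111]) (syms := [(2151,[0,1,2,3,4,5,10,7,6,9,8,11],[0,1,2,3,4,5,8,7,10,9,6,11],3111),(2343,[0,1,2,3,4,5,6,7,10,9,8,11],[0,1,2,3,4,5,6,7,10,9,8,11],3111)])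
    (by decide +kernel) (by decide +kernel) (by decide) (by decide +kernel) (by decide +kernel) (by
    intro c hc
    simp only [List.mem_cons, List.not_mem_nil, or_false] at hc
    rcases hc with rfl
    · exact g11_4)

theorem g11_2 : Goal12 hex12 2048 [2575] :=
  goal12_of_branch (s := 2071) (cl := [2199]) (syms := [(2103,[0,1,2,3,4,7,5,6,8,9,10,11],[0,1,2,3,4,6,7,5,8,9,10,11],2199),(2135,[0,1,2,3,4,5,7,6,8,9,10,11],[0,1,2,3,4,5,7,6,8,9,10,11],2199),(2327,[0,1,2,3,4,5,6,8,7,9,10,11],[0,1,2,3,4,5,6,8,7,9,10,11],2199),(3095,[0,1,2,3,4,5,6,8,10,9,7,11],[0,1,2,3,4,5,6,10,7,9,8,11],2199)])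
    (by decide +kernel) (by decide +kernel) (by decide) (by decide +kernel) (by decide +kernel) (by
    intro c hc
    simp only [List.mem_cons, List.not_mem_nil, or_false] at hc
    rcases hc with rfl
    · exact g11_3)

theorem g11_1 : Goal12 hex12 2048 [] :=
  goal12_of_branch (s := 2063) (cl := [2575]) (syms := [(2079,[0,1,2,3,9,4,5,6,7,8,10,11],[0,1,2,3,5,6,7,8,9,4,10,11],2575),(2095,[0,1,2,3,4,9,5,6,7,8,10,11],[0,1,2,3,4,6,7,8,9,5,10,11],2575),(2127,[0,1,2,3,4,5,9,6,7,8,10,11],[0,1,2,3,4,5,7,8,9,6,10,11],2575),(2191,[0,1,2,3,4,5,6,9,7,8,10,11],[0,1,2,3,4,5,6,8,9,7,10,11],2575),(2319,[0,1,2,3,4,5,6,7,9,8,10,11],[0,1,2,3,4,5,6,7,9,8,10,11],2575),(3087,[0,1,2,3,4,5,6,7,8,10,9,11],[0,1,2,3,4,5,6,7,8,10,9,11],2575)])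
    (by decide +kernel) (by decide +kernel) (by decide) (by decide +kernel) (by decide +kernel) (by
    intro c hc
    simp only [List.mem_cons, List.not_mem_nil, or_false] at hc
    rcases hc with rfl
    · exact g11_2)


end Cfsg.Agent.Helper92
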