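import Cfsg.Agent.Helper92.Steiner12

/-!
# Rigidity of the model `S(5,6,12)`: an automorphism fixing five points is trivial
-/

set_option autoImplicit false

namespace Cfsg.Agent.Helper92

open Cfsg Cfsg.Agent.Helper27


/-- some block is not mapped to a block by the permutation with inverse table `[0,1,2,3,4] ++ τ` -/
def bad12 (τ : List ℕ) : Bool :=
  hex12.any fun h => !(hex12.contains (pmask12 ([0, 1, 2, 3, 4] ++ τ) h))

set_option maxRecDepth 100000 in
theorem rigid_check12 : (List.permutations' [5, 6, 7, 8, 9, 10, 11]).all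
    (fun τ => τ == [5, 6, 7, 8, 9, 10, 11] || bad12 τ) = true := by decide +kernel



/-- table of a permutation of the 12 points -/
def tab12 (σ : Equiv.Perm P12) : List ℕ := (List.range 12).map fun i => idx12 (σ (pt12 i))

theorem getD_tab12 (σ : Equiv.Perm P12) (i : ℕ) (hi : i < 12) :
    (tab12 σ).getD i 0 = idx12 (σ (pt12 i)) := by
  unfold tab12
  rw [List.getD_eq_getElem _ _ (by simpa using hi)]
  simp

theorem isInvPair12_tab12 (σ : Equiv.Perm P12) : isInvPair12 (tab12 σ) (tab12 σ.symm) = true := by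
  unfold isInvPair12
  rw [List.all_eq_true]
  intro i hi
  rw [List.mem_range] at hi
  have h1 : (tab12 σ).getD i 0 < 12 := by rw [getD_tab12 σ i hi]; exact idx12_lt _
  have h2 : (tab12 σ.symm).getD i 0 < 12 := by rw [getD_tab12 σ.symm i hi]; exact idx12_lt _
  simp only [Bool.and_eq_true, decide_eq_true_eq, beq_iff_eq]
  refine ⟨⟨⟨h1, h2⟩, ?_⟩, ?_⟩
  · rw [getD_tab12 σ.symm _ h1, getD_tab12 σ i hi, pt12_idx12, Equiv.symm_apply_apply,
      idx12_pt12 i hi]
  · rw [getD_tab12 σ _ h2, getD_tab12 σ.symm i hi, pt12_idx12, Equiv.apply_symm_apply,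
      idx12_pt12 i hi]

theorem perm12_tab12 (σ : Equiv.Perm P12) : perm12 (tab12 σ) (tab12 σ.symm) = σ := by
  ext p : 1
  rw [perm12_apply (isInvPair12_tab12 σ), tabFun12, getD_tab12 σ _ (idx12_lt p), pt12_idx12,
    pt12_idx12]

theorem hex12_lt : ∀ m ∈ hex12, m < 2 ^ 12 := by decide +kernel

theorem mem_T12_iff (b : Finset P12) : b ∈ T12 ↔ ∃ m ∈ hex12, b = set12 m := by
  unfold T12 target12
  constructor
  · rintro ⟨m, hm, -, rfl⟩
    exact ⟨m, hm, rfl⟩
  · rintro ⟨m, hm, rfl⟩
    exact ⟨m, hm, Nat.zero_and m, rfl⟩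

/-- an automorphism of the model maps block masks to block masks -/
theorem pmask12_mem_hex12 {σ : Equiv.Perm P12} (hσ : mapSys σ T12 = T12) {h : ℕ} (hh : h ∈ hex12) :
    pmask12 (tab12 σ.symm) h ∈ hex12 := by
  have h1 : (set12 h).image σ ∈ T12 := by
    rw [← hσ]
    exact ⟨set12 h, (mem_T12_iff _).2 ⟨h, hh, rfl⟩, rfl⟩
  rw [mem_T12_iff] at h1
  obtain ⟨m, hm, hsm⟩ := h1
  have h2 := image_perm12_set12 (isInvPair12_tab12 σ) h
  rw [perm12_tab12, hsm] at h2
  have := eq_of_set12_eq (hex12_lt m hm) (pmask12_lt _ _) h2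
  rw [← this]
  exact hm

/-- an automorphism of the model fixing the five points with indices `0, …, 4` is trivial -/
theorem eq_one_of_fix_base {σ : Equiv.Perm P12} (hσ : mapSys σ T12 = T12)
    (hfix : ∀ i < 5, σ (pt12 i) = pt12 i) : σ = 1 := by
  set f : ℕ → ℕ := fun i => idx12 (σ.symm (pt12 i)) with hf
  have hf12 : ∀ i, f i < 12 := fun i => idx12_lt _
  have hfixs : ∀ i < 5, f i = i := by
    intro i hi
    simp only [hf]
    rw [(Equiv.symm_apply_eq σ).2 (hfix i hi).symm, idx12_pt12 i (by omega)]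
  have hinj : ∀ i < 12, ∀ j < 12, f i = f j → i = j := by
    intro i hi j hj h
    simp only [hf] at h
    have h1 : σ.symm (pt12 i) = σ.symm (pt12 j) := by
      rw [← pt12_idx12 (σ.symm (pt12 i)), h, pt12_idx12]
    have h2 := σ.symm.injective h1
    rw [← idx12_pt12 i hi, h2, idx12_pt12 j hj]
  have hlow : ∀ i < 12, f i < 5 → i < 5 := by
    intro i hi h
    have := hinj i hi (f i) (by omega) (by rw [hfixs (f i) h])
    omega
  set τ := (List.range' 5 7).map f with hτ
  have htab : tab12 σ.symm = [0, 1, 2, 3, 4] ++ τ := by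
    have hr : List.range 12 = [0, 1, 2, 3, 4] ++ List.range' 5 7 := by decide
    unfold tab12
    rw [hr, List.map_append, hτ]
    congr 1
    simp only [List.map_cons, List.map_nil]
    have e0 := hfixs 0 (by norm_num)
    have e1 := hfixs 1 (by norm_num)
    have e2 := hfixs 2 (by norm_num)
    have e3 := hfixs 3 (by norm_num)
    have e4 := hfixs 4 (by norm_num)
    simp only [hf] at e0 e1 e2 e3 e4
    rw [e0, e1, e2, e3, e4]
  have hperm : τ.Perm [5, 6, 7, 8, 9, 10, 11] := by
    have hnd : τ.Nodup := by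
      rw [hτ]
      apply List.Nodup.map_on _ (List.nodup_range' (s := 5) (n := 7) (step := 1) (by norm_num))
      intro i hi j hj h
      rw [List.mem_range'_1] at hi hj
      exact hinj i (by omega) j (by omega) h
    rw [List.perm_ext_iff_of_nodup hnd (by decide)]
    intro a
    have ha : a ∈ [5, 6, 7, 8, 9, 10, 11] ↔ 5 ≤ a ∧ a < 12 := by
      simp only [List.mem_cons, List.not_mem_nil, or_false]
      omega
    rw [ha, hτ, List.mem_map]
    constructor
    · rintro ⟨i, hi, rfl⟩
      rw [List.mem_range'_1] at hi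
      refine ⟨?_, hf12 i⟩
      by_contra hcon
      have := hlow i (by omega) (by omega)
      omega
    · rintro ⟨h5, h12⟩
      have hfa : f (idx12 (σ (pt12 a))) = a := by
        simp only [hf]
        rw [pt12_idx12, Equiv.symm_apply_apply, idx12_pt12 a h12]
      refine ⟨idx12 (σ (pt12 a)), ?_, hfa⟩
      rw [List.mem_range'_1]
      refine ⟨?_, by have := idx12_lt (σ (pt12 a)); omega⟩
      by_contra hcon
      have h1 : idx12 (σ (pt12 a)) < 5 := by omega
      have := hfixs _ h1
      omega
  have hmem : τ ∈ List.permutations' [5, 6, 7, 8, 9, 10, 11] := List.mem_permutations'.2 hperm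
  have hchk := rigid_check12
  rw [List.all_eq_true] at hchk
  have h1 := hchk τ hmem
  rw [Bool.or_eq_true, beq_iff_eq] at h1
  have hτid : τ = [5, 6, 7, 8, 9, 10, 11] := by
    rcases h1 with h1 | h1
    · exact h1
    · exfalso
      unfold bad12 at h1
      rw [List.any_eq_true] at h1
      obtain ⟨h, hh, hbad⟩ := h1
      rw [← htab] at hbad
      have := pmask12_mem_hex12 hσ hh
      rw [← List.contains_iff_mem] at this
      rw [this] at hbad
      simp at hbad
  have hall : ∀ i < 12, f i = i := by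
    intro i hi
    have h2 := getD_tab12 σ.symm i hi
    rw [htab, hτid] at h2
    simp only [hf]
    rw [← h2]
    interval_cases i <;> rfl
  have hs : σ.symm = 1 := by
    ext p : 1
    have := hall (idx12 p) (idx12_lt p)
    simp only [hf] at this
    rw [pt12_idx12] at this
    rw [Equiv.Perm.one_apply, ← pt12_idx12 (σ.symm p), this, pt12_idx12]
  have : σ = σ.symm.symm := rfl
  rw [this, hs]
  rfl

end Cfsg.Agent.Helper92
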