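import Mathlib
import Cfsg.Prelude.Def_Sporadic_a
import Cfsg.Agent.Helper27.Mask
import Cfsg.Agent.Helper92.SteinerIso

/-!
# A certificate checker for the uniqueness of Steiner-like systems of 6-sets on 12 points

The 12 points are `Option (Fin 11)` (`none` is the point with index 11).
`ExtSys12 F B`: `B` is a family of 6-subsets of the 12 points, all containing `F`, any two of which
meet in 0, 2, 3 or 4 points, such that every 5-set containing `F` lies in a member.
(`F = ∅`: Steiner systems `S(5,6,12)`; `F` a point: extended `S(4,5,11)`.)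

`Goal12 M Fm K`: every such system containing the blocks with masks in `K` can be relabelled to the
system of all blocks of the model `M` (a list of masks) containing `F`.
-/

set_option autoImplicit false

namespace Cfsg.Agent.Helper92

open Cfsg Cfsg.Agent.Helper27

/-! ### points and masks -/

/-- the 12 points -/
abbrev P12 : Type := Option (Fin 11)

/-- index of a point -/
def idx12 : P12 → ℕ
  | none => 11
  | some i => i.val

/-- the point with a given index -/
def pt12 (i : ℕ) : P12 := if h : i < 11 then some ⟨i, h⟩ else none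

theorem idx12_lt (a : P12) : idx12 a < 12 := by
  cases a with
  | none => decide
  | some i => exact lt_trans i.isLt (by decide)

theorem pt12_idx12 (a : P12) : pt12 (idx12 a) = a := by
  cases a with
  | none => simp [idx12, pt12]
  | some i => simp [idx12, pt12]

theorem idx12_pt12 (i : ℕ) (hi : i < 12) : idx12 (pt12 i) = i := by
  unfold pt12
  split_ifs with h
  · rfl
  · simp only [idx12]
    omega

/-- the indexing of the 12 points -/
def I12 : PtIndex P12 12 := ⟨idx12, pt12, idx12_lt, pt12_idx12, idx12_pt12⟩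

/-- the set of points with a given mask -/
abbrev set12 (m : ℕ) : Finset P12 := I12.setOf m

/-- the mask of a set of points -/
abbrev mask12 (s : Finset P12) : ℕ := I12.maskOfSet s

theorem mem_set12 (m : ℕ) (a : P12) : a ∈ set12 m ↔ m.testBit (idx12 a) = true := I12.mem_setOf m a

theorem card_set12 (m : ℕ) : (set12 m).card = popcnt 12 m := I12.card_setOf m

theorem set12_and (a b : ℕ) : set12 (a &&& b) = set12 a ∩ set12 b := I12.setOf_and a b

theorem set12_mask12 (s : Finset P12) : set12 (mask12 s) = s := I12.setOf_maskOfSet s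

theorem mask12_lt (s : Finset P12) : mask12 s < 2 ^ 12 := I12.maskOfSet_lt s

theorem eq_of_set12_eq {a b : ℕ} (ha : a < 2 ^ 12) (hb : b < 2 ^ 12) (h : set12 a = set12 b) :
    a = b := I12.eq_of_setOf_eq ha hb h

theorem set12_subset_of_and_eq {a b : ℕ} (h : a &&& b = a) : set12 a ⊆ set12 b := by
  intro p hp
  rw [← h, set12_and, Finset.mem_inter] at hp
  exact hp.2

theorem and_eq_of_set12_subset {a b : ℕ} (ha : a < 2 ^ 12) (h : set12 a ⊆ set12 b) :
    a &&& b = a := by
  apply eq_of_set12_eq (lt_of_le_of_lt Nat.and_le_left ha) ha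
  rw [set12_and]
  exact Finset.inter_eq_left.2 h

theorem set12_or_pow (s x : ℕ) (hx : x < 12) : set12 (s ||| 2 ^ x) = insert (pt12 x) (set12 s) := by
  ext p
  rw [Finset.mem_insert, mem_set12, mem_set12, Nat.testBit_or, Nat.testBit_two_pow, Bool.or_eq_true,
    decide_eq_true_eq]
  constructor
  · rintro (h | h)
    · exact Or.inr h
    · left
      rw [← pt12_idx12 p, h]
  · rintro (h | h)
    · right
      rw [h, idx12_pt12 x hx]
    · exact Or.inl h

/-! ### permutations given by tables -/

/-- the function on points given by a table of indices -/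
def tabFun12 (t : List ℕ) (p : P12) : P12 := pt12 (t.getD (idx12 p) 0)

/-- `t` and `s` are mutually inverse tables on `[0, 12)` -/
def isInvPair12 (t s : List ℕ) : Bool :=
  (List.range 12).all fun i =>
    decide (t.getD i 0 < 12) && decide (s.getD i 0 < 12) &&
      (s.getD (t.getD i 0) 0 == i) && (t.getD (s.getD i 0) 0 == i)

theorem isInvPair12_spec {t s : List ℕ} (h : isInvPair12 t s = true) (i : ℕ) (hi : i < 12) :
    t.getD i 0 < 12 ∧ s.getD i 0 < 12 ∧ s.getD (t.getD i 0) 0 = i ∧ t.getD (s.getD i 0) 0 = i := by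
  unfold isInvPair12 at h
  rw [List.all_eq_true] at h
  have := h i (List.mem_range.2 hi)
  simp only [Bool.and_eq_true, decide_eq_true_eq, beq_iff_eq] at this
  tauto

theorem tabFun12_leftInverse {t s : List ℕ} (h : isInvPair12 t s = true) :
    Function.LeftInverse (tabFun12 s) (tabFun12 t) := by
  intro p
  obtain ⟨h1, -, h3, -⟩ := isInvPair12_spec h (idx12 p) (idx12_lt p)
  unfold tabFun12
  rw [idx12_pt12 _ h1, h3, pt12_idx12]

theorem tabFun12_rightInverse {t s : List ℕ} (h : isInvPair12 t s = true) :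
    Function.RightInverse (tabFun12 s) (tabFun12 t) := by
  intro p
  obtain ⟨-, h2, -, h4⟩ := isInvPair12_spec h (idx12 p) (idx12_lt p)
  unfold tabFun12
  rw [idx12_pt12 _ h2, h4, pt12_idx12]

/-- the permutation with table `t` and inverse table `s` (the identity if the tables are not
valid) -/
def perm12 (t s : List ℕ) : Equiv.Perm P12 :=
  if h : isInvPair12 t s = true then
    ⟨tabFun12 t, tabFun12 s, tabFun12_leftInverse h, tabFun12_rightInverse h⟩
  else 1

theorem perm12_apply {t s : List ℕ} (h : isInvPair12 t s = true) (p : P12) :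
    perm12 t s p = tabFun12 t p := by
  unfold perm12
  rw [dif_pos h]
  rfl

theorem perm12_symm_apply {t s : List ℕ} (h : isInvPair12 t s = true) (p : P12) :
    (perm12 t s).symm p = tabFun12 s p := by
  unfold perm12
  rw [dif_pos h]
  rfl

/-- image of a mask under the permutation whose inverse table is `s` -/
def pmask12 (s : List ℕ) (m : ℕ) : ℕ := Nat.ofBits fun i : Fin 12 => m.testBit (s.getD i 0)

theorem pmask12_lt (s : List ℕ) (m : ℕ) : pmask12 s m < 2 ^ 12 := Nat.ofBits_lt_two_pow _

theorem testBit_pmask12 (s : List ℕ) (m : ℕ) (i : ℕ) (hi : i < 12) :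
    (pmask12 s m).testBit i = m.testBit (s.getD i 0) := by
  unfold pmask12
  rw [Nat.testBit_ofBits_lt _ _ hi]

theorem mem_set12_pmask12 {t s : List ℕ} (h : isInvPair12 t s = true) (m : ℕ) (p : P12) :
    p ∈ set12 (pmask12 s m) ↔ (perm12 t s).symm p ∈ set12 m := by
  rw [mem_set12, mem_set12, testBit_pmask12 _ _ _ (idx12_lt p), perm12_symm_apply h, tabFun12,
    idx12_pt12 _ (isInvPair12_spec h (idx12 p) (idx12_lt p)).2.1]

theorem image_perm12_set12 {t s : List ℕ} (h : isInvPair12 t s = true) (m : ℕ) :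
    (set12 m).image (perm12 t s) = set12 (pmask12 s m) := by
  ext p
  rw [mem_set12_pmask12 h, Finset.mem_image]
  constructor
  · rintro ⟨q, hq, rfl⟩
    simpa using hq
  · intro hp
    exact ⟨(perm12 t s).symm p, hp, by simp⟩

/-! ### extended systems -/

/-- extended systems on 12 points -/
structure ExtSys12 (F : Finset P12) (B : Set (Finset P12)) : Prop where
  card6 : ∀ b ∈ B, b.card = 6
  sub : ∀ b ∈ B, F ⊆ b
  cover : ∀ s : Finset P12, s.card = 5 → F ⊆ s → ∃ b ∈ B, s ⊆ b
  inter : ∀ b ∈ B, ∀ c ∈ B, b ≠ c →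
    (b ∩ c).card = 0 ∨ (b ∩ c).card = 2 ∨ (b ∩ c).card = 3 ∨ (b ∩ c).card = 4

theorem ExtSys12.mapSys {F : Finset P12} {B : Set (Finset P12)} (h : ExtSys12 F B)
    (σ : Equiv.Perm P12) : ExtSys12 (F.image σ) (mapSys σ B) := by
  have hinj : Function.Injective σ := σ.injective
  refine ⟨?_, ?_, ?_, ?_⟩
  · rintro _ ⟨b, hb, rfl⟩
    simp only
    rw [Finset.card_image_of_injective _ hinj]
    exact h.card6 b hb
  · rintro _ ⟨b, hb, rfl⟩
    exact Finset.image_subset_image (h.sub b hb)
  · intro s hs hFs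
    have hs' : (s.image σ.symm).card = 5 := by
      rw [Finset.card_image_of_injective _ σ.symm.injective, hs]
    have hF' : F ⊆ s.image σ.symm := by
      intro p hp
      rw [Finset.mem_image]
      exact ⟨σ p, hFs (Finset.mem_image_of_mem _ hp), by simp⟩
    obtain ⟨b, hb, hsb⟩ := h.cover _ hs' hF'
    refine ⟨b.image σ, ⟨b, hb, rfl⟩, ?_⟩
    intro p hp
    rw [Finset.mem_image]
    exact ⟨σ.symm p, hsb (Finset.mem_image_of_mem _ hp), by simp⟩
  · rintro _ ⟨b, hb, rfl⟩ _ ⟨c, hc, rfl⟩ hne
    have hne' : b ≠ c := fun e => hne (by rw [e])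
    simp only
    rw [← Finset.image_inter _ _ hinj, Finset.card_image_of_injective _ hinj]
    exact h.inter b hb c hc hne'

/-- two blocks sharing five points are equal -/
theorem ExtSys12.eq_of_five {F : Finset P12} {B : Set (Finset P12)} (h : ExtSys12 F B)
    {b c : Finset P12} (hb : b ∈ B) (hc : c ∈ B) {s : Finset P12} (hs : s.card = 5) (hsb : s ⊆ b)
    (hsc : s ⊆ c) : b = c := by
  by_contra hne
  have h5 : 5 ≤ (b ∩ c).card := by
    rw [← hs]
    exact Finset.card_le_card (Finset.subset_inter hsb hsc)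
  rcases h.inter b hb c hc hne with h' | h' | h' | h' <;> omega

/-- the blocks of the model `M` containing `F` -/
def target12 (M : List ℕ) (Fm : ℕ) : Set (Finset P12) :=
  {b | ∃ m ∈ M, Fm &&& m = Fm ∧ b = set12 m}

/-- the goal attached to a state `(Fm, K)` of the search -/
def Goal12 (M : List ℕ) (Fm : ℕ) (K : List ℕ) : Prop :=
  ∀ B : Set (Finset P12), ExtSys12 (set12 Fm) B → (∀ m ∈ K, set12 m ∈ B) →
    ∃ σ : Equiv.Perm P12, mapSys σ B = target12 M Fm

/-! ### compatibility -/

/-- allowed sizes of the intersection of two distinct blocks -/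
def okI12 (n : ℕ) : Bool := n == 0 || n == 2 || n == 3 || n == 4

/-- `c` is compatible with the known blocks -/
def compat12 (K : List ℕ) (c : ℕ) : Bool := K.all fun m => m == c || okI12 (popcnt 12 (m &&& c))

theorem compat12_of {F : Finset P12} {B : Set (Finset P12)} (hB : ExtSys12 F B) {K : List ℕ}
    (hK : ∀ m ∈ K, set12 m ∈ B) (hKlt : ∀ m ∈ K, m < 2 ^ 12) {c : ℕ} (hc : set12 c ∈ B)
    (hclt : c < 2 ^ 12) : compat12 K c = true := by
  unfold compat12
  rw [List.all_eq_true]
  intro m hm
  rw [Bool.or_eq_true]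
  by_cases he : set12 m = set12 c
  · left
    rw [beq_iff_eq]
    exact eq_of_set12_eq (hKlt m hm) hclt he
  · right
    have := hB.inter _ (hK m hm) _ hc he
    rw [← set12_and, card_set12] at this
    unfold okI12
    rcases this with h | h | h | h <;> rw [h] <;> rfl

/-! ### the leaf rule -/

/-- all masks of weight `j` below `2 ^ k` -/
def masksW : ℕ → ℕ → List ℕ
  | 0, 0 => [0]
  | 0, _ + 1 => []
  | k + 1, 0 => (masksW k 0).map (2 * ·)
  | k + 1, j + 1 => (masksW k (j + 1)).map (2 * ·) ++ (masksW k j).map (2 * · + 1)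

theorem mem_masksW : ∀ (k j m : ℕ), m < 2 ^ k → popcnt k m = j → m ∈ masksW k j := by
  intro k
  induction k with
  | zero =>
    intro j m hm hj
    have hm0 : m = 0 := by simpa using hm
    subst hm0
    simp only [popcnt] at hj
    subst hj
    simp [masksW]
  | succ k ih =>
    intro j m hm hj
    have hdiv : m / 2 < 2 ^ k := by
      rw [pow_succ] at hm
      omega
    rw [popcnt] at hj
    rcases Nat.mod_two_eq_zero_or_one m with h0 | h1
    · rw [h0, Nat.zero_add] at hj
      have hmem := ih j (m / 2) hdiv hj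
      have hm2' : 2 * (m / 2) = m := by omega
      cases j with
      | zero =>
        rw [masksW, List.mem_map]
        exact ⟨m / 2, hmem, hm2'⟩
      | succ j =>
        rw [masksW, List.mem_append]
        left
        rw [List.mem_map]
        exact ⟨m / 2, hmem, hm2'⟩
    · rw [h1] at hj
      cases j with
      | zero => omega
      | succ j =>
        have hj' : popcnt k (m / 2) = j := by omega
        have hmem := ih j (m / 2) hdiv hj'
        rw [masksW, List.mem_append]
        right
        rw [List.mem_map]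
        exact ⟨m / 2, hmem, by omega⟩

/-- the model covers every 5-set -/
def modelOK (M : List ℕ) : Bool :=
  (masksW 12 5).all fun s => M.any fun m => s &&& m == s

/-- every block of the model containing `F` is known -/
def leafOK12 (M : List ℕ) (Fm : ℕ) (K : List ℕ) : Bool :=
  (M.all fun m => !(Fm &&& m == Fm) || K.contains m) && decide (popcnt 12 Fm ≤ 5) &&
    decide (Fm < 2 ^ 12)

theorem mapSys_one (B : Set (Finset P12)) : mapSys (1 : Equiv.Perm P12) B = B := by
  ext b
  simp [mapSys]

theorem goal12_of_leaf {M : List ℕ} (hM : modelOK M = true) {Fm : ℕ} {K : List ℕ}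
    (h : leafOK12 M Fm K = true) : Goal12 M Fm K := by
  intro B hB hK
  refine ⟨1, ?_⟩
  rw [mapSys_one]
  unfold leafOK12 at h
  rw [Bool.and_eq_true, Bool.and_eq_true, List.all_eq_true, decide_eq_true_eq,
    decide_eq_true_eq] at h
  obtain ⟨⟨h1, h2⟩, h3⟩ := h
  have hsub : target12 M Fm ⊆ B := by
    rintro _ ⟨m, hm, hFm, rfl⟩
    have := h1 m hm
    rw [hFm] at this
    simp only [beq_self_eq_true, Bool.not_true, Bool.false_or, List.contains_iff_mem] at this
    exact hK m this
  apply Set.Subset.antisymm _ hsub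
  intro b hb
  have h6 : b.card = 6 := hB.card6 b hb
  have hFb : set12 Fm ⊆ b := hB.sub b hb
  have hF5 : (set12 Fm).card ≤ 5 := by rw [card_set12]; exact h2
  obtain ⟨s, hFs, hsb, hs5⟩ := Finset.exists_subsuperset_card_eq hFb hF5 (by omega : 5 ≤ b.card)
  -- the model block through `s`
  have hs5' : popcnt 12 (mask12 s) = 5 := by rw [← card_set12, set12_mask12, hs5]
  have hmem := mem_masksW 12 5 (mask12 s) (mask12_lt s) hs5'
  unfold modelOK at hM
  rw [List.all_eq_true] at hM
  have := hM _ hmem
  rw [List.any_eq_true] at this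
  obtain ⟨m, hm, hsm⟩ := this
  rw [beq_iff_eq] at hsm
  have hsm' : s ⊆ set12 m := by
    have := set12_subset_of_and_eq hsm
    rwa [set12_mask12] at this
  have hFm : Fm &&& m = Fm := and_eq_of_set12_subset h3 (hFs.trans hsm')
  have hmB : set12 m ∈ B := hsub ⟨m, hm, hFm, rfl⟩
  have : b = set12 m := hB.eq_of_five hb hmB hs5 hsb hsm'
  rw [this]
  exact ⟨m, hm, hFm, rfl⟩

/-! ### relabelling and symmetries -/

theorem mapSys_mul (σ τ : Equiv.Perm P12) (B : Set (Finset P12)) :
    mapSys (σ * τ) B = mapSys σ (mapSys τ B) := mapSys_trans τ σ B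

theorem goal12_of_relabel {M : List ℕ} {Fm : ℕ} {K : List ℕ} {t s : List ℕ}
    (hts : isInvPair12 t s = true) (hF : pmask12 s Fm = Fm)
    (h : Goal12 M Fm (K.map (pmask12 s))) : Goal12 M Fm K := by
  intro B hB hK
  have hB' := hB.mapSys (perm12 t s)
  rw [image_perm12_set12 hts, hF] at hB'
  have hK' : ∀ m ∈ K.map (pmask12 s), set12 m ∈ mapSys (perm12 t s) B := by
    intro m hm
    rw [List.mem_map] at hm
    obtain ⟨m0, hm0, rfl⟩ := hm
    rw [← image_perm12_set12 hts]
    exact ⟨_, hK m0 hm0, rfl⟩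
  obtain ⟨σ, hσ⟩ := h _ hB' hK'
  exact ⟨σ * perm12 t s, by rw [mapSys_mul, hσ]⟩

/-- a symmetry: the table permutation maps the system `c :: K` onto `ci :: K` and fixes `F` -/
def symOK12 (Fm : ℕ) (K : List ℕ) (c : ℕ) (t s : List ℕ) (ci : ℕ) : Bool :=
  isInvPair12 t s && (pmask12 s Fm == Fm) &&
    (ci :: K).all fun m => ((c :: K).map (pmask12 s)).contains m

theorem goal12_of_sym {M : List ℕ} {Fm : ℕ} {K : List ℕ} {c ci : ℕ} {t s : List ℕ}
    (h : symOK12 Fm K c t s ci = true) (hg : Goal12 M Fm (ci :: K)) : Goal12 M Fm (c :: K) := by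
  unfold symOK12 at h
  rw [Bool.and_eq_true, Bool.and_eq_true, beq_iff_eq, List.all_eq_true] at h
  obtain ⟨⟨hts, hF⟩, hall⟩ := h
  intro B hB hK
  have hB' := hB.mapSys (perm12 t s)
  rw [image_perm12_set12 hts, hF] at hB'
  have hK' : ∀ m ∈ ci :: K, set12 m ∈ mapSys (perm12 t s) B := by
    intro m hm
    have := hall m hm
    rw [List.contains_iff_mem, List.mem_map] at this
    obtain ⟨m0, hm0, rfl⟩ := this
    rw [← image_perm12_set12 hts]
    exact ⟨_, hK m0 hm0, rfl⟩
  obtain ⟨σ, hσ⟩ := hg _ hB' hK'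
  exact ⟨σ * perm12 t s, by rw [mapSys_mul, hσ]⟩

/-! ### the branching rule -/

/-- every compatible block `s ∪ {x}` is listed or symmetric to a listed one -/
def coverOK12 (Fm : ℕ) (K : List ℕ) (s : ℕ) (cl : List ℕ)
    (syms : List (ℕ × List ℕ × List ℕ × ℕ)) : Bool :=
  (List.range 12).all fun x =>
    s.testBit x || !compat12 K (s ||| 2 ^ x) || cl.contains (s ||| 2 ^ x) ||
      syms.any fun e => (e.1 == (s ||| 2 ^ x)) && cl.contains e.2.2.2 &&
        symOK12 Fm K (s ||| 2 ^ x) e.2.1 e.2.2.1 e.2.2.2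

theorem exists_eq_insert {b s : Finset P12} (h6 : b.card = 6) (h5 : s.card = 5) (hsb : s ⊆ b) :
    ∃ a, a ∉ s ∧ b = insert a s := by
  have h1 : (b \ s).card = 1 := by
    rw [Finset.card_sdiff_of_subset hsb, h6, h5]
  rw [Finset.card_eq_one] at h1
  obtain ⟨a, ha⟩ := h1
  have ha' : a ∈ b \ s := by rw [ha]; exact Finset.mem_singleton_self a
  rw [Finset.mem_sdiff] at ha'
  refine ⟨a, ha'.2, ?_⟩
  ext p
  rw [Finset.mem_insert]
  constructor
  · intro hp
    by_cases hps : p ∈ s
    · exact Or.inr hps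
    · left
      have : p ∈ b \ s := Finset.mem_sdiff.2 ⟨hp, hps⟩
      rw [ha, Finset.mem_singleton] at this
      exact this
  · rintro (rfl | hp)
    · exact ha'.1
    · exact hsb hp

theorem goal12_of_branch {M : List ℕ} {Fm : ℕ} {K : List ℕ} {s : ℕ} {cl : List ℕ}
    {syms : List (ℕ × List ℕ × List ℕ × ℕ)} (hKlt : ∀ m ∈ K, m < 2 ^ 12)
    (h5 : popcnt 12 s = 5) (hslt : s < 2 ^ 12) (hFs : Fm &&& s = Fm)
    (hcov : coverOK12 Fm K s cl syms = true) (hcl : ∀ c ∈ cl, Goal12 M Fm (c :: K)) :
    Goal12 M Fm K := by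
  intro B hB hK
  have hs5 : (set12 s).card = 5 := by rw [card_set12, h5]
  obtain ⟨b, hb, hsb⟩ := hB.cover (set12 s) hs5 (set12_subset_of_and_eq hFs)
  obtain ⟨a, has, hba⟩ := exists_eq_insert (hB.card6 b hb) hs5 hsb
  set x := idx12 a with hx
  have hx12 : x < 12 := idx12_lt a
  have hbx : b = set12 (s ||| 2 ^ x) := by
    rw [set12_or_pow s x hx12, hx, pt12_idx12]
    exact hba
  have hsx : s.testBit x = false := by
    rw [mem_set12] at has
    simpa using has
  have hclt : s ||| 2 ^ x < 2 ^ 12 :=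
    Nat.or_lt_two_pow hslt (Nat.pow_lt_pow_right (by norm_num) hx12)
  have hcB : set12 (s ||| 2 ^ x) ∈ B := by rw [← hbx]; exact hb
  have hcomp : compat12 K (s ||| 2 ^ x) = true := compat12_of hB hK hKlt hcB hclt
  have hK' : ∀ m ∈ (s ||| 2 ^ x) :: K, set12 m ∈ B := by
    intro m hm
    rw [List.mem_cons] at hm
    rcases hm with rfl | hm
    · exact hcB
    · exact hK m hm
  unfold coverOK12 at hcov
  rw [List.all_eq_true] at hcov
  have := hcov x (List.mem_range.2 hx12)
  rw [hsx, hcomp] at this
  simp only [Bool.false_or, Bool.not_true, Bool.or_eq_true, List.contains_iff_mem,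
    List.any_eq_true, Bool.and_eq_true, beq_iff_eq] at this
  rcases this with h | ⟨e, -, ⟨-, hci⟩, hsym⟩
  · exact hcl _ h B hB hK'
  · exact goal12_of_sym hsym (hcl _ hci) B hB hK'

/-! ### chains of forced steps -/

/-- a chain of forced steps `(s, c)`: `c` is the only compatible block through the 5-set `s` -/
def chainOK12 (Fm : ℕ) : List ℕ → List (ℕ × ℕ) → Bool
  | _, [] => true
  | K, e :: rest =>
    (popcnt 12 e.1 == 5) && decide (e.1 < 2 ^ 12) && (Fm &&& e.1 == Fm) && decide (e.2 < 2 ^ 12) &&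
      coverOK12 Fm K e.1 [e.2] [] && chainOK12 Fm (e.2 :: K) rest

/-- the known blocks after a chain -/
def chainEnd : List ℕ → List (ℕ × ℕ) → List ℕ
  | K, [] => K
  | K, e :: rest => chainEnd (e.2 :: K) rest

theorem goal12_of_chain {M : List ℕ} {Fm : ℕ} :
    ∀ (steps : List (ℕ × ℕ)) (K : List ℕ), (∀ m ∈ K, m < 2 ^ 12) → chainOK12 Fm K steps = true →
      Goal12 M Fm (chainEnd K steps) → Goal12 M Fm K := by
  intro steps
  induction steps with
  | nil => intro K _ _ h; exact h
  | cons e rest ih =>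
    intro K hKlt h hfin
    rw [chainOK12] at h
    simp only [Bool.and_eq_true, beq_iff_eq, decide_eq_true_eq] at h
    obtain ⟨⟨⟨⟨⟨h5, hslt⟩, hFs⟩, hclt⟩, hcov⟩, hrest⟩ := h
    apply goal12_of_branch hKlt h5 hslt hFs hcov
    intro c hc
    rw [List.mem_singleton] at hc
    subst hc
    apply ih (e.2 :: K) _ hrest hfin
    intro m hm
    rw [List.mem_cons] at hm
    rcases hm with rfl | hm
    · exact hclt
    · exact hKlt m hm

end Cfsg.Agent.Helper92
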