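import Cfsg.Agent.Helper92.Steiner22Lin
import Cfsg.Agent.S0378
import Cfsg.Agent.S0379

/-!
# The model `B22` of `S(3,6,22)` (octads through `∞` and `0`) and its automorphism group:
order 887040, 3-transitive, with the two-point stabiliser of `M24` as a subgroup of index 2
-/

set_option autoImplicit false

namespace Cfsg.Agent.Helper92

open Cfsg Cfsg.Agent.Helper7
open scoped Pointwise


/-- the 22 points other than `∞`, `0` -/
abbrev P22 : Type := {p : GolayPt // p ∉ F22}

theorem card_P22 : Fintype.card P22 = 22 := by decide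

/-- extension of a set of the 22 points by `∞`, `0` -/
def ext22 (b : Finset P22) : Finset GolayPt := F22 ∪ b.map (Function.Embedding.subtype _)

theorem F22_subset_ext22 (b : Finset P22) : F22 ⊆ ext22 b := Finset.subset_union_left

theorem mem_ext22 {b : Finset P22} {p : GolayPt} :
    p ∈ ext22 b ↔ p ∈ F22 ∨ ∃ h : p ∉ F22, (⟨p, h⟩ : P22) ∈ b := by
  rw [ext22, Finset.mem_union, Finset.mem_map]
  constructor
  · rintro (h | ⟨x, hx, rfl⟩)
    · exact Or.inl h
    · exact Or.inr ⟨x.2, hx⟩
  · rintro (h | ⟨h, hx⟩)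
    · exact Or.inl h
    · exact Or.inr ⟨⟨p, h⟩, hx, rfl⟩

theorem coe_mem_ext22 {b : Finset P22} {x : P22} : (x : GolayPt) ∈ ext22 b ↔ x ∈ b := by
  rw [mem_ext22]
  constructor
  · rintro (h | ⟨_, hx⟩)
    · exact absurd h x.2
    · exact hx
  · intro hx
    exact Or.inr ⟨x.2, hx⟩

theorem card_ext22 (b : Finset P22) : (ext22 b).card = b.card + 2 := by
  have hd : Disjoint F22 (b.map (Function.Embedding.subtype _)) := by
    rw [Finset.disjoint_left]
    intro p hp hp'
    rw [Finset.mem_map] at hp'
    obtain ⟨x, _, rfl⟩ := hp'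
    exact x.2 hp
  have h2 : F22.card = 2 := by decide
  rw [ext22, Finset.card_union_of_disjoint hd, Finset.card_map, h2, add_comm]

theorem subtype_ext22 (b : Finset P22) : (ext22 b).subtype (fun p => p ∉ F22) = b := by
  ext x
  rw [Finset.mem_subtype, coe_mem_ext22]

theorem ext22_subtype {o : Finset GolayPt} (h : F22 ⊆ o) :
    ext22 (o.subtype (fun p => p ∉ F22)) = o := by
  ext p
  rw [mem_ext22]
  constructor
  · rintro (hp | ⟨_, hp⟩)
    · exact h hp
    · rwa [Finset.mem_subtype] at hp
  · intro hp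
    by_cases hF : p ∈ F22
    · exact Or.inl hF
    · exact Or.inr ⟨hF, by rwa [Finset.mem_subtype]⟩

theorem ext22_injective : Function.Injective ext22 := by
  intro b c h
  rw [← subtype_ext22 b, h, subtype_ext22]

theorem ext22_mono {b c : Finset P22} (h : b ⊆ c) : ext22 b ⊆ ext22 c := by
  intro p hp
  rw [mem_ext22] at hp ⊢
  rcases hp with hp | ⟨hF, hp⟩
  · exact Or.inl hp
  · exact Or.inr ⟨hF, h hp⟩

/-- the model of `S(3,6,22)`: the octads through `∞` and `0`, with these two points removed -/
def B22 : Set (Finset P22) := {b | ext22 b ∈ octads}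

theorem image_ext22_B22 : ext22 '' B22 = target F22 := by
  ext o
  constructor
  · rintro ⟨b, hb, rfl⟩
    exact ⟨hb, F22_subset_ext22 b⟩
  · rintro ⟨ho, hF⟩
    refine ⟨o.subtype _, ?_, ext22_subtype hF⟩
    show ext22 _ ∈ octads
    rw [ext22_subtype hF]
    exact ho

theorem B22_steiner : IsSteinerSystem 3 6 B22 := by
  refine ⟨?_, ?_⟩
  · intro b hb
    have := ((Cfsg.Agent.Helper27.mem_octads_iff _).1 hb).2
    rw [card_ext22] at this
    omega
  · intro s hs
    have h5 : (ext22 s).card = 5 := by rw [card_ext22, hs]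
    obtain ⟨o, ⟨ho, hso⟩, huniq⟩ := Cfsg.Agent.Helper27.octads_steiner.2 _ h5
    have hF : F22 ⊆ o := (F22_subset_ext22 s).trans hso
    refine ⟨o.subtype _, ⟨?_, ?_⟩, ?_⟩
    · show ext22 _ ∈ octads
      rw [ext22_subtype hF]
      exact ho
    · intro x hx
      rw [Finset.mem_subtype]
      exact hso (coe_mem_ext22.2 hx)
    · rintro b ⟨hb, hsb⟩
      have : ext22 b = o := huniq _ ⟨hb, ext22_mono hsb⟩
      rw [← this, subtype_ext22]

theorem image_ext22 (π : Equiv.Perm P22) (b : Finset P22) :
    (ext22 b).image (Equiv.Perm.ofSubtype π) = ext22 (b.image π) := by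
  ext p
  rw [Finset.mem_image]
  constructor
  · rintro ⟨q, hq, rfl⟩
    rw [mem_ext22] at hq
    rcases hq with hq | ⟨hF, hq⟩
    · rw [Equiv.Perm.ofSubtype_apply_of_not_mem π (by simpa using hq)]
      exact F22_subset_ext22 _ hq
    · have : Equiv.Perm.ofSubtype π q = (π ⟨q, hF⟩ : GolayPt) :=
        Equiv.Perm.ofSubtype_apply_of_mem π hF
      rw [this, coe_mem_ext22]
      exact Finset.mem_image_of_mem _ hq
  · intro hp
    rw [mem_ext22] at hp
    rcases hp with hp | ⟨hF, hp⟩
    · refine ⟨p, F22_subset_ext22 _ hp, ?_⟩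
      exact Equiv.Perm.ofSubtype_apply_of_not_mem π (by simpa using hp)
    · rw [Finset.mem_image] at hp
      obtain ⟨x, hx, hxp⟩ := hp
      refine ⟨x, coe_mem_ext22.2 hx, ?_⟩
      rw [Equiv.Perm.ofSubtype_apply_coe, hxp]

theorem relab_image_ext22 (π : Equiv.Perm P22) (B : Set (Finset P22)) :
    relab (Equiv.Perm.ofSubtype π) (ext22 '' B) = ext22 '' (mapSys π B) := by
  ext o
  simp only [relab, mapSys, Set.mem_image]
  constructor
  · rintro ⟨_, ⟨b, hb, rfl⟩, rfl⟩
    exact ⟨_, ⟨b, hb, rfl⟩, (image_ext22 π b).symm⟩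
  · rintro ⟨_, ⟨b, hb, rfl⟩, rfl⟩
    exact ⟨_, ⟨b, hb, rfl⟩, image_ext22 π b⟩

theorem mem_setSystemAut_B22_iff (π : Equiv.Perm P22) :
    π ∈ setSystemAut B22 ↔
      relab (Equiv.Perm.ofSubtype π) (target F22) = target F22 := by
  rw [mem_setSystemAut_iff_mapSys, ← image_ext22_B22, relab_image_ext22]
  constructor
  · intro h
    rw [h]
  · intro h
    exact (Set.image_injective.2 ext22_injective) h



/-! ### permutations preserving the pair `{∞, 0}` -/

theorem mem_F22 {p : GolayPt} : p ∈ F22 ↔ p = none ∨ p = some 0 := by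
  rw [F22, Finset.mem_insert, Finset.mem_singleton]

theorem pres_F22_of_fix {g : Equiv.Perm GolayPt} (h1 : g none = none) (h0 : g (some 0) = some 0)
    (p : GolayPt) : g p ∈ F22 ↔ p ∈ F22 := by
  rw [mem_F22, mem_F22]
  constructor
  · rintro (h | h)
    · left
      rw [← h1] at h
      exact g.injective h
    · right
      rw [← h0] at h
      exact g.injective h
  · rintro (rfl | rfl)
    · exact Or.inl h1
    · exact Or.inr h0

/-- restriction to the 22 points -/
def res22 (g : Equiv.Perm GolayPt) (hF : ∀ p, g p ∈ F22 ↔ p ∈ F22) : Equiv.Perm P22 :=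
  g.subtypePerm fun p => not_congr (hF p)

theorem ofSubtype_res22_of_fix {g : Equiv.Perm GolayPt} (h1 : g none = none)
    (h0 : g (some 0) = some 0) :
    Equiv.Perm.ofSubtype (res22 g (pres_F22_of_fix h1 h0)) = g := by
  apply Equiv.Perm.ofSubtype_subtypePerm
  intro x hx hxF
  rw [mem_F22] at hxF
  rcases hxF with rfl | rfl
  · exact hx h1
  · exact hx h0

theorem ofSubtype_none (π : Equiv.Perm P22) : Equiv.Perm.ofSubtype π none = none :=
  Equiv.Perm.ofSubtype_apply_of_not_mem π (by simp [F22])

theorem ofSubtype_zero (π : Equiv.Perm P22) : Equiv.Perm.ofSubtype π (some 0) = some 0 :=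
  Equiv.Perm.ofSubtype_apply_of_not_mem π (by simp [F22])

theorem relab_target_of_image_eq {F : Finset GolayPt} {g : Equiv.Perm GolayPt} (hg : g ∈ M24)
    (hF : F.image g = F) : relab g (target F) = target F := by
  have key : ∀ k : Equiv.Perm GolayPt, k ∈ M24 → F.image k = F →
      ∀ o ∈ target F, o.image k ∈ target F := by
    intro k hk hkF o ho
    refine ⟨smul_mem_octads hk ho.1, ?_⟩
    rw [← hkF]
    exact Finset.image_subset_image ho.2
  apply Set.Subset.antisymm
  · rintro _ ⟨o, ho, rfl⟩
    exact key g hg hF o ho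
  · intro o ho
    have hinv : F.image (g⁻¹ : Equiv.Perm GolayPt) = F := by
      conv_lhs => rw [← hF]
      rw [Finset.image_image]
      ext p
      simp
    refine ⟨o.image (g⁻¹ : Equiv.Perm GolayPt), key g⁻¹ (M24.inv_mem hg) hinv o ho, ?_⟩
    simp only
    rw [Finset.image_image]
    ext p
    simp

theorem image_F22_of_fix {g : Equiv.Perm GolayPt} (h1 : g none = none)
    (h0 : g (some 0) = some 0) : F22.image g = F22 := by
  rw [F22, Finset.image_insert, Finset.image_singleton, h1, h0]

theorem image_swap22 {o : Finset GolayPt} (h : F22 ⊆ o) : o.image swap22 = o := by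
  have hn : none ∈ o := h (by simp [F22])
  have hz : some 0 ∈ o := h (by simp [F22])
  ext p
  rw [Finset.mem_image]
  constructor
  · rintro ⟨q, hq, rfl⟩
    rw [swap22]
    by_cases h1 : q = none
    · subst h1
      rwa [Equiv.swap_apply_left]
    · by_cases h2 : q = some 0
      · subst h2
        rwa [Equiv.swap_apply_right]
      · rwa [Equiv.swap_apply_of_ne_of_ne h1 h2]
  · intro hp
    rw [swap22]
    by_cases h1 : p = none
    · subst h1
      exact ⟨some 0, hz, Equiv.swap_apply_right _ _⟩
    · by_cases h2 : p = some 0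
      · subst h2
        exact ⟨none, hn, Equiv.swap_apply_left _ _⟩
      · exact ⟨p, hp, Equiv.swap_apply_of_ne_of_ne h1 h2⟩

theorem relab_swap22_target : relab swap22 (target F22) = target F22 := by
  ext o
  constructor
  · rintro ⟨o', ho', rfl⟩
    simp only
    rw [image_swap22 ho'.2]
    exact ho'
  · intro ho
    exact ⟨o, ho, image_swap22 ho.2⟩

theorem swap22_not_mem : swap22 ∉ M24 := by
  intro h
  have h1 := permL_mem_of_mem_M24 h word_m22one_mem
  rw [permL_swap22_eq_add word_m22one_none word_m22one_zero] at h1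
  have h2 : d22 ∈ golayCode := by
    have := golayCode.sub_mem h1 word_m22one_mem
    rwa [add_sub_cancel_left] at this
  have h3 := Cfsg.Agent.Helper8.golay_dot_eq_zero h2 word_m22one_mem
  rw [d22_dot, word_m22one_none, word_m22one_zero] at h3
  exact absurd h3 (by decide)

/-! ### the automorphism group of the model -/

/-- extension of automorphisms to the 24 points -/
def ext22Hom : setSystemAut B22 →* Equiv.Perm GolayPt :=
  (Equiv.Perm.ofSubtype).comp (Subgroup.subtype _)

theorem ext22Hom_apply (π : setSystemAut B22) : ext22Hom π = Equiv.Perm.ofSubtype π.1 := rfl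

/-- the automorphisms that extend to elements of `M24` fixing `∞` and `0` -/
def H22 : Subgroup (setSystemAut B22) := M24.comap ext22Hom

theorem mem_H22_iff (π : setSystemAut B22) : π ∈ H22 ↔ Equiv.Perm.ofSubtype π.1 ∈ M24 := Iff.rfl

theorem res22_mem_aut {g : Equiv.Perm GolayPt} (hg : g ∈ M24) (h1 : g none = none)
    (h0 : g (some 0) = some 0) : res22 g (pres_F22_of_fix h1 h0) ∈ setSystemAut B22 := by
  rw [mem_setSystemAut_B22_iff, ofSubtype_res22_of_fix h1 h0]
  exact relab_target_of_image_eq hg (image_F22_of_fix h1 h0)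

theorem mem_or_of_aut (π : setSystemAut B22) :
    Equiv.Perm.ofSubtype π.1 ∈ M24 ∨ swap22 * Equiv.Perm.ofSubtype π.1 ∈ M24 :=
  mem_M24_or_of_relab_target22 (ofSubtype_none _) (ofSubtype_zero _)
    ((mem_setSystemAut_B22_iff π.1).1 π.2)

theorem not_both_of_aut (π : setSystemAut B22) (h : Equiv.Perm.ofSubtype π.1 ∈ M24)
    (h' : swap22 * Equiv.Perm.ofSubtype π.1 ∈ M24) : False := by
  apply swap22_not_mem
  have := M24.mul_mem h' (M24.inv_mem h)
  rwa [mul_inv_cancel_right] at this

theorem projInv_pres_F22 : ∀ p : GolayPt, projInv p ∈ F22 ↔ p ∈ F22 := by decide +kernel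

theorem ofSubtype_res22_projInv :
    Equiv.Perm.ofSubtype (res22 projInv projInv_pres_F22) = swap22 * projInv := by
  ext p : 1
  by_cases hp : p ∈ F22
  · rw [Equiv.Perm.ofSubtype_apply_of_not_mem _ (by simpa using hp), Equiv.Perm.mul_apply]
    rw [mem_F22] at hp
    rcases hp with rfl | rfl
    · have : projInv none = some 0 := rfl
      rw [this, swap22, Equiv.swap_apply_right]
    · have : projInv (some 0) = none := by decide
      rw [this, swap22, Equiv.swap_apply_left]
  · have h3 : Equiv.Perm.ofSubtype (res22 projInv projInv_pres_F22) p = projInv p :=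
      Equiv.Perm.ofSubtype_apply_of_mem (res22 projInv projInv_pres_F22) hp
    rw [h3, Equiv.Perm.mul_apply]
    have h2 : projInv p ∉ F22 := fun h => hp ((projInv_pres_F22 p).1 h)
    rw [mem_F22, not_or] at h2
    rw [swap22, Equiv.swap_apply_of_ne_of_ne h2.1 h2.2]

theorem res22_projInv_mem : res22 projInv projInv_pres_F22 ∈ setSystemAut B22 := by
  rw [mem_setSystemAut_B22_iff, ofSubtype_res22_projInv, relab_mul]
  have h1 : F22.image projInv = F22 := by decide +kernel
  rw [relab_target_of_image_eq projInv_mem_M24 h1, relab_swap22_target]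

theorem H22_index : H22.index = 2 := by
  rw [Subgroup.index_eq_two_iff]
  refine ⟨⟨_, res22_projInv_mem⟩, fun b => ?_⟩
  have hcomm : Equiv.Perm.ofSubtype b.1 * swap22 = swap22 * Equiv.Perm.ofSubtype b.1 := by
    rw [swap22, Equiv.mul_swap_eq_swap_mul, ofSubtype_none, ofSubtype_zero]
  have hba : (b * ⟨_, res22_projInv_mem⟩ ∈ H22) ↔ swap22 * Equiv.Perm.ofSubtype b.1 ∈ M24 := by
    rw [mem_H22_iff]
    have : Equiv.Perm.ofSubtype (b * ⟨_, res22_projInv_mem⟩ : setSystemAut B22).1 =
        Equiv.Perm.ofSubtype b.1 * (swap22 * projInv) := by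
      rw [← ofSubtype_res22_projInv, ← map_mul]
      rfl
    rw [this, ← mul_assoc, hcomm]
    exact Subgroup.mul_mem_cancel_right M24 projInv_mem_M24
  rw [hba, mem_H22_iff]
  rcases mem_or_of_aut b with h | h
  · exact Or.inr ⟨h, fun h' => not_both_of_aut b h h'⟩
  · exact Or.inl ⟨h, fun h' => not_both_of_aut b h' h⟩

/-- the two-point stabiliser of `M24` -/
abbrev Stab22 : Subgroup M24 :=
  MulAction.stabilizer M24 (none : GolayPt) ⊓ MulAction.stabilizer M24 (some 0 : GolayPt)

theorem mem_Stab22 (g : M24) : g ∈ Stab22 ↔ g.1 none = none ∧ g.1 (some 0) = some 0 := by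
  rw [Subgroup.mem_inf, MulAction.mem_stabilizer_iff, MulAction.mem_stabilizer_iff]
  rfl

/-- `H22` is the two-point stabiliser -/
def H22Hom : H22 →* Stab22 where
  toFun π := ⟨⟨Equiv.Perm.ofSubtype π.1.1, π.2⟩, (mem_Stab22 _).2
    ⟨ofSubtype_none _, ofSubtype_zero _⟩⟩
  map_one' := by
    apply Subtype.ext
    apply Subtype.ext
    exact map_one Equiv.Perm.ofSubtype
  map_mul' π π' := by
    apply Subtype.ext
    apply Subtype.ext
    exact map_mul Equiv.Perm.ofSubtype π.1.1 π'.1.1

theorem H22Hom_bijective : Function.Bijective H22Hom := by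
  constructor
  · intro π π' h
    have h1 : Equiv.Perm.ofSubtype π.1.1 = Equiv.Perm.ofSubtype π'.1.1 :=
      congrArg (fun z : Stab22 => (z.1.1 : Equiv.Perm GolayPt)) h
    exact Subtype.ext (Subtype.ext (Equiv.Perm.ofSubtype_injective h1))
  · intro g
    obtain ⟨h1, h0⟩ := (mem_Stab22 g.1).1 g.2
    have hof := ofSubtype_res22_of_fix h1 h0
    refine ⟨⟨⟨_, res22_mem_aut g.1.2 h1 h0⟩, ?_⟩, ?_⟩
    · rw [mem_H22_iff, hof]
      exact g.1.2
    · apply Subtype.ext
      apply Subtype.ext
      exact hof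

noncomputable def H22Equiv : H22 ≃* Stab22 := MulEquiv.ofBijective H22Hom H22Hom_bijective

theorem isM22_H22 : IsM22 H22 := by
  constructor
  · have := Cfsg.Agent.S0379.result none (some 0) (by simp)
    exact H22Equiv.isSimpleGroup
  · rw [Nat.card_congr H22Equiv.toEquiv]
    exact Cfsg.Agent.S0378.result none (some 0) (by simp)

theorem card_aut_B22 : Nat.card (setSystemAut B22) = 887040 := by
  rw [← Subgroup.index_mul_card H22, H22_index, isM22_H22.2]

theorem b22_three_transitive :
    MulAction.IsMultiplyPretransitive (setSystemAut B22) P22 3 := by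
  constructor
  intro x y
  have hinj : ∀ z : Fin 3 ↪ P22, Function.Injective
      (Fin.cons (none : GolayPt) (Fin.cons (some 0) (fun i => (z i : GolayPt))) :
        Fin 5 → GolayPt) := by
    intro z
    rw [Fin.cons_injective_iff, Fin.cons_injective_iff]
    refine ⟨?_, ?_, fun i j h => z.injective (Subtype.ext h)⟩
    · rintro ⟨i, hi⟩
      refine Fin.cases ?_ (fun j => ?_) i hi
      · intro h
        simp at h
      · intro h
        rw [Fin.cons_succ] at h
        exact (z j).2 (by rw [h]; simp [F22])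
    · rintro ⟨j, hj⟩
      have hj' : (z j : GolayPt) = some 0 := hj
      exact (z j).2 (by rw [hj']; simp [F22])
  obtain ⟨g, hg⟩ := m24_five_transitive.exists_smul_eq ⟨_, hinj x⟩ ⟨_, hinj y⟩
  have h1 : g.1 none = none := DFunLike.congr_fun hg 0
  have h0 : g.1 (some 0) = some 0 := DFunLike.congr_fun hg 1
  have hs : ∀ i : Fin 3, g.1 (x i) = y i := fun i => DFunLike.congr_fun hg i.succ.succ
  refine ⟨⟨_, res22_mem_aut g.2 h1 h0⟩, ?_⟩
  apply Function.Embedding.ext
  intro i
  apply Subtype.ext
  exact hs i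

end Cfsg.Agent.Helper92
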