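import Cfsg.Agent.Helper92.Steiner23Aut

/-!
# A permutation fixing `∞` and `0` and preserving the octads through both lies in `M24`, possibly
after interchanging the two points
-/

set_option autoImplicit false

namespace Cfsg.Agent.Helper92

open Cfsg Cfsg.Agent.Helper7
open scoped Pointwise


/-! ### the two fixed points, the transposition -/

/-- the two points `∞`, `0` -/
def F22 : Finset GolayPt := {none, some 0}

/-- the transposition of `∞` and `0` -/
def swap22 : Equiv.Perm GolayPt := Equiv.swap none (some 0)

/-- the code words of weight 8 through `∞` and `0` -/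
def octW22 : Set V :=
  {w | w ∈ golayCode ∧ (support₂ w).card = 8 ∧ w none = 1 ∧ w (some 0) = 1}

/-- an octad through `∞` and not `0` -/
def m22one : ℕ := 10305542

/-- for each of the 24 generating words, octads through `∞`, `0`, and possibly `m22one`,
whose sum it is -/
def octCerts22 : List (List ℕ) := [[9347075, 11575377, 11731203, 13771273, 13062145, 10305542], [11100169, 12656663, 10846245, 14254209, 13771273, 13370381], [9347075, 10846245, 11575377, 11731203, 13370381, 15747077], [10846245, 11575377, 14254209, 13771273, 15747077, 13062145], [9347075, 11100169, 10846245, 11575377, 14254209, 11731203, 13370381, 13062145], [9347075, 11100169, 12656663, 10846245, 11575377, 14254209, 11731203, 13771273, 15747077, 10305542], [9347075, 12656663, 11575377, 14254209, 11731203, 13771273, 13370381, 13062145], [14254209, 11731203, 13771273, 13370381, 15747077, 10305542], [11100169, 11731203, 13771273, 13370381, 15747077, 13062145], [9347075, 12656663, 13771273, 13370381, 15747077, 13062145], [9347075, 10846245, 13370381, 15747077, 13062145, 10305542], [11575377, 15747077, 13062145,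 10305542], [9347075, 10846245, 14254209, 13062145], [11100169, 12656663, 11575377, 11731203], [12656663, 14254209, 13771273, 10305542], [11100169, 12656663, 10846245, 11731203, 13370381, 10305542], [11100169, 12656663, 10846245, 11575377, 13771273, 15747077], [12656663, 11575377, 14254209, 13370381, 13062145, 10305542], [9347075, 11100169, 12656663, 14254209, 11731203, 15747077], [9347075, 11100169, 12656663, 10846245, 11731203, 13771273, 13062145, 10305542], [9347075, 11100169, 12656663, 10846245, 11575377, 13771273, 13370381, 10305542], [11100169, 11575377, 14254209, 13370381, 15747077, 10305542], [9347075, 11100169, 10846245, 14254209, 11731203, 15747077, 13062145, 10305542], [11100169, 10846245, 11575377, 14254209, 11731203, 13771273, 13370381, 15747077, 13062145]]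

/-- a mask is `m22one` or an octad through `∞` and `0` -/
def isOctadMask22 (o : ℕ) : Bool :=
  Nat.beq o m22one || (isOctadMask o && o.testBit 23 && o.testBit 0)

theorem word_m22one_mem : word m22one ∈ golayCode := (word_mem_octW (o := m22one) (by decide +kernel)).1

theorem word_m22one_none : word m22one none = 1 := by
  rw [word_apply]
  have : idx none = 23 := rfl
  rw [this]
  have : m22one.testBit 23 = true := by decide
  rw [this]
  rfl

theorem word_m22one_zero : word m22one (some 0) = 0 := by
  rw [word_apply]
  have : idx (some 0) = 0 := rfl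
  rw [this]
  have : m22one.testBit 0 = false := by decide
  rw [this]
  rfl

theorem word_mem_octW22 {o : ℕ} (h : isOctadMask22 o = true) :
    word o ∈ insert (word m22one) octW22 := by
  rw [isOctadMask22, Bool.or_eq_true] at h
  rcases h with h | h
  · left
    rw [Nat.eq_of_beq_eq_true h]
  · right
    rw [Bool.and_eq_true, Bool.and_eq_true] at h
    obtain ⟨h1, h2⟩ := word_mem_octW h.1.1
    refine ⟨h1, h2, ?_, ?_⟩
    · rw [word_apply]
      have : idx none = 23 := rfl
      rw [this, h.1.2]
      rfl
    · rw [word_apply]
      have : idx (some 0) = 0 := rfl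
      rw [this, h.2]
      rfl

theorem octCerts22_ok : (gmasks.zip octCerts22).all (fun xo =>
    xo.2.all isOctadMask22 && Nat.beq (xo.2.foldr (· ^^^ ·) 0) xo.1) = true := by decide +kernel

theorem octCerts22_len : octCerts22.length = gmasks.length := by decide

theorem word_gmask_mem_span22 :
    ∀ x ∈ gmasks, word x ∈ Submodule.span (ZMod 2) (insert (word m22one) octW22) := by
  intro x hx
  obtain ⟨i, hi, rfl⟩ := List.getElem_of_mem hx
  have hi' : i < octCerts22.length := by rw [octCerts22_len]; exact hi
  have hlen : i < (gmasks.zip octCerts22).length := by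
    rw [List.length_zip]
    exact lt_min hi hi'
  have hmem : (gmasks.zip octCerts22)[i]'hlen ∈ gmasks.zip octCerts22 := List.getElem_mem _
  rw [List.getElem_zip] at hmem
  have hok := octCerts22_ok
  rw [List.all_eq_true] at hok
  have h1 := hok _ hmem
  simp only [Bool.and_eq_true, List.all_eq_true] at h1
  obtain ⟨h2, h3⟩ := h1
  rw [← Nat.eq_of_beq_eq_true h3]
  apply word_foldr_xor_mem
  intro o ho
  exact Submodule.subset_span (word_mem_octW22 (h2 o ho))

/-- the code is spanned by the octads through `∞` and `0` together with one more octad -/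
theorem golayCode_eq_span_octW22 :
    golayCode = Submodule.span (ZMod 2) (insert (word m22one) octW22) := by
  apply le_antisymm
  · rw [golayCode, Submodule.span_le]
    rintro w (⟨t, rfl⟩ | hw)
    · rw [Cfsg.Agent.Helper7.qrWord_eq]
      apply word_gmask_mem_span22
      rw [gmasks, List.mem_append]
      left
      have ht : ZMod.val t < 23 := ZMod.val_lt t
      rw [List.getD_eq_getElem _ _ (by exact ht)]
      exact List.getElem_mem _
    · rw [Set.mem_singleton_iff] at hw
      subst hw
      rw [← word_all]
      apply word_gmask_mem_span22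
      simp [gmasks]
  · rw [Submodule.span_le]
    rintro w (rfl | hw)
    · exact word_m22one_mem
    · exact hw.1

/-! ### dot products -/

theorem permL_dot_permL (g : Equiv.Perm GolayPt) (v w : V) :
    permL g v ⬝ᵥ permL g w = v ⬝ᵥ w := by
  unfold dotProduct
  exact Equiv.sum_comp g.symm (fun p => v p * w p)

theorem permL_mul_apply (g h : Equiv.Perm GolayPt) (w : V) :
    permL (g * h) w = permL g (permL h w) := rfl

theorem permL_inv_cancel (g : Equiv.Perm GolayPt) (w : V) : permL g (permL g⁻¹ w) = w := by
  rw [← permL_mul_apply, mul_inv_cancel]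
  rfl

theorem dot_eq_zero_of_mem_span {S : Set V} {v : V} (h : ∀ x ∈ S, v ⬝ᵥ x = 0) {y : V}
    (hy : y ∈ Submodule.span (ZMod 2) S) : v ⬝ᵥ y = 0 := by
  induction hy using Submodule.span_induction with
  | mem x hx => exact h x hx
  | zero => exact dotProduct_zero v
  | add x y _ _ hx hy => rw [dotProduct_add, hx, hy, add_zero]
  | smul a x _ hx => rw [dotProduct_smul, hx, smul_zero]

/-- self-duality: a word orthogonal to the code lies in the code -/
theorem mem_golayCode_of_dot (v : V) (h : ∀ c ∈ golayCode, v ⬝ᵥ c = 0) : v ∈ golayCode :=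
  mem_golayCode_of_dot_gBasis v fun r hr => h _ (Cfsg.Agent.Helper27.wordOf_gBasis_mem r hr)



theorem relab_one (T : Set (Finset GolayPt)) : relab 1 T = T := by
  ext b
  simp [relab]

theorem relab_inv {g : Equiv.Perm GolayPt} {T : Set (Finset GolayPt)} (h : relab g T = T) :
    relab g⁻¹ T = T := by
  conv_lhs => rw [← h]
  rw [← relab_mul, inv_mul_cancel, relab_one]

theorem support₂_mem_target22 {w : V} (hw : w ∈ octW22) : support₂ w ∈ target F22 := by
  obtain ⟨h1, h2, h3, h4⟩ := hw
  refine ⟨(Cfsg.Agent.Helper7.mem_octads_iff _).mpr ⟨w, h1, rfl, h2⟩, ?_⟩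
  intro p hp
  rw [F22, Finset.mem_insert, Finset.mem_singleton] at hp
  rw [mem_support₂']
  rcases hp with rfl | rfl
  · exact h3
  · exact h4

theorem mem_octW22_of_support₂ {w : V} (h : support₂ w ∈ target F22) : w ∈ octW22 := by
  obtain ⟨h1, h2⟩ := h
  rw [Cfsg.Agent.Helper7.mem_octads_iff] at h1
  obtain ⟨w', hw', hs, h8⟩ := h1
  have := Cfsg.Agent.Helper7.support₂_injective hs
  subst this
  refine ⟨hw', h8, ?_, ?_⟩
  · rw [← mem_support₂']
    exact h2 (by simp [F22])
  · rw [← mem_support₂']
    exact h2 (by simp [F22])

theorem permL_mem_octW22 {g : Equiv.Perm GolayPt} (h : relab g (target F22) = target F22) {w : V}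
    (hw : w ∈ octW22) : permL g w ∈ octW22 := by
  apply mem_octW22_of_support₂
  rw [← smul_support₂, ← image_eq_smul, ← h]
  exact ⟨_, support₂_mem_target22 hw, rfl⟩

theorem swap22_symm : swap22.symm = swap22 := Equiv.symm_swap _ _

theorem permL_swap22_of_eq {w : V} (h : w none = w (some 0)) : permL swap22 w = w := by
  funext p
  rw [permL_apply, swap22_symm, swap22]
  by_cases h1 : p = none
  · subst h1
    rw [Equiv.swap_apply_left, h]
  · by_cases h2 : p = some 0
    · subst h2
      rw [Equiv.swap_apply_right, h]
    · rw [Equiv.swap_apply_of_ne_of_ne h1 h2]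

/-- the word of weight 2 on `∞`, `0` -/
def d22 : V := Pi.single none 1 + Pi.single (some 0) 1

theorem d22_dot (x : V) : d22 ⬝ᵥ x = x none + x (some 0) := by
  rw [d22, add_dotProduct, single_dotProduct, single_dotProduct, one_mul, one_mul]

theorem permL_swap22_eq_add {v : V} (h1 : v none = 1) (h0 : v (some 0) = 0) :
    permL swap22 v = v + d22 := by
  funext p
  rw [permL_apply, swap22_symm, swap22, Pi.add_apply, d22, Pi.add_apply]
  by_cases hp1 : p = none
  · subst hp1
    rw [Equiv.swap_apply_left, h0, h1]
    simp
    decide
  · by_cases hp2 : p = some 0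
    · subst hp2
      rw [Equiv.swap_apply_right, h0, h1]
      simp
    · rw [Equiv.swap_apply_of_ne_of_ne hp1 hp2, Pi.single_eq_of_ne hp1, Pi.single_eq_of_ne hp2]
      simp

/-- a permutation fixing `∞` and `0` and preserving the octads through them lies in `M24`,
possibly after interchanging `∞` and `0` -/
theorem mem_M24_or_of_relab_target22 {g : Equiv.Perm GolayPt} (h1 : g none = none)
    (h0 : g (some 0) = some 0) (h : relab g (target F22) = target F22) :
    g ∈ M24 ∨ swap22 * g ∈ M24 := by
  set v := permL g (word m22one) with hv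
  have hs1 : g.symm none = none := by rw [Equiv.symm_apply_eq, h1]
  have hs0 : g.symm (some 0) = some 0 := by rw [Equiv.symm_apply_eq, h0]
  have hvn : v none = 1 := by rw [hv, permL_apply, hs1, word_m22one_none]
  have hv0 : v (some 0) = 0 := by rw [hv, permL_apply, hs0, word_m22one_zero]
  have hB : ∀ w ∈ octW22, permL g w ∈ octW22 := fun w hw => permL_mem_octW22 h hw
  have hBinv : ∀ w ∈ octW22, permL g⁻¹ w ∈ octW22 :=
    fun w hw => permL_mem_octW22 (relab_inv h) hw
  have hvw : ∀ w ∈ octW22, v ⬝ᵥ w = 0 := by
    intro w hw
    rw [← permL_inv_cancel g w, hv, permL_dot_permL]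
    exact Cfsg.Agent.Helper8.golay_dot_eq_zero word_m22one_mem (hBinv w hw).1
  have key : ∀ k : Equiv.Perm GolayPt, (∀ w ∈ octW22, permL k w ∈ golayCode) →
      permL k (word m22one) ∈ golayCode → k ∈ M24 := by
    intro k hk1 hk2
    rw [mem_M24_iff_le]
    nth_rewrite 1 [golayCode_eq_span_octW22]
    rw [Submodule.map_span, Submodule.span_le]
    rintro _ ⟨w, (rfl | hw), rfl⟩
    · exact hk2
    · exact hk1 w hw
  have ht : v ⬝ᵥ word m22one = 0 ∨ v ⬝ᵥ word m22one = 1 := by
    have : ∀ a : ZMod 2, a = 0 ∨ a = 1 := by decide
    exact this _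
  rcases ht with ht | ht
  · left
    apply key g (fun w hw => (hB w hw).1)
    apply mem_golayCode_of_dot
    intro c hc
    rw [golayCode_eq_span_octW22] at hc
    refine dot_eq_zero_of_mem_span ?_ hc
    rintro x (rfl | hx)
    · exact ht
    · exact hvw x hx
  · right
    have hv' : permL swap22 v = v + d22 := permL_swap22_eq_add hvn hv0
    apply key (swap22 * g)
    · intro w hw
      rw [permL_mul_apply, permL_swap22_of_eq]
      · exact (hB w hw).1
      · obtain ⟨_, _, hn, hz⟩ := hB w hw
        rw [hn, hz]
    · rw [permL_mul_apply, ← hv, hv']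
      apply mem_golayCode_of_dot
      intro c hc
      rw [golayCode_eq_span_octW22] at hc
      refine dot_eq_zero_of_mem_span ?_ hc
      rintro x (rfl | hx)
      · rw [add_dotProduct, ht, d22_dot, word_m22one_none, word_m22one_zero]
        decide
      · rw [add_dotProduct, hvw x hx, d22_dot, hx.2.2.1, hx.2.2.2]
        decide

end Cfsg.Agent.Helper92
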