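import Cfsg.Agent.Helper92.Steiner23Cert
import Cfsg.Agent.Helper92.SteinerIso
import Cfsg.Agent.S0355

/-!
# Uniqueness of the Steiner system `S(4,7,23)`: every such system is isomorphic to the model `B23`
(the octads through the point at infinity, with that point removed)
-/

set_option autoImplicit false

namespace Cfsg.Agent.Helper92

open Cfsg Cfsg.Agent.Helper27


/-- the mask of the point at infinity -/
theorem setOf_inf : setOf 8388608 = {none} := by
  ext p
  rw [mem_setOf, Finset.mem_singleton]
  cases p with
  | none =>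
    have : (8388608 : ℕ).testBit 23 = true := by decide
    simp [gIdx, this]
  | some x =>
    simp only [gIdx, reduceCtorEq, iff_false]
    have h : x.val < 23 := ZMod.val_lt x
    have : ∀ i < 23, (8388608 : ℕ).testBit i = false := by decide
    rw [this _ h]
    simp

/-- extension of a family of subsets of the 23 residues by the point at infinity -/
def ext23 (B : Set (Finset (ZMod 23))) : Set (Finset GolayPt) :=
  (fun b : Finset (ZMod 23) => Finset.insertNone b) '' B

theorem insertNone_injective : Function.Injective (fun b : Finset (ZMod 23) => Finset.insertNone b) :=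
  fun _ _ h => Finset.insertNone.injective h

theorem ext23_injective : Function.Injective ext23 := by
  intro B B' h
  unfold ext23 at h
  exact (Set.image_injective.2 insertNone_injective) h

theorem insertNone_inter (b c : Finset (ZMod 23)) :
    Finset.insertNone b ∩ Finset.insertNone c = Finset.insertNone (b ∩ c) := by
  ext p
  cases p with
  | none => simp
  | some x => simp

theorem extSys_ext23 {B : Set (Finset (ZMod 23))} (hB : IsSteinerSystem 4 7 B) :
    ExtSys {none} (ext23 B) := by
  have hcard : Fintype.card (ZMod 23) = 23 := ZMod.card 23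
  refine ⟨?_, ?_, ?_, ?_⟩
  · rintro _ ⟨b, hb, rfl⟩
    simp only
    rw [Finset.card_insertNone, hB.1 b hb]
  · rintro _ ⟨b, hb, rfl⟩
    simp
  · intro s hs hns
    have hn : none ∈ s := hns (Finset.mem_singleton_self _)
    have h4 : (Finset.eraseNone s).card = 4 := by
      rw [Finset.card_eraseNone_of_mem hn, hs]
    obtain ⟨b, ⟨hb, hsb⟩, -⟩ := hB.2 _ h4
    refine ⟨Finset.insertNone b, ⟨b, hb, rfl⟩, ?_⟩
    have h1 : s = insert none s := (Finset.insert_eq_of_mem hn).symm
    rw [h1, ← Finset.insertNone_eraseNone s]
    exact Finset.insertNone.monotone hsb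
  · rintro _ ⟨b, hb, rfl⟩ _ ⟨c, hc, rfl⟩ hne
    have hne' : b ≠ c := fun e => hne (by rw [e])
    simp only
    rw [insertNone_inter, Finset.card_insertNone]
    rcases Cfsg.Agent.S0355.result hcard hB hb hc hne' with h | h <;> rw [h] <;> simp



theorem mem_target_inf_of_mask {m : ℕ} (hm : m < 2 ^ 24) (h1 : isCode m = true ∧ popc 24 m = 8)
    (h2 : 8388608 &&& m = 8388608) : setOf m ∈ target {none} := by
  refine ⟨(setOf_mem_octads_iff hm).2 h1, ?_⟩
  rw [← setOf_inf]
  exact setOf_subset_of_and_eq h2

theorem fix_none_of_relab {B : Set (Finset (ZMod 23))} {σ : Equiv.Perm GolayPt}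
    (h : relab σ (ext23 B) = target {none}) : σ none = none := by
  have hall : ∀ o ∈ target {none}, σ none ∈ o := by
    intro o ho
    rw [← h] at ho
    obtain ⟨_, ⟨b, -, rfl⟩, rfl⟩ := ho
    exact Finset.mem_image_of_mem _ (by simp)
  have h1 := hall _ (mem_target_inf_of_mask (m := 9347075) (by decide) (by decide +kernel)
    (by decide))
  have h2 := hall _ (mem_target_inf_of_mask (m := 16056344) (by decide) (by decide +kernel)
    (by decide))
  have h3 := hall _ (mem_target_inf_of_mask (m := 11100169) (by decide) (by decide +kernel)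
    (by decide))
  have h4 : σ none ∈ Helper27.setOf (9347075 &&& 16056344 &&& 11100169) := by
    rw [setOf_and, setOf_and, Finset.mem_inter, Finset.mem_inter]
    exact ⟨⟨h1, h2⟩, h3⟩
  have h5 : (9347075 &&& 16056344 &&& 11100169 : ℕ) = 8388608 := by decide
  rw [h5, setOf_inf, Finset.mem_singleton] at h4
  exact h4

theorem some_removeNone {σ : Equiv.Perm GolayPt} (h : σ none = none) (x : ZMod 23) :
    some (Equiv.removeNone σ x) = σ (some x) := by
  apply Equiv.removeNone_some
  have hne : σ (some x) ≠ none := by
    intro hcon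
    rw [← h] at hcon
    exact Option.some_ne_none x (σ.injective hcon)
  exact Option.ne_none_iff_exists'.1 hne

theorem image_insertNone {σ : Equiv.Perm GolayPt} (h : σ none = none) (b : Finset (ZMod 23)) :
    (Finset.insertNone b).image σ = Finset.insertNone (b.image (Equiv.removeNone σ)) := by
  ext p
  rw [Finset.mem_image]
  cases p with
  | none =>
    simp only [Finset.mem_insertNone, Option.mem_def, reduceCtorEq, false_imp_iff, implies_true,
      iff_true]
    exact ⟨none, by simp, h⟩
  | some y =>
    simp only [Finset.mem_insertNone, Option.mem_def, Option.some.injEq, forall_eq',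
      Finset.mem_image]
    constructor
    · rintro ⟨q, hq, hqy⟩
      cases q with
      | none => rw [h] at hqy; exact absurd hqy (by simp)
      | some x =>
        refine ⟨x, hq x rfl, ?_⟩
        apply Option.some_injective
        rw [some_removeNone h, hqy]
    · rintro ⟨x, hx, rfl⟩
      refine ⟨some x, ?_, (some_removeNone h x).symm⟩
      intro a ha
      rw [Option.some.injEq] at ha
      rw [← ha]
      exact hx

theorem relab_ext23 {σ : Equiv.Perm GolayPt} (h : σ none = none) (B : Set (Finset (ZMod 23))) :
    relab σ (ext23 B) = ext23 (mapSys (Equiv.removeNone σ) B) := by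
  ext o
  simp only [relab, ext23, mapSys, Set.mem_image]
  constructor
  · rintro ⟨_, ⟨b, hb, rfl⟩, rfl⟩
    exact ⟨_, ⟨b, hb, rfl⟩, (image_insertNone h b).symm⟩
  · rintro ⟨_, ⟨b, hb, rfl⟩, rfl⟩
    exact ⟨_, ⟨b, hb, rfl⟩, image_insertNone h b⟩

/-- the model of `S(4,7,23)` on the 23 residues: the octads through `∞`, with `∞` removed -/
def B23 : Set (Finset (ZMod 23)) := {b | Finset.insertNone b ∈ octads}

theorem ext23_B23 : ext23 B23 = target {none} := by
  ext o
  simp only [ext23, B23, Set.mem_image, Set.mem_setOf_eq, target]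
  constructor
  · rintro ⟨b, hb, rfl⟩
    exact ⟨hb, by simp⟩
  · rintro ⟨ho, hn⟩
    have hn' : none ∈ o := hn (Finset.mem_singleton_self _)
    have h1 : Finset.insertNone (Finset.eraseNone o) = o := by
      rw [Finset.insertNone_eraseNone, Finset.insert_eq_of_mem hn']
    exact ⟨Finset.eraseNone o, by rw [h1]; exact ho, h1⟩

/-- every `S(4,7,23)` on the residues can be relabelled to the model -/
theorem exists_perm_eq_B23 {B : Set (Finset (ZMod 23))} (hB : IsSteinerSystem 4 7 B) :
    ∃ π : Equiv.Perm (ZMod 23), mapSys π B = B23 := by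
  have hext := extSys_ext23 hB
  rw [← setOf_inf] at hext
  obtain ⟨σ, hσ⟩ := g23_1 (ext23 B) hext (by simp)
  rw [setOf_inf] at hσ
  have hfix := fix_none_of_relab hσ
  refine ⟨Equiv.removeNone σ, ?_⟩
  apply ext23_injective
  rw [← relab_ext23 hfix, hσ, ext23_B23]

/-- every `S(4,7,23)` is isomorphic to the model -/
theorem steiner23_iso_B23 {α : Type*} [Fintype α] [DecidableEq α] (hα : Fintype.card α = 23)
    {B : Set (Finset α)} (hB : IsSteinerSystem 4 7 B) : SetSystemIso B B23 := by
  have hcard : Fintype.card (ZMod 23) = 23 := ZMod.card 23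
  let e : α ≃ ZMod 23 := Fintype.equivOfCardEq (hα.trans hcard.symm)
  obtain ⟨π, hπ⟩ := exists_perm_eq_B23 (IsSteinerSystem.mapSys hB e)
  refine ⟨e.trans π, ?_⟩
  have := mapSys_trans e π B
  unfold mapSys at this
  rw [this]
  exact hπ

end Cfsg.Agent.Helper92
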