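import Cfsg.Agent.Helper92.Steiner23
import Cfsg.Agent.Helper92.SteinerAut
import Cfsg.Agent.Helper7.OctadSpan
import Cfsg.Agent.Helper7.M24Trans
import Cfsg.Agent.S0376
import Cfsg.Agent.S0377
import Cfsg.Prelude.Def_Sporadic

/-!
# The automorphism group of the model `B23` of `S(4,7,23)` is the point stabiliser of `M24`
-/

set_option autoImplicit false

namespace Cfsg.Agent.Helper92

open Cfsg Cfsg.Agent.Helper7
open scoped Pointwise


/-! ### the octads through `∞` span the code -/

/-- the code words of weight 8 through `∞` -/
def octW23 : Set V := {w | w ∈ golayCode ∧ (support₂ w).card = 8 ∧ w none = 1}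

/-- for each of the 24 generating words, octads through `∞` whose sum it is -/
def octCerts23 : List (List ℕ) := [[11100169, 13811730, 15515712, 11731203, 15073798, 13062145], [11100169, 13811730, 11952160, 14254209, 15073798, 16262146], [10305542, 11100169, 13811730, 11952160, 15515712, 11731203, 16262146, 14919680], [9347075, 10305542, 11100169, 13811730, 11952160, 15515712, 14254209, 15073798, 14919680, 13062145], [9347075, 13811730, 11952160, 15515712, 14254209, 11731203, 16262146, 13062145], [9347075, 10305542, 11952160, 15515712, 14254209, 11731203, 15073798, 14919680], [9347075, 10305542, 15515712, 14254209, 11731203, 15073798, 16262146, 13062145], [9347075, 14254209, 11731203, 15073798, 16262146, 14919680], [9347075, 10305542, 11100169, 11731203, 15073798, 16262146, 14919680, 13062145], [9347075, 13811730, 15073798, 16262146, 14919680, 13062145], [9347075, 11100169, 11952160, 16262146, 14919680, 13062145], [13811730, 15515712, 14919680, 13062145], [10305542, 11952160, 14254209, 13062145], [10305542, 11100169, 15515712, 11731203], [9347075, 10305542, 11100169, 13811730, 14254209,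 15073798], [13811730, 11952160, 11731203, 16262146], [11952160, 15515712, 15073798, 14919680], [10305542, 11100169, 15515712, 14254209, 16262146, 13062145], [9347075, 11100169, 13811730, 14254209, 11731203, 14919680], [9347075, 13811730, 11952160, 11731203, 15073798, 13062145], [10305542, 11100169, 11952160, 15515712, 15073798, 16262146], [10305542, 13811730, 15515712, 14254209, 16262146, 14919680], [9347075, 10305542, 11100169, 11952160, 14254209, 11731203, 14919680, 13062145], [9347075, 11100169, 13811730, 11952160, 15515712, 14254209, 11731203, 15073798, 16262146, 14919680, 13062145]]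

/-- a mask is (the mask of) an octad through `∞` -/
def isOctadMask23 (o : ℕ) : Bool := isOctadMask o && o.testBit 23

theorem word_mem_octW23 {o : ℕ} (h : isOctadMask23 o = true) : word o ∈ octW23 := by
  rw [isOctadMask23, Bool.and_eq_true] at h
  obtain ⟨h1, h2⟩ := word_mem_octW h.1
  refine ⟨h1, h2, ?_⟩
  rw [word_apply]
  have : idx none = 23 := rfl
  rw [this, h.2]
  rfl

theorem octCerts23_ok : (gmasks.zip octCerts23).all (fun xo =>
    xo.2.all isOctadMask23 && Nat.beq (xo.2.foldr (· ^^^ ·) 0) xo.1) = true := by decide +kernel

theorem octCerts23_len : octCerts23.length = gmasks.length := by decide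

theorem word_gmask_mem_span23 : ∀ x ∈ gmasks, word x ∈ Submodule.span (ZMod 2) octW23 := by
  intro x hx
  obtain ⟨i, hi, rfl⟩ := List.getElem_of_mem hx
  have hi' : i < octCerts23.length := by rw [octCerts23_len]; exact hi
  have hlen : i < (gmasks.zip octCerts23).length := by
    rw [List.length_zip]
    exact lt_min hi hi'
  have hmem : (gmasks.zip octCerts23)[i]'hlen ∈ gmasks.zip octCerts23 := List.getElem_mem _
  rw [List.getElem_zip] at hmem
  have hok := octCerts23_ok
  rw [List.all_eq_true] at hok
  have h1 := hok _ hmem
  simp only [Bool.and_eq_true, List.all_eq_true] at h1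
  obtain ⟨h2, h3⟩ := h1
  rw [← Nat.eq_of_beq_eq_true h3]
  apply word_foldr_xor_mem
  intro o ho
  exact Submodule.subset_span (word_mem_octW23 (h2 o ho))

/-- the code is spanned by its words of weight 8 through `∞` -/
theorem golayCode_eq_span_octW23 : golayCode = Submodule.span (ZMod 2) octW23 := by
  apply le_antisymm
  · rw [golayCode, Submodule.span_le]
    rintro w (⟨t, rfl⟩ | hw)
    · rw [Cfsg.Agent.Helper7.qrWord_eq]
      apply word_gmask_mem_span23
      rw [gmasks, List.mem_append]
      left
      have ht : ZMod.val t < 23 := ZMod.val_lt t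
      rw [List.getD_eq_getElem _ _ (by exact ht)]
      exact List.getElem_mem _
    · rw [Set.mem_singleton_iff] at hw
      subst hw
      rw [← word_all]
      apply word_gmask_mem_span23
      simp [gmasks]
  · rw [Submodule.span_le]
    intro w hw
    exact hw.1



theorem image_eq_smul (g : Equiv.Perm GolayPt) (s : Finset GolayPt) : s.image g = g • s := rfl

/-- a permutation preserving the octads through `∞` lies in `M24` -/
theorem mem_M24_of_relab_target {g : Equiv.Perm GolayPt}
    (h : relab g (target {none}) = target {none}) : g ∈ M24 := by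
  rw [mem_M24_iff_le]
  nth_rewrite 1 [golayCode_eq_span_octW23]
  rw [Submodule.map_span, Submodule.span_le]
  rintro _ ⟨w, hw, rfl⟩
  obtain ⟨hw1, hw2, hw3⟩ := hw
  have h1 : support₂ w ∈ target {none} := by
    refine ⟨(Cfsg.Agent.Helper7.mem_octads_iff _).mpr ⟨w, hw1, rfl, hw2⟩, ?_⟩
    rw [Finset.singleton_subset_iff, mem_support₂']
    exact hw3
  have h2 : (support₂ w).image g ∈ target {none} := by
    rw [← h]; exact ⟨_, h1, rfl⟩
  have h3 := h2.1
  rw [image_eq_smul, smul_support₂, Cfsg.Agent.Helper7.mem_octads_iff] at h3
  obtain ⟨w', hw', hs, _⟩ := h3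
  have := Cfsg.Agent.Helper7.support₂_injective hs
  show permL g w ∈ golayCode
  rw [← this]
  exact hw'

theorem relab_target_of_mem_M24 {g : Equiv.Perm GolayPt} (hg : g ∈ M24) (h0 : g none = none) :
    relab g (target {none}) = target {none} := by
  have key : ∀ k : Equiv.Perm GolayPt, k ∈ M24 → k none = none →
      ∀ o ∈ target {none}, o.image k ∈ target {none} := by
    intro k hk hk0 o ho
    refine ⟨smul_mem_octads hk ho.1, ?_⟩
    rw [Finset.singleton_subset_iff, Finset.mem_image]
    exact ⟨none, Finset.singleton_subset_iff.1 ho.2, hk0⟩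
  apply Set.Subset.antisymm
  · rintro _ ⟨o, ho, rfl⟩
    exact key g hg h0 o ho
  · intro o ho
    have hinv : g⁻¹ none = none := by
      rw [Equiv.Perm.inv_eq_iff_eq]; exact h0.symm
    refine ⟨o.image (g⁻¹ : Equiv.Perm GolayPt), key g⁻¹ (M24.inv_mem hg) hinv o ho, ?_⟩
    simp only
    rw [Finset.image_image]
    ext p
    simp

theorem mem_setSystemAut_B23_iff (π : Equiv.Perm (ZMod 23)) :
    π ∈ setSystemAut B23 ↔ Equiv.optionCongr π ∈ M24 := by
  have hfix : (Equiv.optionCongr π) none = none := rfl
  have hrel := relab_ext23 hfix B23
  rw [Equiv.removeNone_optionCongr, ext23_B23] at hrel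
  rw [mem_setSystemAut_iff_mapSys]
  constructor
  · intro h
    rw [h, ext23_B23] at hrel
    exact mem_M24_of_relab_target hrel
  · intro h
    have := relab_target_of_mem_M24 h hfix
    rw [hrel, ← ext23_B23] at this
    exact ext23_injective this

theorem optionCongr_removeNone {g : Equiv.Perm GolayPt} (h : g none = none) :
    Equiv.optionCongr (Equiv.removeNone g) = g := by
  ext p : 1
  cases p with
  | none => rw [h]; rfl
  | some x => rw [← some_removeNone h]; rfl

/-- extension by fixing `∞` -/
def autB23Hom : setSystemAut B23 →* MulAction.stabilizer M24 (none : GolayPt) where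
  toFun π := ⟨⟨Equiv.optionCongr π.1, (mem_setSystemAut_B23_iff π.1).1 π.2⟩, by
    rw [MulAction.mem_stabilizer_iff]; rfl⟩
  map_one' := by
    apply Subtype.ext
    apply Subtype.ext
    ext p : 1
    cases p <;> rfl
  map_mul' π π' := by
    apply Subtype.ext
    apply Subtype.ext
    ext p : 1
    cases p <;> rfl

theorem autB23Hom_bijective : Function.Bijective autB23Hom := by
  constructor
  · intro π π' h
    have h1 : Equiv.optionCongr π.1 = Equiv.optionCongr π'.1 :=
      congrArg (fun z : MulAction.stabilizer M24 (none : GolayPt) => (z.1.1 : Equiv.Perm GolayPt)) h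
    exact Subtype.ext (Equiv.optionCongr_injective h1)
  · intro g
    have h0 : g.1.1 none = none := MulAction.mem_stabilizer_iff.1 g.2
    have hmem : Equiv.removeNone g.1.1 ∈ setSystemAut B23 := by
      rw [mem_setSystemAut_B23_iff, optionCongr_removeNone h0]
      exact g.1.2
    refine ⟨⟨_, hmem⟩, ?_⟩
    apply Subtype.ext
    apply Subtype.ext
    exact optionCongr_removeNone h0

/-- the automorphism group of the model is the point stabiliser of `M24` -/
noncomputable def autB23Equiv : setSystemAut B23 ≃* MulAction.stabilizer M24 (none : GolayPt) :=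
  MulEquiv.ofBijective autB23Hom autB23Hom_bijective

theorem isM23_setSystemAut_B23 : IsM23 (setSystemAut B23) := by
  constructor
  · have := Cfsg.Agent.S0377.result none
    exact autB23Equiv.isSimpleGroup
  · rw [Nat.card_congr autB23Equiv.toEquiv]
    exact Cfsg.Agent.S0376.result none

theorem b23_four_transitive :
    MulAction.IsMultiplyPretransitive (setSystemAut B23) (ZMod 23) 4 := by
  constructor
  intro x y
  have hinj : ∀ z : Fin 4 ↪ ZMod 23, Function.Injective
      (Fin.cons (none : GolayPt) (fun i => some (z i)) : Fin 5 → GolayPt) := by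
    intro z
    rw [Fin.cons_injective_iff]
    refine ⟨by simp, fun i j h => z.injective (Option.some_injective _ h)⟩
  obtain ⟨g, hg⟩ := m24_five_transitive.exists_smul_eq ⟨_, hinj x⟩ ⟨_, hinj y⟩
  have h0 : g.1 none = none := by
    have := DFunLike.congr_fun hg 0
    exact this
  have hs : ∀ i : Fin 4, g.1 (some (x i)) = some (y i) := by
    intro i
    have := DFunLike.congr_fun hg i.succ
    exact this
  have hmem : Equiv.removeNone g.1 ∈ setSystemAut B23 := by
    rw [mem_setSystemAut_B23_iff, optionCongr_removeNone h0]
    exact g.2
  refine ⟨⟨_, hmem⟩, ?_⟩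
  ext i
  apply Option.some_injective
  show some (Equiv.removeNone g.1 (x i)) = some (y i)
  rw [some_removeNone h0, hs]

end Cfsg.Agent.Helper92
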