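import Cfsg.Agent.Helper92.Steiner24Cert
import Cfsg.Agent.Helper92.SteinerIso
import Cfsg.Agent.Helper26.Steiner2

/-!
# Uniqueness of the Steiner system `S(5,8,24)`: every such system is isomorphic to the octads
-/

set_option autoImplicit false

namespace Cfsg.Agent.Helper92

open Cfsg Cfsg.Agent.Helper27 Cfsg.Agent.Helper26

theorem extSys_of_steiner {B : Set (Finset GolayPt)} (hB : IsSteinerSystem 5 8 B) :
    ExtSys (setOf 0) B := by
  have hcard : Fintype.card GolayPt = 24 := by decide
  refine ⟨hB.1, ?_, ?_, ?_⟩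
  · intro b _
    rw [setOf_zero]
    exact Finset.empty_subset _
  · intro s hs _
    obtain ⟨b, ⟨hb, hsb⟩, -⟩ := hB.2 s hs
    exact ⟨b, hb, hsb⟩
  · intro b hb c hc hne
    obtain ⟨-, h1, -, h3, -⟩ := meetCount_5_8_24 hcard hB hc
    have hle : (b ∩ c).card ≤ 4 := by
      by_contra hcon
      exact hne (block_eq_of_le_card_inter hB hb hc (by omega))
    have hn1 := ne_of_meetCount_eq_zero h1 hb
    have hn3 := ne_of_meetCount_eq_zero h3 hb
    omega

/-- every `S(5,8,24)` on the 24 points can be relabelled to the octads -/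
theorem exists_relab_eq_octads {B : Set (Finset GolayPt)} (hB : IsSteinerSystem 5 8 B) :
    ∃ σ : Equiv.Perm GolayPt, relab σ B = octads := by
  obtain ⟨σ, hσ⟩ := g24_1 B (extSys_of_steiner hB) (by simp)
  refine ⟨σ, ?_⟩
  rw [hσ]
  ext o
  simp [target, setOf_zero]

/-- every `S(5,8,24)` is isomorphic to the system of octads -/
theorem steiner24_iso_octads {α : Type*} [Fintype α] [DecidableEq α] (hα : Fintype.card α = 24)
    {B : Set (Finset α)} (hB : IsSteinerSystem 5 8 B) : SetSystemIso B octads := by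
  have hcard : Fintype.card GolayPt = 24 := by decide
  let e : α ≃ GolayPt := Fintype.equivOfCardEq (hα.trans hcard.symm)
  obtain ⟨σ, hσ⟩ := exists_relab_eq_octads (IsSteinerSystem.mapSys hB e)
  refine ⟨e.trans σ, ?_⟩
  have := mapSys_trans e σ B
  unfold mapSys at this
  rw [this]
  exact hσ

end Cfsg.Agent.Helper92
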