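import Cfsg.Agent.Helper92.PermTab
import Cfsg.Agent.Helper27.Octads
import Cfsg.Agent.Helper27.GolayCosets
import Cfsg.Agent.Helper8.Golay
import Cfsg.Agent.Helper7.Table

/-!
# A certificate checker for the uniqueness of Steiner-like systems of 8-sets on the 24 points

`ExtSys F B`: `B` is a family of 8-subsets of the 24 points, all containing `F`, any two of which
meet in 0, 2 or 4 points, such that every 5-set containing `F` lies in a member.
(`F = ∅`: Steiner systems `S(5,8,24)`; `F` a point: extended `S(4,7,23)`; ...)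

`Goal Fm K`: every such system containing the blocks with masks in `K` can be relabelled to the
system of all octads containing `F`.  The checker `chk` proves `Goal Fm K` from a certificate.
-/

set_option autoImplicit false

namespace Cfsg.Agent.Helper92

open Cfsg Cfsg.Agent.Helper27

/-! ### relabelling -/

/-- the family `B` relabelled by `σ` -/
def relab (σ : Equiv.Perm GolayPt) (B : Set (Finset GolayPt)) : Set (Finset GolayPt) :=
  (fun b : Finset GolayPt => b.image σ) '' B

theorem mem_relab {σ : Equiv.Perm GolayPt} {B : Set (Finset GolayPt)} {b : Finset GolayPt}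
    (hb : b ∈ B) : b.image σ ∈ relab σ B := ⟨b, hb, rfl⟩

theorem relab_mul (σ τ : Equiv.Perm GolayPt) (B : Set (Finset GolayPt)) :
    relab (σ * τ) B = relab σ (relab τ B) := by
  ext b
  simp only [relab, Set.mem_image]
  constructor
  · rintro ⟨c, hc, rfl⟩
    refine ⟨c.image τ, ⟨c, hc, rfl⟩, ?_⟩
    rw [Finset.image_image]
    rfl
  · rintro ⟨_, ⟨c, hc, rfl⟩, rfl⟩
    refine ⟨c, hc, ?_⟩
    rw [Finset.image_image]
    rfl

/-- extended systems -/
structure ExtSys (F : Finset GolayPt) (B : Set (Finset GolayPt)) : Prop where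
  card8 : ∀ b ∈ B, b.card = 8
  sub : ∀ b ∈ B, F ⊆ b
  cover : ∀ s : Finset GolayPt, s.card = 5 → F ⊆ s → ∃ b ∈ B, s ⊆ b
  inter : ∀ b ∈ B, ∀ c ∈ B, b ≠ c →
    (b ∩ c).card = 0 ∨ (b ∩ c).card = 2 ∨ (b ∩ c).card = 4

theorem ExtSys.relab {F : Finset GolayPt} {B : Set (Finset GolayPt)} (h : ExtSys F B)
    (σ : Equiv.Perm GolayPt) : ExtSys (F.image σ) (relab σ B) := by
  have hinj : Function.Injective σ := σ.injective
  refine ⟨?_, ?_, ?_, ?_⟩
  · rintro _ ⟨b, hb, rfl⟩
    rw [Finset.card_image_of_injective _ hinj]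
    exact h.card8 b hb
  · rintro _ ⟨b, hb, rfl⟩
    exact Finset.image_subset_image (h.sub b hb)
  · intro s hs hFs
    have hs' : (s.image σ.symm).card = 5 := by
      rw [Finset.card_image_of_injective _ σ.symm.injective, hs]
    have hF' : F ⊆ s.image σ.symm := by
      intro p hp
      rw [Finset.mem_image]
      exact ⟨σ p, hFs (Finset.mem_image_of_mem _ hp), by simp⟩
    obtain ⟨b, hb, hsb⟩ := h.cover _ hs' hF'
    refine ⟨b.image σ, ⟨b, hb, rfl⟩, ?_⟩
    intro p hp
    rw [Finset.mem_image]
    refine ⟨σ.symm p, hsb (Finset.mem_image_of_mem _ hp), by simp⟩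
  · rintro _ ⟨b, hb, rfl⟩ _ ⟨c, hc, rfl⟩ hne
    have hne' : b ≠ c := fun e => hne (by rw [e])
    rw [← Finset.image_inter _ _ hinj, Finset.card_image_of_injective _ hinj]
    exact h.inter b hb c hc hne'

/-- the system of all octads containing `F` -/
def target (F : Finset GolayPt) : Set (Finset GolayPt) := {o | o ∈ octads ∧ F ⊆ o}

/-- the goal attached to a state `(Fm, K)` of the search -/
def Goal (Fm : ℕ) (K : List ℕ) : Prop :=
  ∀ B : Set (Finset GolayPt), ExtSys (setOf Fm) B → (∀ m ∈ K, setOf m ∈ B) →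
    ∃ σ : Equiv.Perm GolayPt, relab σ B = target (setOf Fm)

/-! ### masks -/

theorem setOf_and (a b : ℕ) : setOf (a &&& b) = setOf a ∩ setOf b := by
  ext p
  rw [Finset.mem_inter, mem_setOf, mem_setOf, mem_setOf, Nat.testBit_and, Bool.and_eq_true]

theorem setOf_or (a b : ℕ) : setOf (a ||| b) = setOf a ∪ setOf b := by
  ext p
  rw [Finset.mem_union, mem_setOf, mem_setOf, mem_setOf, Nat.testBit_or, Bool.or_eq_true]

theorem setOf_zero : setOf 0 = ∅ := by
  ext p
  simp [mem_setOf]

theorem setOf_subset_of_and_eq {a b : ℕ} (h : a &&& b = a) : setOf a ⊆ setOf b := by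
  intro p hp
  rw [← h, setOf_and, Finset.mem_inter] at hp
  exact hp.2

theorem and_lt_two_pow_24 {a : ℕ} (b : ℕ) (ha : a < 2 ^ 24) : a &&& b < 2 ^ 24 :=
  lt_of_le_of_lt Nat.and_le_left ha

theorem and_eq_of_subset {a b : ℕ} (ha : a < 2 ^ 24) (h : setOf a ⊆ setOf b) : a &&& b = a := by
  apply eq_of_setOf_eq (and_lt_two_pow_24 b ha) ha
  rw [setOf_and]
  exact Finset.inter_eq_left.2 h

/-- image of a set of points under a table permutation -/
theorem image_permOfTabs_setOf {t s : List ℕ} (h : isInvPair t s = true) (m : ℕ) :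
    (setOf m).image (permOfTabs t s) = setOf (pmask s m) := by
  ext p
  rw [image_setOf h, Finset.mem_image]
  constructor
  · rintro ⟨q, hq, rfl⟩
    simpa using hq
  · intro hp
    exact ⟨(permOfTabs t s).symm p, hp, by simp⟩

/-! ### enumeration of masks of given weight -/

/-- all `k`-bit masks of weight `j` -/
def masksOfWeight : ℕ → ℕ → List ℕ
  | 0, 0 => [0]
  | 0, _ + 1 => []
  | k + 1, 0 => (masksOfWeight k 0).map (2 * ·)
  | k + 1, j + 1 => (masksOfWeight k (j + 1)).map (2 * ·) ++ (masksOfWeight k j).map (2 * · + 1)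

theorem mem_masksOfWeight : ∀ (k j m : ℕ), m < 2 ^ k → popc k m = j → m ∈ masksOfWeight k j := by
  intro k
  induction k with
  | zero =>
    intro j m hm hj
    have hm0 : m = 0 := by simpa using hm
    subst hm0
    simp only [popc] at hj
    subst hj
    simp [masksOfWeight]
  | succ k ih =>
    intro j m hm hj
    have hdiv : m / 2 < 2 ^ k := by
      rw [pow_succ] at hm
      omega
    rw [popc] at hj
    have hm2 : m = 2 * (m / 2) + m % 2 := by omega
    rcases Nat.mod_two_eq_zero_or_one m with h0 | h1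
    · rw [h0, Nat.zero_add] at hj
      have hmem := ih j (m / 2) hdiv hj
      have hm2' : m = 2 * (m / 2) := by omega
      cases j with
      | zero =>
        rw [masksOfWeight, List.mem_map]
        exact ⟨m / 2, hmem, hm2'.symm⟩
      | succ j =>
        rw [masksOfWeight, List.mem_append]
        left
        rw [List.mem_map]
        exact ⟨m / 2, hmem, hm2'.symm⟩
    · rw [h1] at hj
      cases j with
      | zero => omega
      | succ j =>
        have hj' : popc k (m / 2) = j := by omega
        have hmem := ih j (m / 2) hdiv hj'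
        rw [masksOfWeight, List.mem_append]
        right
        rw [List.mem_map]
        refine ⟨m / 2, hmem, ?_⟩
        omega

/-! ### fast population count -/

/-- popcount table for bytes, 4 bits per entry -/
def pcTable : ℕ := 0x8776766576656554766565546554544376656554655454436554544354434332766565546554544365545443544343326554544354434332544343324332322176656554655454436554544354434332655454435443433254434332433232216554544354434332544343324332322154434332433232214332322132212110

/-- popcount of a byte -/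
def pc8 (b : ℕ) : ℕ := (pcTable >>> (4 * b)) % 16

/-- fast population count of a 24-bit number -/
def popcF (x : ℕ) : ℕ := pc8 (x % 256) + pc8 ((x / 256) % 256) + pc8 (x / 65536)

theorem pc8_eq : ∀ b < 256, pc8 b = popc 8 b := by
  have h := forall_lt_of_allRange (fun b => pc8 b == popc 8 b) 8 (by decide +kernel)
  intro b hb
  simpa using h b hb

theorem popc_add (a b n : ℕ) : popc (a + b) n = popc a n + popc b (n / 2 ^ a) := by
  induction a generalizing n with
  | zero => simp [popc]
  | succ a ih =>
    rw [show a + 1 + b = (a + b) + 1 by omega, popc, popc, ih, Nat.div_div_eq_div_mul, pow_succ,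
      Nat.mul_comm 2 (2 ^ a)]
    omega

theorem popc_mod (k n : ℕ) : popc k (n % 2 ^ k) = popc k n := by
  induction k generalizing n with
  | zero => simp [popc]
  | succ k ih =>
    rw [popc, popc, pow_succ, Nat.mul_comm, Nat.mod_mul_right_div_self, ih,
      Nat.mod_mod_of_dvd _ (Dvd.intro _ rfl)]

theorem popcF_eq {x : ℕ} (hx : x < 2 ^ 24) : popcF x = popc 24 x := by
  have h1 : popc 24 x = popc 8 x + popc 8 (x / 256) + popc 8 (x / 65536) := by
    rw [show (24 : ℕ) = 8 + 16 by norm_num, popc_add, show (16 : ℕ) = 8 + 8 by norm_num, popc_add,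
      Nat.div_div_eq_div_mul]
    norm_num
    omega
  have h2 : x / 65536 < 256 := by omega
  rw [h1, popcF, pc8_eq _ (Nat.mod_lt _ (by norm_num)), pc8_eq _ (Nat.mod_lt _ (by norm_num)),
    pc8_eq _ h2]
  have e1 := popc_mod 8 x
  have e2 := popc_mod 8 (x / 256)
  norm_num at e1 e2
  rw [e1, e2]

/-! ### compatibility -/

/-- allowed intersection sizes -/
def okI (n : ℕ) : Bool := n == 0 || n == 2 || n == 4

/-- `c` is compatible with the known blocks -/
def compatB (K : List ℕ) (c : ℕ) : Bool := K.all fun m => m == c || okI (popcF (m &&& c))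

theorem compatB_of {F : Finset GolayPt} {B : Set (Finset GolayPt)} (hB : ExtSys F B) {K : List ℕ}
    (hK : ∀ m ∈ K, setOf m ∈ B) (hKlt : ∀ m ∈ K, m < 2 ^ 24) {c : ℕ} (hc : setOf c ∈ B)
    (hclt : c < 2 ^ 24) : compatB K c = true := by
  unfold compatB
  rw [List.all_eq_true]
  intro m hm
  rw [Bool.or_eq_true]
  by_cases he : setOf m = setOf c
  · left
    rw [beq_iff_eq]
    exact eq_of_setOf_eq (hKlt m hm) hclt he
  · right
    have := hB.inter _ (hK m hm) _ hc he
    rw [← setOf_and, card_setOf, ← popcF_eq (and_lt_two_pow_24 c (hKlt m hm))] at this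
    unfold okI
    rcases this with h | h | h <;> rw [h] <;> rfl

/-! ### enumeration of the candidate blocks -/

theorem eq_zero_of_popc_eq_zero : ∀ (k w : ℕ), w < 2 ^ k → popc k w = 0 → w = 0 := by
  intro k
  induction k with
  | zero => intro w hw _; simpa using hw
  | succ k ih =>
    intro w hw h
    rw [popc] at h
    have h1 : w % 2 = 0 := by omega
    have h2 : popc k (w / 2) = 0 := by omega
    have h3 : w / 2 < 2 ^ k := by rw [pow_succ] at hw; omega
    have := ih (w / 2) h3 h2
    omega

/-- prepend to `out` all `acc + bit * w`, `w` a `k`-bit mask of weight `j` with `w &&& X = 0` -/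
def enumAvoid : ℕ → ℕ → ℕ → ℕ → ℕ → List ℕ → List ℕ
  | 0, _, 0, _, acc, out => acc :: out
  | 0, _, _ + 1, _, _, out => out
  | _ + 1, _, 0, _, acc, out => acc :: out
  | k + 1, X, j + 1, bit, acc, out =>
    if X % 2 = 0 then
      enumAvoid k (X / 2) j (2 * bit) (acc + bit) (enumAvoid k (X / 2) (j + 1) (2 * bit) acc out)
    else enumAvoid k (X / 2) (j + 1) (2 * bit) acc out

theorem enumAvoid_mono : ∀ (k X j bit acc : ℕ) (out : List ℕ), ∀ x ∈ out,
    x ∈ enumAvoid k X j bit acc out := by
  intro k
  induction k with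
  | zero =>
    intro X j bit acc out x hx
    cases j with
    | zero => rw [enumAvoid]; exact List.mem_cons_of_mem _ hx
    | succ j => rw [enumAvoid]; exact hx
  | succ k ih =>
    intro X j bit acc out x hx
    cases j with
    | zero => rw [enumAvoid]; exact List.mem_cons_of_mem _ hx
    | succ j =>
      rw [enumAvoid]
      split_ifs
      · exact ih _ _ _ _ _ x (ih _ _ _ _ _ x hx)
      · exact ih _ _ _ _ _ x hx

theorem mem_enumAvoid : ∀ (k X j bit acc : ℕ) (out : List ℕ) (w : ℕ), w < 2 ^ k → popc k w = j →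
    w &&& X = 0 → acc + bit * w ∈ enumAvoid k X j bit acc out := by
  intro k
  induction k with
  | zero =>
    intro X j bit acc out w hw hj _
    have hw0 : w = 0 := by simpa using hw
    subst hw0
    simp only [popc] at hj
    subst hj
    rw [enumAvoid]
    simp
  | succ k ih =>
    intro X j bit acc out w hw hj hX
    cases j with
    | zero =>
      have := eq_zero_of_popc_eq_zero (k + 1) w hw hj
      subst this
      rw [enumAvoid]
      simp
    | succ j =>
      have hdiv : w / 2 < 2 ^ k := by rw [pow_succ] at hw; omega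
      have hX2 : w / 2 &&& X / 2 = 0 := by rw [← Nat.and_div_two, hX]
      rw [popc] at hj
      rw [enumAvoid]
      rcases Nat.mod_two_eq_zero_or_one w with h0 | h1
      · have hj' : popc k (w / 2) = j + 1 := by omega
        have hw2 : bit * w = 2 * bit * (w / 2) := by
          have : w = 2 * (w / 2) := by omega
          calc bit * w = bit * (2 * (w / 2)) := by rw [← this]
            _ = 2 * bit * (w / 2) := by ring
        have hmem := ih (X / 2) (j + 1) (2 * bit) acc out (w / 2) hdiv hj' hX2
        rw [← hw2] at hmem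
        split_ifs
        · exact enumAvoid_mono _ _ _ _ _ _ _ hmem
        · exact hmem
      · have hj' : popc k (w / 2) = j := by omega
        have hXm : X % 2 = 0 := by
          rcases Nat.mod_two_eq_zero_or_one X with h | h
          · exact h
          · have := (Nat.and_mod_two_eq_one (a := w) (b := X)).2 ⟨h1, h⟩
            rw [hX] at this
            simp at this
        rw [if_pos hXm]
        have hw2 : acc + bit * w = acc + bit + 2 * bit * (w / 2) := by
          have : w = 2 * (w / 2) + 1 := by omega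
          calc acc + bit * w = acc + bit * (2 * (w / 2) + 1) := by rw [← this]
            _ = acc + bit + 2 * bit * (w / 2) := by ring
        rw [hw2]
        exact ih (X / 2) j (2 * bit) (acc + bit) _ (w / 2) hdiv hj' hX2

/-- the points excluded from the block through `s`: the other points of the known blocks meeting
`s` in four points -/
def forbMask (K : List ℕ) (s : ℕ) : ℕ :=
  K.foldr (fun b acc => if popcF (b &&& s) == 4 then (b ^^^ (b &&& s)) ||| acc else acc) 0

theorem mem_setOf_forbMask {K : List ℕ} {s : ℕ} {p : GolayPt} (hp : p ∈ setOf (forbMask K s)) :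
    ∃ b ∈ K, popcF (b &&& s) = 4 ∧ p ∈ setOf b ∧ p ∉ setOf s := by
  induction K with
  | nil => simp [forbMask, setOf_zero] at hp
  | cons b K ih =>
    rw [forbMask, List.foldr_cons] at hp
    split_ifs at hp with h4
    · rw [setOf_or, Finset.mem_union] at hp
      rcases hp with hp | hp
      · refine ⟨b, List.mem_cons_self, by simpa using h4, ?_⟩
        rw [mem_setOf, Nat.testBit_xor, Nat.testBit_and] at hp
        rw [mem_setOf, mem_setOf]
        cases hb : b.testBit (gIdx p) <;> cases hs : s.testBit (gIdx p) <;> simp_all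
      · obtain ⟨b', hb', h⟩ := ih hp
        exact ⟨b', List.mem_cons_of_mem _ hb', h⟩
    · obtain ⟨b', hb', h⟩ := ih hp
      exact ⟨b', List.mem_cons_of_mem _ hb', h⟩

/-- the candidate blocks through `s` -/
def candsK (K : List ℕ) (s : ℕ) : List ℕ :=
  (enumAvoid 24 (s ||| forbMask K s) 3 1 0 []).map (· ||| s)

theorem mem_candsK {K : List ℕ} {s mc : ℕ} (hKlt : ∀ m ∈ K, m < 2 ^ 24) (hs : s < 2 ^ 24)
    (hmc : mc < 2 ^ 24) (h5 : popc 24 s = 5) (h8 : popc 24 mc = 8) (hsub : s &&& mc = s)
    (hcomp : compatB K mc = true) : mc ∈ candsK K s := by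
  classical
  have hS : setOf s ⊆ setOf mc := setOf_subset_of_and_eq hsub
  set D : Finset GolayPt := setOf mc \ setOf s with hD
  set w : ℕ := maskOfSet D with hw
  have hwlt : w < 2 ^ 24 := maskOfSet_lt D
  have hwD : setOf w = D := setOf_maskOfSet D
  have hcardD : D.card = 3 := by
    rw [hD, Finset.card_sdiff_of_subset hS, card_setOf, card_setOf, h5, h8]
  have hpw : popc 24 w = 3 := by rw [← card_setOf, hwD, hcardD]
  -- no point of `mc` is forbidden
  have hforb : ∀ p ∈ setOf mc, p ∉ setOf (forbMask K s) := by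
    intro p hpm hpf
    obtain ⟨b, hbK, hb4, hpb, hps⟩ := mem_setOf_forbMask hpf
    have hblt := hKlt b hbK
    unfold compatB at hcomp
    rw [List.all_eq_true] at hcomp
    have := hcomp b hbK
    rw [Bool.or_eq_true, beq_iff_eq] at this
    rw [popcF_eq (and_lt_two_pow_24 s hblt), ← card_setOf, setOf_and] at hb4
    rcases this with h | h
    · -- `b = mc` contains `s`
      rw [h, Finset.inter_eq_right.2 hS, card_setOf, h5] at hb4
      omega
    · rw [popcF_eq (and_lt_two_pow_24 mc hblt), ← card_setOf, setOf_and] at h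
      have hsubset : insert p (setOf b ∩ setOf s) ⊆ setOf b ∩ setOf mc := by
        intro q hq
        rw [Finset.mem_insert] at hq
        rcases hq with rfl | hq
        · exact Finset.mem_inter.2 ⟨hpb, hpm⟩
        · rw [Finset.mem_inter] at hq ⊢
          exact ⟨hq.1, hS hq.2⟩
      have hnot : p ∉ setOf b ∩ setOf s := fun hq => hps (Finset.mem_inter.1 hq).2
      have hcard := Finset.card_le_card hsubset
      rw [Finset.card_insert_of_notMem hnot, hb4] at hcard
      unfold okI at h
      simp only [Bool.or_eq_true, beq_iff_eq] at h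
      omega
  have hdisj : w &&& (s ||| forbMask K s) = 0 := by
    apply eq_of_setOf_eq (and_lt_two_pow_24 _ hwlt) (by norm_num)
    rw [setOf_and, setOf_or, hwD, setOf_zero, Finset.eq_empty_iff_forall_notMem]
    intro p hp
    rw [Finset.mem_inter, Finset.mem_union, hD, Finset.mem_sdiff] at hp
    rcases hp.2 with h | h
    · exact hp.1.2 h
    · exact hforb p hp.1.1 h
  have hunion : w ||| s = mc := by
    apply eq_of_setOf_eq (Nat.or_lt_two_pow hwlt hs) hmc
    rw [setOf_or, hwD, hD]
    exact Finset.sdiff_union_of_subset hS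
  have hmem := mem_enumAvoid 24 (s ||| forbMask K s) 3 1 0 [] w hwlt hpw hdisj
  rw [Nat.zero_add, Nat.one_mul] at hmem
  unfold candsK
  rw [List.mem_map]
  exact ⟨w, hmem, hunion⟩

/-! ### kernel-friendly versions (raw `Nat` operations, no type class indirections) -/

theorem natBeq_iff (a b : ℕ) : Nat.beq a b = true ↔ a = b :=
  ⟨Nat.eq_of_beq_eq_true, fun h => h ▸ Nat.beq_refl a⟩

theorem natBeq_eq (a b : ℕ) : Nat.beq a b = (a == b) := by
  rw [Bool.eq_iff_iff, natBeq_iff, beq_iff_eq]

theorem natBlt_eq (a b : ℕ) : Nat.blt a b = decide (a < b) := by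
  rw [Bool.eq_iff_iff, Nat.blt_eq, decide_eq_true_eq]

def pc8R (b : ℕ) : ℕ := Nat.mod (Nat.shiftRight pcTable (Nat.mul 4 b)) 16

def popcR (x : ℕ) : ℕ :=
  Nat.add (Nat.add (pc8R (Nat.mod x 256)) (pc8R (Nat.mod (Nat.div x 256) 256))) (pc8R (Nat.div x 65536))

theorem popcR_eq (x : ℕ) : popcR x = popcF x := rfl

def okIR (n : ℕ) : Bool := (Nat.beq n 0).or ((Nat.beq n 2).or (Nat.beq n 4))

theorem okIR_eq (n : ℕ) : okIR n = okI n := by
  unfold okIR okI
  rw [natBeq_eq, natBeq_eq, natBeq_eq, Bool.or_assoc]

def compatR (K : List ℕ) (c : ℕ) : Bool :=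
  K.all fun m => (Nat.beq m c).or (okIR (popcR (Nat.land m c)))

theorem compatR_eq (K : List ℕ) (c : ℕ) : compatR K c = compatB K c := by
  unfold compatR compatB
  congr 1
  funext m
  rw [natBeq_eq, okIR_eq, popcR_eq]
  rfl

def forbMaskR (K : List ℕ) (s : ℕ) : ℕ :=
  K.foldr (fun b acc =>
    match Nat.beq (popcR (Nat.land b s)) 4 with
    | true => Nat.lor (Nat.xor b (Nat.land b s)) acc
    | false => acc) 0

theorem forbMaskR_eq (K : List ℕ) (s : ℕ) : forbMaskR K s = forbMask K s := by
  unfold forbMaskR forbMask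
  congr 1
  funext b acc
  rw [natBeq_eq, popcR_eq]
  show (match popcF (b &&& s) == 4 with
    | true => (b ^^^ (b &&& s)) ||| acc
    | false => acc) = _
  cases h : popcF (b &&& s) == 4 <;> simp

def enumAvoidR : ℕ → ℕ → ℕ → ℕ → ℕ → List ℕ → List ℕ
  | 0, _, 0, _, acc, out => acc :: out
  | 0, _, _ + 1, _, _, out => out
  | _ + 1, _, 0, _, acc, out => acc :: out
  | k + 1, X, j + 1, bit, acc, out =>
    match Nat.beq (Nat.mod X 2) 0 with
    | true =>
      enumAvoidR k (Nat.div X 2) j (Nat.mul 2 bit) (Nat.add acc bit)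
        (enumAvoidR k (Nat.div X 2) (j + 1) (Nat.mul 2 bit) acc out)
    | false => enumAvoidR k (Nat.div X 2) (j + 1) (Nat.mul 2 bit) acc out

theorem enumAvoidR_eq : ∀ (k X j bit acc : ℕ) (out : List ℕ),
    enumAvoidR k X j bit acc out = enumAvoid k X j bit acc out := by
  intro k
  induction k with
  | zero =>
    intro X j bit acc out
    cases j <;> rfl
  | succ k ih =>
    intro X j bit acc out
    cases j with
    | zero => rfl
    | succ j =>
      rw [enumAvoidR, enumAvoid, natBeq_eq]
      show (match X % 2 == 0 with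
        | true => enumAvoidR k (X / 2) j (2 * bit) (acc + bit)
            (enumAvoidR k (X / 2) (j + 1) (2 * bit) acc out)
        | false => enumAvoidR k (X / 2) (j + 1) (2 * bit) acc out) = _
      simp only [ih]
      by_cases h : X % 2 = 0
      · rw [if_pos h]
        have : (X % 2 == 0) = true := by rw [beq_iff_eq]; exact h
        rw [this]
      · rw [if_neg h]
        have : (X % 2 == 0) = false := by rw [beq_eq_false_iff_ne]; exact h
        rw [this]

/-- the candidate blocks through `s` (kernel-friendly) -/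
def candsR (K : List ℕ) (s : ℕ) : List ℕ :=
  (enumAvoidR 24 (Nat.lor s (forbMaskR K s)) 3 1 0 []).map fun w => Nat.lor w s

theorem candsR_eq (K : List ℕ) (s : ℕ) : candsR K s = candsK K s := by
  unfold candsR candsK
  rw [enumAvoidR_eq, forbMaskR_eq]
  rfl

/-! ### the leaf rule -/

/-- xor of a list -/
def xorL : List ℕ → ℕ
  | [] => 0
  | a :: l => a ^^^ xorL l

theorem dot_wordOf_xorL (v : GolayPt → ZMod 2) (l : List ℕ) (h : ∀ m ∈ l, v ⬝ᵥ wordOf m = 0) :
    v ⬝ᵥ wordOf (xorL l) = 0 := by
  induction l with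
  | nil => rw [xorL, wordOf_zero, dotProduct_zero]
  | cons a l ih =>
    rw [xorL, wordOf_xor, dotProduct_add, h a List.mem_cons_self,
      ih (fun m hm => h m (List.mem_cons_of_mem _ hm)), add_zero]

/-- the high parts orthogonal to all basis words vanish -/
theorem high_part_zero : ∀ q < 4096,
    (gBasis.all fun r => popc 24 ((4096 * q) &&& r) % 2 == 0) = true → q = 0 := by
  have h : allRange (fun q => !(gBasis.all fun r => popc 24 ((4096 * q) &&& r) % 2 == 0) || q == 0)
      12 0 = true := by decide +kernel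
  intro q hq hall
  have := forall_lt_of_allRange _ 12 h q hq
  rw [hall] at this
  simpa using this

theorem dot_wordOf_eq (a b : ℕ) : wordOf a ⬝ᵥ wordOf b = ((popc 24 (a &&& b) : ℕ) : ZMod 2) := by
  rw [← Cfsg.Agent.Helper8.card_inter_support_cast, support₂_wordOf, support₂_wordOf, ← setOf_and,
    card_setOf]

/-- self-duality of the code: a word orthogonal to the basis words lies in the code -/
theorem mem_golayCode_of_dot_gBasis (w : GolayPt → ZMod 2)
    (h : ∀ r ∈ gBasis, w ⬝ᵥ wordOf r = 0) : w ∈ golayCode := by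
  set m := maskOf w with hm
  have hmlt : m < 2 ^ 24 := maskOf_lt w
  have hwm : wordOf m = w := wordOf_maskOf w
  set u := encode (m % 4096) with hu
  have hult : u < 2 ^ 24 := encode_lt _
  have humem : wordOf u ∈ golayCode := wordOf_encode_mem _
  set m' := u ^^^ m with hm'
  have hm'lt : m' < 2 ^ 24 := xor_lt_two_pow_24 hult hmlt
  have hm'mod : m' % 4096 = 0 := cosetRep_mod m
  have hdot : ∀ r ∈ gBasis, wordOf m' ⬝ᵥ wordOf r = 0 := by
    intro r hr
    rw [hm', wordOf_xor, add_dotProduct, hwm, h r hr,
      Cfsg.Agent.Helper8.golay_dot_eq_zero humem (wordOf_gBasis_mem r hr), add_zero]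
  obtain ⟨q, hq⟩ : ∃ q, m' = 4096 * q := ⟨m' / 4096, by omega⟩
  have hq4096 : q < 4096 := by
    rw [hq] at hm'lt
    norm_num at hm'lt
    omega
  have hq0 : q = 0 := by
    apply high_part_zero q hq4096
    rw [List.all_eq_true]
    intro r hr
    rw [beq_iff_eq]
    have := hdot r hr
    rw [dot_wordOf_eq, hq] at this
    have h2 := (ZMod.natCast_eq_zero_iff _ 2).1 this
    omega
  have hm'0 : m' = 0 := by rw [hq, hq0]
  have hum : u = m := by
    have := hm'0
    rw [hm'] at this
    exact Nat.xor_eq_zero_iff.1 this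
  rw [← hwm, ← hum]
  exact humem

/-- every basis word is the xor of the known blocks with the given indices -/
def leafOK (Fm : ℕ) (K : List ℕ) (combos : List (List ℕ)) : Bool :=
  (gBasis.zip combos).all (fun p => xorL (p.2.map fun i => K.getD i 0) == p.1) &&
    decide (gBasis.length ≤ combos.length) && decide (popc 24 Fm ≤ 5)

theorem mem_zip_of_length_le {α β : Type*} (l : List α) (l' : List β) (h : l.length ≤ l'.length)
    (a : α) (ha : a ∈ l) : ∃ b, (a, b) ∈ l.zip l' := by
  induction l generalizing l' with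
  | nil => simp at ha
  | cons x l ih =>
    cases l' with
    | nil => simp at h
    | cons y l' =>
      rw [List.mem_cons] at ha
      rcases ha with rfl | ha
      · exact ⟨y, by simp⟩
      · obtain ⟨b, hb⟩ := ih l' (by simpa using h) ha
        exact ⟨b, by simp [hb]⟩

theorem goal_of_leaf {Fm : ℕ} {K : List ℕ} {combos : List (List ℕ)}
    (h : leafOK Fm K combos = true) : Goal Fm K := by
  intro B hB hK
  refine ⟨1, ?_⟩
  have hrel : relab 1 B = B := by
    ext b
    simp [relab]
  rw [hrel]
  unfold leafOK at h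
  rw [Bool.and_eq_true, Bool.and_eq_true, List.all_eq_true, decide_eq_true_eq,
    decide_eq_true_eq] at h
  obtain ⟨⟨h1, h2⟩, h3⟩ := h
  -- every block is an octad
  have hoct : ∀ b ∈ B, b ∈ octads := by
    intro b hb
    rw [mem_octads_iff]
    refine ⟨?_, hB.card8 b hb⟩
    apply mem_golayCode_of_dot_gBasis
    intro r hr
    obtain ⟨combo, hcombo⟩ := mem_zip_of_length_le gBasis combos h2 r hr
    have := h1 _ hcombo
    rw [beq_iff_eq] at this
    simp only at this
    rw [← this]
    apply dot_wordOf_xorL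
    intro m hm
    rw [List.mem_map] at hm
    obtain ⟨i, -, rfl⟩ := hm
    by_cases hi : i < K.length
    · rw [List.getD_eq_getElem _ _ hi]
      have hmem : K[i] ∈ K := List.getElem_mem hi
      have hKB := hK _ hmem
      rw [← Cfsg.Agent.Helper8.card_inter_support_cast, support₂_indWord, support₂_wordOf]
      by_cases he : b = setOf K[i]
      · rw [← he, Finset.inter_self, hB.card8 b hb]
        rfl
      · rcases hB.inter b hb _ hKB he with h | h | h <;> rw [h] <;> rfl
    · rw [List.getD_eq_default _ _ (not_lt.1 hi), wordOf_zero, dotProduct_zero]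
  ext b
  constructor
  · intro hb
    exact ⟨hoct b hb, hB.sub b hb⟩
  · rintro ⟨hbo, hFb⟩
    have h8 : b.card = 8 := ((mem_octads_iff b).1 hbo).2
    have hF5 : (setOf Fm).card ≤ 5 := by rw [card_setOf]; exact h3
    obtain ⟨s, hFs, hsb, hs5⟩ := Finset.exists_subsuperset_card_eq hFb hF5 (by omega : 5 ≤ b.card)
    obtain ⟨b', hb', hsb'⟩ := hB.cover s hs5 hFs
    have := (octads_steiner.2 s hs5).unique ⟨hbo, hsb⟩ ⟨hoct b' hb', hsb'⟩
    rw [this]
    exact hb'

/-! ### relabelling rule -/

theorem goal_of_relabel {Fm : ℕ} {K : List ℕ} {t s : List ℕ} (hts : isInvPair t s = true)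
    (hF : pmask s Fm = Fm) (h : Goal Fm (K.map (pmask s))) : Goal Fm K := by
  intro B hB hK
  have hB' := hB.relab (permOfTabs t s)
  rw [image_permOfTabs_setOf hts, hF] at hB'
  have hK' : ∀ m ∈ K.map (pmask s), setOf m ∈ relab (permOfTabs t s) B := by
    intro m hm
    rw [List.mem_map] at hm
    obtain ⟨m0, hm0, rfl⟩ := hm
    rw [← image_permOfTabs_setOf hts]
    exact mem_relab (hK m0 hm0)
  obtain ⟨σ, hσ⟩ := h _ hB' hK'
  exact ⟨σ * permOfTabs t s, by rw [relab_mul, hσ]⟩

/-! ### certificates -/

/-- search certificates; `cand … (cand … nocand)` chains list the candidate blocks of a `branch` -/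
inductive SCert : Type
  | leaf (combos : List (List ℕ)) : SCert
  | relabel (t s : List ℕ) (rest : SCert) : SCert
  | branch (s : ℕ) (syms : List (ℕ × ℕ × ℕ × ℕ)) (cands : SCert) : SCert
  | cand (c : ℕ) (cert : SCert) (rest : SCert) : SCert
  | nocand : SCert

/-- the candidate masks of a chain -/
def candMasks : SCert → List ℕ
  | .cand c _ rest => c :: candMasks rest
  | _ => []

/-- proper nodes (not chains) -/
def isNode : SCert → Bool
  | .leaf _ => true
  | .relabel _ _ _ => true
  | .branch _ _ _ => true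
  | _ => false

/-- decode a table packed in base 32 -/
def decTab : ℕ → ℕ → List ℕ
  | 0, _ => []
  | k + 1, n => Nat.mod n 32 :: decTab k (Nat.div n 32)

theorem length_decTab (k n : ℕ) : (decTab k n).length = k := by
  induction k generalizing n with
  | zero => rfl
  | succ k ih => rw [decTab, List.length_cons, ih]

/-- kernel-friendly version of `isInvPair` -/
def isInvPairR (t s : List ℕ) : Bool :=
  (List.range 24).all fun i =>
    (Nat.blt (t.getD i 0) 24).and ((Nat.blt (s.getD i 0) 24).and
      ((Nat.beq (s.getD (t.getD i 0) 0) i).and (Nat.beq (t.getD (s.getD i 0) 0) i)))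

theorem isInvPairR_eq (t s : List ℕ) : isInvPairR t s = isInvPair t s := by
  unfold isInvPairR isInvPair
  congr 1
  funext i
  rw [natBlt_eq, natBlt_eq, natBeq_eq, natBeq_eq]
  simp only [Bool.and_assoc]

theorem pullMask_eq_pmask {l : List ℕ} (hl : l.length = 24) (m : ℕ) :
    Cfsg.Agent.Helper7.pullMask l m = pmask l m := by
  apply Nat.eq_of_testBit_eq
  intro i
  by_cases hi : i < 24
  · rw [Cfsg.Agent.Helper7.testBit_pullMask l m i (by rw [hl]; exact hi), testBit_pmask _ _ _ hi]
  · have h1 : Cfsg.Agent.Helper7.pullMask l m < 2 ^ 24 := by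
      have := Cfsg.Agent.Helper7.pullMask_lt l m
      rwa [hl] at this
    have h2 := pmask_lt l m
    have hle : 2 ^ 24 ≤ 2 ^ i := Nat.pow_le_pow_right (by norm_num) (not_lt.1 hi)
    rw [Nat.testBit_lt_two_pow (lt_of_lt_of_le h1 hle), Nat.testBit_lt_two_pow (lt_of_lt_of_le h2 hle)]

/-- a symmetry: the table permutation maps the system `c :: K` onto `ci :: K` and fixes `F` -/
def symOK (Fm : ℕ) (K : List ℕ) (c : ℕ) (t s : List ℕ) (ci : ℕ) : Bool :=
  isInvPair t s && (pmask s Fm == Fm) &&
    (ci :: K).all fun m => ((c :: K).map (pmask s)).contains m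

/-- kernel-friendly version of `symOK` (`s` must have length 24) -/
def symOKR (Fm : ℕ) (K : List ℕ) (c : ℕ) (t s : List ℕ) (ci : ℕ) : Bool :=
  (isInvPairR t s).and ((Nat.beq (Cfsg.Agent.Helper7.pullMask s Fm) Fm).and
    ((ci :: K).all fun m => ((c :: K).map (Cfsg.Agent.Helper7.pullMask s)).any (Nat.beq m)))

theorem symOK_of_symOKR {Fm : ℕ} {K : List ℕ} {c : ℕ} {t s : List ℕ} {ci : ℕ} (hs : s.length = 24)
    (h : symOKR Fm K c t s ci = true) : symOK Fm K c t s ci = true := by
  unfold symOKR at h
  rw [Bool.and_eq_true, Bool.and_eq_true, isInvPairR_eq, natBeq_iff, List.all_eq_true] at h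
  obtain ⟨h1, h2, h3⟩ := h
  unfold symOK
  rw [Bool.and_eq_true, Bool.and_eq_true, beq_iff_eq, List.all_eq_true]
  refine ⟨⟨h1, by rw [← pullMask_eq_pmask hs]; exact h2⟩, ?_⟩
  intro m hm
  have := h3 m hm
  rw [List.any_eq_true] at this
  obtain ⟨x, hx, hxm⟩ := this
  rw [natBeq_iff] at hxm
  rw [List.contains_iff_mem, hxm]
  rw [List.mem_map] at hx ⊢
  obtain ⟨y, hy, rfl⟩ := hx
  exact ⟨y, hy, (pullMask_eq_pmask hs y).symm⟩

/-- all compatible candidates are listed or symmetric to a listed one; the symmetries are listed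
in the order of the candidates that need them -/
def coverAux (Fm : ℕ) (K : List ℕ) (cl : List ℕ) : List ℕ → List (ℕ × ℕ × ℕ × ℕ) → Bool
  | [], _ => true
  | c :: cs, [] => ((compatR K c).not.or (cl.any (Nat.beq c))).and (coverAux Fm K cl cs [])
  | c :: cs, e :: es =>
    match (compatR K c).not.or (cl.any (Nat.beq c)) with
    | true => coverAux Fm K cl cs (e :: es)
    | false =>
      (Nat.beq e.1 c).and
        ((match cl[e.2.2.2]? with
          | some ci => symOKR Fm K c (decTab 24 e.2.1) (decTab 24 e.2.2.1) ci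
          | none => false).and
        (coverAux Fm K cl cs es))

def coverOK (Fm : ℕ) (K : List ℕ) (s : ℕ) (cl : List ℕ) (syms : List (ℕ × ℕ × ℕ × ℕ)) : Bool :=
  coverAux Fm K cl (candsR K s) syms

theorem skip_spec {K cl : List ℕ} {c : ℕ} (h : ((compatR K c).not.or (cl.any (Nat.beq c))) = true)
    (hcomp : compatB K c = true) : c ∈ cl := by
  rw [compatR_eq, hcomp] at h
  simp only [Bool.not_true, Bool.false_or, List.any_eq_true, natBeq_iff] at h
  obtain ⟨x, hx, rfl⟩ := h
  exact hx

theorem coverAux_spec (Fm : ℕ) (K : List ℕ) (cl : List ℕ) :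
    ∀ (cs : List ℕ) (syms : List (ℕ × ℕ × ℕ × ℕ)), coverAux Fm K cl cs syms = true →
    ∀ c ∈ cs, compatB K c = true →
      c ∈ cl ∨ ∃ t s ci, ci ∈ cl ∧ symOK Fm K c t s ci = true := by
  intro cs
  induction cs with
  | nil => intro _ _ c hc; simp at hc
  | cons c0 cs ih =>
    intro syms h c hc hcomp
    rw [List.mem_cons] at hc
    cases syms with
    | nil =>
      rw [coverAux, Bool.and_eq_true] at h
      obtain ⟨hskip, hrest⟩ := h
      rcases hc with rfl | hc
      · exact Or.inl (skip_spec hskip hcomp)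
      · exact ih [] hrest c hc hcomp
    | cons e es =>
      rw [coverAux] at h
      cases hskip : (compatR K c0).not.or (cl.any (Nat.beq c0)) with
      | true =>
        rw [hskip] at h
        rcases hc with rfl | hc
        · exact Or.inl (skip_spec hskip hcomp)
        · exact ih (e :: es) h c hc hcomp
      | false =>
        rw [hskip] at h
        simp only [Bool.and_eq_true, natBeq_iff] at h
        obtain ⟨he1, he2, hrest⟩ := h
        rcases hc with rfl | hc
        · right
          cases hci : cl[e.2.2.2]? with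
          | none => rw [hci] at he2; simp at he2
          | some ci =>
            rw [hci] at he2
            exact ⟨_, _, ci, List.mem_of_getElem? hci,
              symOK_of_symOKR (length_decTab 24 _) he2⟩
        · exact ih es hrest c hc hcomp

/-- the checker -/
def chk (Fm : ℕ) : SCert → List ℕ → Bool
  | .leaf combos, K => leafOK Fm K combos
  | .relabel t s rest, K =>
    isInvPair t s && (pmask s Fm == Fm) && isNode rest && chk Fm rest (K.map (pmask s))
  | .branch s syms cs, K =>
    (popc 24 s == 5) && decide (s < 2 ^ 24) && (Fm &&& s == Fm) &&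
      coverOK Fm K s (candMasks cs) syms && chk Fm cs K
  | .cand c cert rest, K => decide (c < 2 ^ 24) && isNode cert && chk Fm cert (c :: K) && chk Fm rest K
  | .nocand, _ => true

theorem goal_of_sym {Fm : ℕ} {K : List ℕ} {c ci : ℕ} {t s : List ℕ}
    (h : symOK Fm K c t s ci = true) (hg : Goal Fm (ci :: K)) : Goal Fm (c :: K) := by
  unfold symOK at h
  rw [Bool.and_eq_true, Bool.and_eq_true, beq_iff_eq, List.all_eq_true] at h
  obtain ⟨⟨hts, hF⟩, hall⟩ := h
  intro B hB hK
  have hB' := hB.relab (permOfTabs t s)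
  rw [image_permOfTabs_setOf hts, hF] at hB'
  have hK' : ∀ m ∈ ci :: K, setOf m ∈ relab (permOfTabs t s) B := by
    intro m hm
    have := hall m hm
    rw [List.contains_iff_mem, List.mem_map] at this
    obtain ⟨m0, hm0, rfl⟩ := this
    rw [← image_permOfTabs_setOf hts]
    exact mem_relab (hK m0 hm0)
  obtain ⟨σ, hσ⟩ := hg _ hB' hK'
  exact ⟨σ * permOfTabs t s, by rw [relab_mul, hσ]⟩

theorem goal_of_branch {Fm : ℕ} {K : List ℕ} {s : ℕ} {cl : List ℕ}
    {syms : List (ℕ × ℕ × ℕ × ℕ)} (hKlt : ∀ m ∈ K, m < 2 ^ 24)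
    (h5 : popc 24 s = 5) (hslt : s < 2 ^ 24) (hFs : Fm &&& s = Fm)
    (hcov : coverOK Fm K s cl syms = true) (hcl : ∀ c ∈ cl, Goal Fm (c :: K)) : Goal Fm K := by
  intro B hB hK
  have hs5 : (setOf s).card = 5 := by rw [card_setOf, h5]
  obtain ⟨b, hb, hsb⟩ := hB.cover (setOf s) hs5 (setOf_subset_of_and_eq hFs)
  set mc := maskOfSet b with hmc
  have hmclt : mc < 2 ^ 24 := maskOfSet_lt b
  have hmcb : setOf mc = b := setOf_maskOfSet b
  have h8 : popc 24 mc = 8 := by rw [← card_setOf, hmcb, hB.card8 b hb]
  have hsub : s &&& mc = s := and_eq_of_subset hslt (by rw [hmcb]; exact hsb)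
  have hcomp : compatB K mc = true := compatB_of hB hK hKlt (by rw [hmcb]; exact hb) hmclt
  have hmem := mem_candsK hKlt hslt hmclt h5 h8 hsub hcomp
  rw [← candsR_eq] at hmem
  have hK' : ∀ m ∈ mc :: K, setOf m ∈ B := by
    intro m hm
    rw [List.mem_cons] at hm
    rcases hm with rfl | hm
    · rw [hmcb]; exact hb
    · exact hK m hm
  rcases coverAux_spec Fm K cl _ _ hcov mc hmem hcomp with h | ⟨t, s', ci, hci, hsym⟩
  · exact hcl mc h B hB hK'
  · exact goal_of_sym hsym (hcl ci hci) B hB hK'

theorem chk_sound (Fm : ℕ) : ∀ (x : SCert) (K : List ℕ), (∀ m ∈ K, m < 2 ^ 24) →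
    chk Fm x K = true → (∀ c ∈ candMasks x, Goal Fm (c :: K)) ∧ (isNode x = true → Goal Fm K) := by
  intro x
  induction x with
  | leaf combos =>
    intro K _ h
    exact ⟨by simp [candMasks], fun _ => goal_of_leaf h⟩
  | relabel t s rest ih =>
    intro K hK h
    simp only [chk, Bool.and_eq_true, beq_iff_eq] at h
    obtain ⟨⟨⟨hts, hF⟩, hnode⟩, hrest⟩ := h
    refine ⟨by simp [candMasks], fun _ => ?_⟩
    have hK' : ∀ m ∈ K.map (pmask s), m < 2 ^ 24 := by
      intro m hm
      rw [List.mem_map] at hm
      obtain ⟨m0, -, rfl⟩ := hm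
      exact pmask_lt s m0
    exact goal_of_relabel hts hF ((ih _ hK' hrest).2 hnode)
  | branch s syms cs ih =>
    intro K hK h
    simp only [chk, Bool.and_eq_true, beq_iff_eq, decide_eq_true_eq] at h
    obtain ⟨⟨⟨⟨h5, hslt⟩, hFs⟩, hcov⟩, hcs⟩ := h
    refine ⟨by simp [candMasks], fun _ => ?_⟩
    exact goal_of_branch hK h5 hslt hFs hcov (ih K hK hcs).1
  | cand c cert rest ih1 ih2 =>
    intro K hK h
    simp only [chk, Bool.and_eq_true, decide_eq_true_eq] at h
    obtain ⟨⟨⟨hclt, hnode⟩, hcert⟩, hrest⟩ := h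
    refine ⟨?_, fun hn => by simp [isNode] at hn⟩
    intro c' hc'
    rw [candMasks, List.mem_cons] at hc'
    rcases hc' with rfl | hc'
    · have hK' : ∀ m ∈ c' :: K, m < 2 ^ 24 := by
        intro m hm
        rw [List.mem_cons] at hm
        rcases hm with rfl | hm
        · exact hclt
        · exact hK m hm
      exact (ih1 (c' :: K) hK' hcert).2 hnode
    · exact (ih2 K hK hrest).1 c' hc'
  | nocand =>
    intro K _ _
    exact ⟨by simp [candMasks], fun hn => by simp [isNode] at hn⟩

end Cfsg.Agent.Helper92
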